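import Mathlib

/-!
Powers of 2 × 2 matrices of determinant 1 through the trace, and consequences for element orders
in `SL(2, F)`.
-/

set_option autoImplicit false

open Matrix

namespace CfsgLib.Spectrum

variable {F : Type*} [Field F]

/-- Coefficients `(a, b)` with `A ^ n = a • A + b • 1` for `A ∈ SL(2, F)` of trace `t`. -/
def sl2Coef {R : Type*} [CommRing R] (t : R) : ℕ → R × R
  | 0 => (0, 1)
  | n + 1 => ((sl2Coef t n).1 * t + (sl2Coef t n).2, -(sl2Coef t n).1)

theorem sl2_mul_self (A : Matrix.SpecialLinearGroup (Fin 2) F) :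
    (A : Matrix (Fin 2) (Fin 2) F) * A =
      (A : Matrix (Fin 2) (Fin 2) F).trace • (A : Matrix (Fin 2) (Fin 2) F) - 1 := by
  have h := A.det_coe
  rw [det_fin_two] at h
  ext i j
  fin_cases i <;> fin_cases j <;> simp [mul_apply, Fin.sum_univ_two, trace_fin_two] <;>
    first | linear_combination h | linear_combination (-1 : F) * h | linear_combination (0 : F) * h

theorem sl2_pow_eq (A : Matrix.SpecialLinearGroup (Fin 2) F) (n : ℕ) :
    ((A ^ n : Matrix.SpecialLinearGroup (Fin 2) F) : Matrix (Fin 2) (Fin 2) F) =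
      (sl2Coef (A : Matrix (Fin 2) (Fin 2) F).trace n).1 • (A : Matrix (Fin 2) (Fin 2) F) +
        (sl2Coef (A : Matrix (Fin 2) (Fin 2) F).trace n).2 • 1 := by
  change (A : Matrix (Fin 2) (Fin 2) F) ^ n = _
  induction n with
  | zero => simp [sl2Coef]
  | succ n ih =>
    rw [pow_succ, ih, add_mul, smul_mul_assoc, smul_mul_assoc, sl2_mul_self, one_mul]
    simp only [sl2Coef, smul_sub, smul_smul, add_smul, neg_smul]
    abel

theorem sl2_pow_eq_one (A : Matrix.SpecialLinearGroup (Fin 2) F) (n : ℕ)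
    (h : sl2Coef (A : Matrix (Fin 2) (Fin 2) F).trace n = (0, 1)) : A ^ n = 1 := by
  apply Subtype.ext
  change ((A ^ n : Matrix.SpecialLinearGroup (Fin 2) F) : Matrix (Fin 2) (Fin 2) F) = 1
  rw [sl2_pow_eq, h]
  simp

theorem sl2_pow_eq_neg_one (A : Matrix.SpecialLinearGroup (Fin 2) F) (n : ℕ)
    (h : sl2Coef (A : Matrix (Fin 2) (Fin 2) F).trace n = (0, -1)) : A ^ n = -1 := by
  apply Subtype.ext
  change ((A ^ n : Matrix.SpecialLinearGroup (Fin 2) F) : Matrix (Fin 2) (Fin 2) F) = -1
  rw [sl2_pow_eq, h]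
  simp

section CharTwo

variable [CharP F 2]

theorem sl2_sq_eq_one_of_trace_zero (A : Matrix.SpecialLinearGroup (Fin 2) F)
    (h : (A : Matrix (Fin 2) (Fin 2) F).trace = 0) : A ^ 2 = 1 := by
  refine sl2_pow_eq_one A 2 ?_
  simp [sl2Coef, h, CharTwo.neg_eq]

/-- In characteristic 2 an element of `SL(2, F)` fixing a non-zero vector squares to `1`. -/
theorem sl2_sq_eq_one_of_fixed (A : Matrix.SpecialLinearGroup (Fin 2) F) {v : Fin 2 → F} (hv : v ≠ 0)
    (h : (A : Matrix (Fin 2) (Fin 2) F) *ᵥ v = v) : A ^ 2 = 1 := by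
  refine sl2_sq_eq_one_of_trace_zero A ?_
  have h0 : ((A : Matrix (Fin 2) (Fin 2) F) - 1).det = 0 :=
    exists_mulVec_eq_zero_iff.1 ⟨v, hv, by rw [sub_mulVec, h, one_mulVec, sub_self]⟩
  have hd := A.det_coe
  rw [det_fin_two] at hd h0
  simp [Matrix.sub_apply] at h0
  rw [trace_fin_two]
  linear_combination hd - h0 + CharTwo.two_eq_zero (R := F)

/-- In characteristic 2 there is no element of order `2 * r`, `r > 1`, in `SL(2, F)`
(an element whose `2 r`-th power is `1` has `r`-th power or square `1`). -/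
theorem sl2_charTwo_pow_two_mul (A : Matrix.SpecialLinearGroup (Fin 2) F) (r : ℕ) (h : A ^ (2 * r) = 1) :
    A ^ r = 1 ∨ A ^ 2 = 1 := by
  by_cases ht : (A : Matrix (Fin 2) (Fin 2) F).trace = 0
  · exact Or.inr (sl2_sq_eq_one_of_trace_zero A ht)
  left
  set t := (A : Matrix (Fin 2) (Fin 2) F).trace with htdef
  set a := (sl2Coef t r).1
  set b := (sl2Coef t r).2
  set M := (A : Matrix (Fin 2) (Fin 2) F)
  have h1 : (a • M + b • 1) * (a • M + b • 1) = 1 := by
    have hh : A ^ r * A ^ r = 1 := by rw [← pow_add, ← two_mul, h]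
    rw [← sl2_pow_eq]
    exact congrArg Subtype.val hh
  have h2 : (a * a * t) • M + (a * a + b * b) • (1 : Matrix (Fin 2) (Fin 2) F) = 1 := by
    refine Eq.trans ?_ h1
    rw [add_mul, mul_add, mul_add, smul_mul_assoc, smul_mul_assoc, smul_mul_assoc, smul_mul_assoc,
      mul_smul_comm, mul_smul_comm, mul_smul_comm, mul_smul_comm, sl2_mul_self, one_mul, mul_one,
      one_mul, ← htdef]
    ext i j
    simp only [Matrix.add_apply, Matrix.smul_apply, Matrix.sub_apply, smul_eq_mul]
    linear_combination (a * a * (1 : Matrix (Fin 2) (Fin 2) F) i j - a * b * M i j) *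
      CharTwo.two_eq_zero (R := F)
  by_cases ha : a = 0
  · apply Subtype.ext
    change ((A ^ r : Matrix.SpecialLinearGroup (Fin 2) F) : Matrix (Fin 2) (Fin 2) F) = 1
    rw [ha] at h2
    have hb : b = 1 := by
      have := congrFun (congrFun h2 0) 0
      simp at this
      exact (mul_self_eq_one_iff.1 this).elim id fun hb => by rw [hb, CharTwo.neg_eq]
    rw [sl2_pow_eq, ← htdef]
    change a • M + b • 1 = 1
    rw [ha, hb]; simp
  · -- then `A` is scalar, so its trace vanishes
    exfalso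
    have hc : ∀ i j, (a * a * t) * M i j + (a * a + b * b) * (1 : Matrix (Fin 2) (Fin 2) F) i j
        = (1 : Matrix (Fin 2) (Fin 2) F) i j := fun i j => by
      simpa using congrFun (congrFun h2 i) j
    have h00 := hc 0 0
    have h11 := hc 1 1
    simp only [one_apply_eq] at h00 h11
    have : (a * a * t) * t = 0 := by
      nth_rewrite 2 [htdef]
      rw [trace_fin_two]
      linear_combination h00 + h11 - (a * a + b * b - 1) * CharTwo.two_eq_zero (R := F)
    simp [ha, ht] at this

end CharTwo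

/-- The natural action of `SL(n, F)` on column vectors, written multiplicatively. -/
def slVecAct (n : Type*) [Fintype n] [DecidableEq n] (F : Type*) [Field F] :
    Matrix.SpecialLinearGroup n F →* MulAut (Multiplicative (n → F)) where
  toFun A := AddEquiv.toMultiplicative (Matrix.SpecialLinearGroup.toLin' A).toAddEquiv
  map_one' := by ext v; simp
  map_mul' A B := by ext v; simp

theorem slVecAct_apply {n : Type*} [Fintype n] [DecidableEq n] (A : Matrix.SpecialLinearGroup n F)
    (v : Multiplicative (n → F)) :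
    (slVecAct n F A v).toAdd = (A : Matrix n n F) *ᵥ v.toAdd := by
  simp [slVecAct, Matrix.SpecialLinearGroup.toLin'_apply, Matrix.toLin'_apply]

theorem sl2_center_eq_bot [CharP F 2] :
    Subgroup.center (Matrix.SpecialLinearGroup (Fin 2) F) = ⊥ := by
  rw [Subgroup.eq_bot_iff_forall]
  intro A hA
  obtain ⟨r, hr, hA'⟩ := Matrix.SpecialLinearGroup.mem_center_iff.1 hA
  have : r = 1 := by
    rw [Fintype.card_fin, pow_two] at hr
    exact (mul_self_eq_one_iff.1 hr).elim id fun h => by rw [h, CharTwo.neg_eq]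
  apply Subtype.ext
  change (A : Matrix (Fin 2) (Fin 2) F) = 1
  rw [← hA', this, map_one]

/-- `PSL(2, F)` and `SL(2, F)` agree in characteristic 2. -/
noncomputable def pslEquivSL2 [CharP F 2] :
    ProjectiveSpecialLinearGroup (Fin 2) F ≃* Matrix.SpecialLinearGroup (Fin 2) F :=
  (QuotientGroup.quotientMulEquivOfEq sl2_center_eq_bot).trans QuotientGroup.quotientBot

/-- A transvection of `SL(2, F)`. -/
def sl2Shear (c : F) : Matrix.SpecialLinearGroup (Fin 2) F :=
  ⟨!![1, c; 0, 1], by simp [det_fin_two]⟩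

theorem sl2Shear_ne_one {c : F} (hc : c ≠ 0) : sl2Shear c ≠ 1 := fun h => hc (by
  simpa [sl2Shear] using congrFun (congrFun (congrArg Subtype.val h) 0) 1)

theorem sl2_orderOf_shear [CharP F 2] : orderOf (sl2Shear (1 : F)) = 2 := by
  haveI : Fact (Nat.Prime 2) := ⟨Nat.prime_two⟩
  refine orderOf_eq_prime (sl2_sq_eq_one_of_trace_zero _ ?_) (sl2Shear_ne_one one_ne_zero)
  simp [sl2Shear, trace_fin_two, CharTwo.add_self_eq_zero]

theorem two_dvd_card_sl2 [CharP F 2] [Finite F] :
    2 ∣ Nat.card (Matrix.SpecialLinearGroup (Fin 2) F) := by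
  have h := orderOf_dvd_natCard (sl2Shear (1 : F))
  rwa [sl2_orderOf_shear] at h

/-- The matrix `[[t, -1], [1, 0]]` of trace `t`. -/
def sl2OfTrace (t : F) : Matrix.SpecialLinearGroup (Fin 2) F :=
  ⟨!![t, -1; 1, 0], by simp [det_fin_two]⟩

theorem sl2OfTrace_trace (t : F) : (sl2OfTrace t : Matrix (Fin 2) (Fin 2) F).trace = t := by
  simp [sl2OfTrace, trace_fin_two]

theorem sl2OfTrace_ne_scalar (t r : F) :
    Matrix.scalar (Fin 2) r ≠ (sl2OfTrace t : Matrix (Fin 2) (Fin 2) F) := fun h => by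
  simpa [sl2OfTrace] using congrFun (congrFun h 1) 0

end CfsgLib.Spectrum
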