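import Mathlib

/-!
Element orders of `PGL(2, q)` and `PSL(2, q)` for odd `q`: every element is split semisimple,
non-split semisimple, or unipotent up to scalars. The tori `a ^ 2 - ε b ^ 2 = 1` are cyclic.
-/

set_option autoImplicit false

namespace CfsgLib.Spectrum

open Matrix

variable {F : Type*} [Field F] [Fintype F]

theorem quad_sq (M : Matrix (Fin 2) (Fin 2) F) :
    ((2 : F) • M - M.trace • 1) * ((2 : F) • M - M.trace • 1) =
      (M.trace ^ 2 - 4 * M.det) • (1 : Matrix (Fin 2) (Fin 2) F) := by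
  ext i j
  fin_cases i <;> fin_cases j <;>
    simp [Matrix.mul_apply, Fin.sum_univ_two, trace_fin_two, det_fin_two] <;> ring

/-- Trichotomy for a `2 × 2` matrix over a finite field of odd characteristic. -/
theorem quad_cases (h2 : (2 : F) ≠ 0) {p k : ℕ} [hp : Fact p.Prime] [CharP F p]
    (hq : Fintype.card F = p ^ k) (M : Matrix (Fin 2) (Fin 2) F) :
    (M.trace ^ 2 - 4 * M.det = 0 ∧ M ^ p = ((2 : F)⁻¹ * M.trace) ^ p • 1) ∨
      M ^ Fintype.card F = M ∨
      M ^ (Fintype.card F + 1) = M.det • (1 : Matrix (Fin 2) (Fin 2) F) := by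
  classical
  set q := Fintype.card F with hqdef
  set N := (2 : F) • M - M.trace • (1 : Matrix (Fin 2) (Fin 2) F) with hN
  set D := M.trace ^ 2 - 4 * M.det with hD
  have hNN : N * N = D • 1 := quad_sq M
  haveI : CharP (Matrix (Fin 2) (Fin 2) F) p := inferInstance
  have hexp : ∀ j, ((2 : F) • M) ^ p ^ j = N ^ p ^ j + (M.trace ^ p ^ j) • 1 := by
    intro j
    have hc : Commute N (M.trace • (1 : Matrix (Fin 2) (Fin 2) F)) :=
      (Commute.one_right N).smul_right _
    have h := add_pow_char_pow_of_commute p j hc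
    rw [show N + M.trace • (1 : Matrix (Fin 2) (Fin 2) F) = (2 : F) • M by rw [hN]; abel,
      smul_pow M.trace 1, one_pow] at h
    exact h
  have hfr : ∀ a : F, a ^ q = a := FiniteField.pow_card
  have h2M : ∀ n, ((2 : F) • M) ^ n = (2 : F) ^ n • M ^ n := fun n => by
    rw [smul_pow]
  by_cases hD0 : D = 0
  · left
    refine ⟨hD0, ?_⟩
    have hN0 : N ^ p = 0 := by
      rw [hD0, zero_smul] at hNN
      exact pow_eq_zero_of_le hp.out.two_le (by rw [sq, hNN])
    have h := hexp 1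
    rw [pow_one, hN0, zero_add, h2M] at h
    rw [mul_pow, mul_smul, ← h, smul_smul, ← mul_pow, inv_mul_cancel₀ h2, one_pow, one_smul]
  · right
    have hpodd : Odd q := Nat.odd_iff.2 (FiniteField.odd_card_of_char_ne_two fun e => h2 (by
      haveI := ringChar.of_eq e
      exact CharTwo.two_eq_zero))
    obtain ⟨t, ht⟩ := hpodd
    have hNq : N ^ q = (D ^ t) • N := by
      rw [ht, pow_succ, pow_mul, sq, hNN, smul_pow, one_pow, smul_mul_assoc, one_mul]
    have h := hexp k
    rw [← hq, hNq, hfr, h2M, hfr] at h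
    rcases FiniteField.pow_dichotomy (fun e => h2 (by
      haveI := ringChar.of_eq e
      exact CharTwo.two_eq_zero)) hD0 with e | e
    · left
      rw [show Fintype.card F / 2 = t by omega] at e
      rw [e, one_smul, hN, sub_add_cancel] at h
      exact smul_right_injective _ h2 h
    · right
      rw [show Fintype.card F / 2 = t by omega] at e
      have hMq : M ^ q = M.trace • 1 - M := by
        rw [e, neg_one_smul, hN, neg_sub] at h
        refine smul_right_injective _ h2 (show (2 : F) • M ^ q = (2 : F) • (M.trace • 1 - M) from ?_)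
        rw [h, smul_sub, two_smul F (M.trace • (1 : Matrix (Fin 2) (Fin 2) F))]
        abel
      rw [pow_succ, hMq, sub_mul, smul_mul_assoc, one_mul]
      ext i j
      fin_cases i <;> fin_cases j <;>
        simp [Matrix.mul_apply, Fin.sum_univ_two, trace_fin_two, det_fin_two] <;> ring

omit [Fintype F] in
/-- An element of `SL(2)` squaring to `1` is `1` or `-1`. -/
theorem sl2_eq_one_or_neg_one_of_sq (h2 : (2 : F) ≠ 0) {A : Matrix.SpecialLinearGroup (Fin 2) F}
    (h : A ^ 2 = 1) : A = 1 ∨ A = -1 := by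
  have hA : (A : Matrix (Fin 2) (Fin 2) F) * A = 1 := by
    rw [← Matrix.SpecialLinearGroup.coe_mul, ← sq, h, Matrix.SpecialLinearGroup.coe_one]
  have hd := A.det_coe
  rw [det_fin_two] at hd
  have e00 := congrFun (congrFun hA 0) 0
  have e01 := congrFun (congrFun hA 0) 1
  have e10 := congrFun (congrFun hA 1) 0
  have e11 := congrFun (congrFun hA 1) 1
  simp [Matrix.mul_apply, Fin.sum_univ_two] at e00 e01 e10 e11
  set a := (A : Matrix (Fin 2) (Fin 2) F) 0 0
  set b := (A : Matrix (Fin 2) (Fin 2) F) 0 1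
  set c := (A : Matrix (Fin 2) (Fin 2) F) 1 0
  set d := (A : Matrix (Fin 2) (Fin 2) F) 1 1
  have hs : a + d ≠ 0 := fun e => h2 (by
    linear_combination (-1 : F) * e00 + a * e - hd)
  have hb : b = 0 := by
    rcases mul_eq_zero.1 (show b * (a + d) = 0 by linear_combination e01) with h | h
    · exact h
    · exact absurd h hs
  have hc : c = 0 := by
    rcases mul_eq_zero.1 (show c * (a + d) = 0 by linear_combination e10) with h | h
    · exact h
    · exact absurd h hs
  have hda : d = a := by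
    have : a * (a - d) = 0 := by linear_combination e00 - hd - 2 * c * hb
    rcases mul_eq_zero.1 this with h | h
    · exfalso; rw [h, hb] at hd; simp at hd
    · exact (sub_eq_zero.1 h).symm
  have ha : a = 1 ∨ a = -1 := mul_self_eq_one_iff.1 (by linear_combination e00 - c * hb)
  rcases ha with ha | ha
  · left
    ext i j
    fin_cases i <;> fin_cases j <;> simp [a, b, c, d] at * <;> simp_all
  · right
    ext i j
    fin_cases i <;> fin_cases j <;> simp [a, b, c, d] at * <;> simp_all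

omit [Fintype F] in
/-- The torus `a ^ 2 - ε b ^ 2 = 1`. -/
def sl2Torus (ε : F) : Subgroup (Matrix.SpecialLinearGroup (Fin 2) F) where
  carrier := {A | (A : Matrix (Fin 2) (Fin 2) F) 1 1 = (A : Matrix (Fin 2) (Fin 2) F) 0 0 ∧
    (A : Matrix (Fin 2) (Fin 2) F) 0 1 = ε * (A : Matrix (Fin 2) (Fin 2) F) 1 0}
  one_mem' := by simp
  mul_mem' {A B} ha hb := by
    obtain ⟨a1, a2⟩ := ha
    obtain ⟨b1, b2⟩ := hb
    constructor <;> simp [Matrix.mul_apply, Fin.sum_univ_two, a1, a2, b1, b2] <;> ring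
  inv_mem' {A} ha := by
    obtain ⟨a1, a2⟩ := ha
    constructor <;> simp [Matrix.SpecialLinearGroup.coe_inv, adjugate_fin_two, a1, a2]

/-- The element with parameters `(a, b)`. -/
def torusMk {ε a b : F} (h : a * a - ε * b * b = 1) : sl2Torus ε :=
  ⟨⟨!![a, ε * b; b, a], by rw [det_fin_two_of]; exact h⟩, by constructor <;> simp⟩

omit [Fintype F] in
theorem torus_det {ε : F} (A : sl2Torus ε) :
    ((A : Matrix.SpecialLinearGroup (Fin 2) F) : Matrix (Fin 2) (Fin 2) F) 0 0 *
        ((A : Matrix.SpecialLinearGroup (Fin 2) F) : Matrix (Fin 2) (Fin 2) F) 0 0 -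
      ε * ((A : Matrix.SpecialLinearGroup (Fin 2) F) : Matrix (Fin 2) (Fin 2) F) 1 0 *
        ((A : Matrix.SpecialLinearGroup (Fin 2) F) : Matrix (Fin 2) (Fin 2) F) 1 0 = 1 := by
  have h := (A : Matrix.SpecialLinearGroup (Fin 2) F).det_coe
  rw [det_fin_two, A.2.1, A.2.2] at h
  exact h

omit [Fintype F] in
theorem torus_ext {ε : F} {A B : sl2Torus ε}
    (h0 : ((A : Matrix.SpecialLinearGroup (Fin 2) F) : Matrix (Fin 2) (Fin 2) F) 0 0 =
      ((B : Matrix.SpecialLinearGroup (Fin 2) F) : Matrix (Fin 2) (Fin 2) F) 0 0)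
    (h1 : ((A : Matrix.SpecialLinearGroup (Fin 2) F) : Matrix (Fin 2) (Fin 2) F) 1 0 =
      ((B : Matrix.SpecialLinearGroup (Fin 2) F) : Matrix (Fin 2) (Fin 2) F) 1 0) : A = B := by
  apply Subtype.ext
  apply Subtype.ext
  ext i j
  fin_cases i <;> fin_cases j
  · exact h0
  · exact A.2.2.trans ((congrArg (ε * ·) h1).trans B.2.2.symm)
  · exact h1
  · exact A.2.1.trans (h0.trans B.2.1.symm)

theorem isCyclic_sl2Torus (h2 : (2 : F) ≠ 0) {ε : F} (hε : ε ≠ 0) : IsCyclic (sl2Torus ε) := by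
  obtain ⟨r, hr⟩ := IsAlgClosed.exists_eq_mul_self (algebraMap F (AlgebraicClosure F) ε)
  set i := algebraMap F (AlgebraicClosure F)
  let φ : sl2Torus ε →* AlgebraicClosure F :=
    { toFun := fun A => i (((A : Matrix.SpecialLinearGroup (Fin 2) F) : Matrix (Fin 2) (Fin 2) F) 0 0)
        + r * i (((A : Matrix.SpecialLinearGroup (Fin 2) F) : Matrix (Fin 2) (Fin 2) F) 1 0)
      map_one' := by simp
      map_mul' := fun A B => by
        simp only [Subgroup.coe_mul, Matrix.SpecialLinearGroup.coe_mul, Matrix.mul_apply,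
          Fin.sum_univ_two, map_add, map_mul, A.2.1, A.2.2]
        linear_combination (i (((A : Matrix.SpecialLinearGroup (Fin 2) F) : Matrix (Fin 2) (Fin 2) F) 1 0) *
          i (((B : Matrix.SpecialLinearGroup (Fin 2) F) : Matrix (Fin 2) (Fin 2) F) 1 0)) * hr }
  refine isCyclic_of_subgroup_isDomain φ ((injective_iff_map_eq_one φ).2 fun A hA => ?_)
  have hd := congrArg i (torus_det A)
  simp only [map_sub, map_mul, map_one] at hd
  change i _ + r * i _ = 1 at hA
  set a := ((A : Matrix.SpecialLinearGroup (Fin 2) F) : Matrix (Fin 2) (Fin 2) F) 0 0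
  set b := ((A : Matrix.SpecialLinearGroup (Fin 2) F) : Matrix (Fin 2) (Fin 2) F) 1 0
  have h' : i a - r * i b = 1 := by
    linear_combination hd + (i b * i b) * hr - (i a - r * i b) * hA
  have h2' : (2 : AlgebraicClosure F) ≠ 0 := by
    rw [← map_ofNat i 2, Ne, map_eq_zero]; exact h2
  have hr0 : r ≠ 0 := fun e => hε ((map_eq_zero i).1 (by rw [hr, e, mul_zero]))
  have ha : a = 1 := i.injective (mul_left_cancel₀ h2' (by rw [map_one]; linear_combination hA + h'))
  have hb : b = 0 := i.injective (mul_left_cancel₀ (mul_ne_zero h2' hr0) (by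
    rw [map_zero]; linear_combination hA - h'))
  refine torus_ext ?_ ?_
  · simpa using ha
  · simpa using hb

omit [Fintype F] in
theorem param_det {ε t : F} (h : 1 - ε * t * t ≠ 0) :
    (1 + ε * t * t) / (1 - ε * t * t) * ((1 + ε * t * t) / (1 - ε * t * t)) -
      ε * (2 * t / (1 - ε * t * t)) * (2 * t / (1 - ε * t * t)) = 1 := by
  rw [div_mul_div_comm, mul_assoc ε (2 * t / _), div_mul_div_comm, mul_div_assoc', div_sub_div_same,
    div_eq_one_iff_eq (mul_ne_zero h h)]
  ring

omit [Fintype F] in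
theorem param_add_one (h2 : (2 : F) ≠ 0) {ε t : F} (h : 1 - ε * t * t ≠ 0)
    (e : (1 + ε * t * t) / (1 - ε * t * t) = -1) : False := by
  rw [div_eq_iff h] at e
  exact h2 (by linear_combination e)

omit [Fintype F] in
theorem param_inj (h2 : (2 : F) ≠ 0) {ε t1 t2 : F} (h1 : 1 - ε * t1 * t1 ≠ 0)
    (h2' : 1 - ε * t2 * t2 ≠ 0)
    (e0 : (1 + ε * t1 * t1) / (1 - ε * t1 * t1) = (1 + ε * t2 * t2) / (1 - ε * t2 * t2))
    (e1 : 2 * t1 / (1 - ε * t1 * t1) = 2 * t2 / (1 - ε * t2 * t2)) : t1 = t2 := by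
  rw [div_eq_div_iff h1 h2'] at e0 e1
  have h3 : (1 - ε * t1 * t1) = (1 - ε * t2 * t2) :=
    mul_left_cancel₀ h2 (by linear_combination -e0)
  rw [h3] at e1
  exact mul_left_cancel₀ h2 (mul_right_cancel₀ h2' e1)

omit [Fintype F] in
theorem param_surj (h2 : (2 : F) ≠ 0) {ε a b : F} (hd : a * a - ε * b * b = 1) (h : a + 1 ≠ 0) :
    ¬ ε * (b / (a + 1)) * (b / (a + 1)) = 1 ∧
    (1 + ε * (b / (a + 1)) * (b / (a + 1))) / (1 - ε * (b / (a + 1)) * (b / (a + 1))) = a ∧
    2 * (b / (a + 1)) / (1 - ε * (b / (a + 1)) * (b / (a + 1))) = b := by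
  have key : 1 - ε * (b / (a + 1)) * (b / (a + 1)) = 2 / (a + 1) := by
    have e : ε * (b / (a + 1)) * (b / (a + 1)) = (a * a - 1) / ((a + 1) * (a + 1)) := by
      rw [mul_assoc ε, div_mul_div_comm, mul_div_assoc']
      congr 1
      linear_combination -hd
    rw [e, eq_div_iff h]
    field_simp
    ring
  refine ⟨fun e => div_ne_zero h2 h (by rw [← key, e, sub_self]), ?_, ?_⟩
  · rw [key, show 1 + ε * (b / (a + 1)) * (b / (a + 1)) = 2 - 2 / (a + 1) by linear_combination -key]
    field_simp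
    ring
  · rw [key]
    field_simp

theorem card_sl2Torus (h2 : (2 : F) ≠ 0) {ε : F} (hε : ε ≠ 0) :
    Nat.card (sl2Torus ε) + Nat.card {t : F // ε * t * t = 1} = Fintype.card F + 1 := by
  classical
  let aP : {t : F // ¬ ε * t * t = 1} → F := fun t => (1 + ε * t.1 * t.1) / (1 - ε * t.1 * t.1)
  let bP : {t : F // ¬ ε * t * t = 1} → F := fun t => 2 * t.1 / (1 - ε * t.1 * t.1)
  have hne : ∀ t : {t : F // ¬ ε * t * t = 1}, 1 - ε * t.1 * t.1 ≠ 0 := fun t =>
    sub_ne_zero.2 (Ne.symm t.2)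
  have hP : ∀ t, aP t * aP t - ε * bP t * bP t = 1 := fun t => param_det (hne t)
  let F' : Option {t : F // ¬ ε * t * t = 1} → sl2Torus ε := fun o =>
    o.elim (torusMk (a := -1) (b := 0) (by ring)) fun t => torusMk (hP t)
  have he : Nat.card (sl2Torus ε) = Nat.card (Option {t : F // ¬ ε * t * t = 1}) := by
    refine (Nat.card_eq_of_bijective F' ⟨?_, ?_⟩).symm
    · intro o1 o2 e
      have e0 := congrArg (fun A : sl2Torus ε =>
        ((A : Matrix.SpecialLinearGroup (Fin 2) F) : Matrix (Fin 2) (Fin 2) F) 0 0) e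
      have e1 := congrArg (fun A : sl2Torus ε =>
        ((A : Matrix.SpecialLinearGroup (Fin 2) F) : Matrix (Fin 2) (Fin 2) F) 1 0) e
      rcases o1 with _ | t1 <;> rcases o2 with _ | t2 <;>
        simp [F', torusMk] at e0 e1
      · rfl
      · exact absurd e0.symm (fun h => param_add_one h2 (hne t2) h)
      · exact absurd e0 (fun h => param_add_one h2 (hne t1) h)
      · exact congrArg some (Subtype.ext (param_inj h2 (hne t1) (hne t2) e0 e1))
    · intro A
      have hd := torus_det A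
      generalize ha : ((A : Matrix.SpecialLinearGroup (Fin 2) F) : Matrix (Fin 2) (Fin 2) F) 0 0 = a at hd
      generalize hb : ((A : Matrix.SpecialLinearGroup (Fin 2) F) : Matrix (Fin 2) (Fin 2) F) 1 0 = b at hd
      by_cases h : a + 1 = 0
      · refine ⟨none, torus_ext ?_ ?_⟩
        · simp [F', torusMk, ha, eq_neg_of_add_eq_zero_left h]
        · have h' : ε * (b * b) = 0 := by linear_combination (a - 1) * h - hd
          simp [F', torusMk, hb, (by simpa [hε] using h' : b = 0)]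
      · obtain ⟨hn, e0, e1⟩ := param_surj h2 hd h
        refine ⟨some ⟨b / (a + 1), hn⟩, torus_ext ?_ ?_⟩
        · simp [F', torusMk, aP, ha, e0]
        · simp [F', torusMk, bP, hb, e1]
  rw [he, Finite.card_option, Nat.card_eq_fintype_card, Nat.card_eq_fintype_card,
    Fintype.card_subtype_compl]
  have := Fintype.card_subtype_le (fun t : F => ε * t * t = 1)
  omega

/-- Each torus has a generator of even order `2 * m`, with `u ^ m = -1`. -/
theorem exists_torus_gen (h2 : (2 : F) ≠ 0) {ε : F} (hε : ε ≠ 0) :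
    ∃ u : sl2Torus ε, (∀ A, A ∈ Subgroup.zpowers u) ∧ ∃ m, 0 < m ∧ orderOf u = 2 * m ∧
      ((u : Matrix.SpecialLinearGroup (Fin 2) F) ^ m = -1) := by
  haveI := isCyclic_sl2Torus h2 hε
  obtain ⟨u, hu⟩ := IsCyclic.exists_generator (α := sl2Torus ε)
  let z : sl2Torus ε := torusMk (a := -1) (b := 0) (by ring)
  have hz : (z : Matrix.SpecialLinearGroup (Fin 2) F) = -1 := by
    ext i j
    fin_cases i <;> fin_cases j <;> simp [z, torusMk]
  have hz2 : orderOf z = 2 := by
    haveI : Fact (Nat.Prime 2) := ⟨Nat.prime_two⟩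
    refine orderOf_eq_prime (Subtype.ext ?_) fun e => h2 ?_
    · rw [Subgroup.coe_pow, hz, Subgroup.coe_one]; simp
    · have h0 := congrArg (fun A : sl2Torus ε =>
        ((A : Matrix.SpecialLinearGroup (Fin 2) F) : Matrix (Fin 2) (Fin 2) F) 0 0) e
      simp [z, torusMk] at h0
      linear_combination (-1 : F) * h0
  have hdvd : 2 ∣ orderOf u := by
    rw [orderOf_eq_card_of_forall_mem_zpowers hu]; exact hz2.symm.dvd.trans (orderOf_dvd_natCard z)
  obtain ⟨m, hm⟩ := hdvd
  have hm0 : 0 < m := by have := orderOf_pos u; omega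
  refine ⟨u, hu, m, hm0, hm, ?_⟩
  rcases sl2_eq_one_or_neg_one_of_sq h2 (A := (u : Matrix.SpecialLinearGroup (Fin 2) F) ^ m) (by
    rw [← pow_mul, mul_comm, ← hm, ← Subgroup.coe_pow, pow_orderOf_eq_one, Subgroup.coe_one]) with e | e
  · exfalso
    have : orderOf u ∣ m := orderOf_dvd_of_pow_eq_one (Subtype.ext (by rw [Subgroup.coe_pow, e, Subgroup.coe_one]))
    have := Nat.le_of_dvd hm0 this
    omega
  · exact e

section PGL

/-- The class in `PGL(2)` of an invertible matrix. -/
def pglMk (M : GL (Fin 2) F) :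
    Matrix.GeneralLinearGroup (Fin 2) F ⧸ Subgroup.center (Matrix.GeneralLinearGroup (Fin 2) F) :=
  QuotientGroup.mk M

omit [Fintype F] in
theorem pglMk_pow_eq_one_iff (M : GL (Fin 2) F) (n : ℕ) :
    pglMk M ^ n = 1 ↔ ∃ c : F, (M : Matrix (Fin 2) (Fin 2) F) ^ n = c • 1 := by
  rw [pglMk, ← QuotientGroup.mk_pow, QuotientGroup.eq_one_iff,
    Matrix.GeneralLinearGroup.mem_center_iff_val_mem_range_scalar, Units.val_pow_eq_pow_val]
  simp only [Set.mem_range, Matrix.scalar_apply, Matrix.smul_one_eq_diagonal]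
  exact ⟨fun ⟨c, hc⟩ => ⟨c, hc.symm⟩, fun ⟨c, hc⟩ => ⟨c, hc.symm⟩⟩

theorem orderOf_pgl_cases (h2 : (2 : F) ≠ 0) {p k : ℕ} [hp : Fact p.Prime] [CharP F p]
    (hq : Fintype.card F = p ^ k)
    (g : Matrix.GeneralLinearGroup (Fin 2) F ⧸ Subgroup.center (Matrix.GeneralLinearGroup (Fin 2) F)) :
    orderOf g ∣ p ∨ orderOf g ∣ Fintype.card F - 1 ∨ orderOf g ∣ Fintype.card F + 1 := by
  obtain ⟨M, rfl⟩ := QuotientGroup.mk_surjective g
  change orderOf (pglMk M) ∣ _ ∨ orderOf (pglMk M) ∣ _ ∨ orderOf (pglMk M) ∣ _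
  rcases quad_cases h2 hq (M : Matrix (Fin 2) (Fin 2) F) with ⟨-, h⟩ | h | h
  · exact Or.inl (orderOf_dvd_of_pow_eq_one ((pglMk_pow_eq_one_iff _ _).2 ⟨_, h⟩))
  · refine Or.inr (Or.inl (orderOf_dvd_of_pow_eq_one ((pglMk_pow_eq_one_iff _ _).2 ⟨1, ?_⟩)))
    have hM : M ^ (Fintype.card F - 1) = 1 := by
      have h' : M ^ (Fintype.card F - 1) * M = 1 * M := by
        rw [← pow_succ, Nat.sub_add_cancel Fintype.card_pos, one_mul]
        exact Units.ext (by rw [Units.val_pow_eq_pow_val, h])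
      exact mul_right_cancel h'
    rw [one_smul, ← Units.val_pow_eq_pow_val, hM, Units.val_one]
  · exact Or.inr (Or.inr (orderOf_dvd_of_pow_eq_one ((pglMk_pow_eq_one_iff _ _).2 ⟨_, h⟩)))

omit [Fintype F] in
theorem psl_mk_eq_one_of_sq (h2 : (2 : F) ≠ 0) {B : Matrix.SpecialLinearGroup (Fin 2) F}
    (h : B ^ 2 = 1) : (QuotientGroup.mk B : Matrix.ProjectiveSpecialLinearGroup (Fin 2) F) = 1 := by
  rw [QuotientGroup.eq_one_iff]
  rcases sl2_eq_one_or_neg_one_of_sq h2 h with e | e <;> rw [e]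
  · exact one_mem _
  · exact Subgroup.mem_center_iff.2 fun C => by rw [mul_neg_one, neg_one_mul]

theorem orderOf_psl_cases (h2 : (2 : F) ≠ 0) {p k : ℕ} [hp : Fact p.Prime] [CharP F p]
    (hq : Fintype.card F = p ^ k) (g : Matrix.ProjectiveSpecialLinearGroup (Fin 2) F) :
    orderOf g ∣ p ∨ orderOf g ∣ (Fintype.card F - 1) / 2 ∨ orderOf g ∣ (Fintype.card F + 1) / 2 := by
  obtain ⟨A, rfl⟩ := QuotientGroup.mk_surjective g
  have hodd : Odd (Fintype.card F) := Nat.odd_iff.2 (FiniteField.odd_card_of_char_ne_two fun e => h2 (by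
    haveI := ringChar.of_eq e
    exact CharTwo.two_eq_zero))
  obtain ⟨t, ht⟩ := hodd
  have half : ∀ n, A ^ (2 * n) = 1 →
      orderOf (QuotientGroup.mk A : Matrix.ProjectiveSpecialLinearGroup (Fin 2) F) ∣ n := fun n hn => by
    apply orderOf_dvd_of_pow_eq_one
    rw [← QuotientGroup.mk_pow]
    exact psl_mk_eq_one_of_sq h2 (by rw [← pow_mul, mul_comm, hn])
  rcases quad_cases h2 hq (A : Matrix (Fin 2) (Fin 2) F) with ⟨-, h⟩ | h | h
  · left
    apply orderOf_dvd_of_pow_eq_one
    rw [← QuotientGroup.mk_pow, QuotientGroup.eq_one_iff, Subgroup.mem_center_iff]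
    intro B
    apply Subtype.ext
    simp only [Matrix.SpecialLinearGroup.coe_mul, Matrix.SpecialLinearGroup.coe_pow, h]
    rw [Matrix.mul_smul, Matrix.smul_mul, Matrix.mul_one, Matrix.one_mul]
  · refine Or.inr (Or.inl ?_)
    rw [show (Fintype.card F - 1) / 2 = t by omega]
    refine half t ?_
    have h' : A ^ (2 * t) * A = 1 * A := by
      rw [← pow_succ, ← ht, one_mul]
      exact Subtype.ext (by rw [Matrix.SpecialLinearGroup.coe_pow]; exact h)
    exact mul_right_cancel h'
  · refine Or.inr (Or.inr ?_)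
    rw [show (Fintype.card F + 1) / 2 = t + 1 by omega]
    refine half (t + 1) (Subtype.ext ?_)
    rw [Matrix.SpecialLinearGroup.coe_pow, show 2 * (t + 1) = Fintype.card F + 1 by omega, h,
      A.det_coe, one_smul, Matrix.SpecialLinearGroup.coe_one]

omit [Fintype F] in
theorem psl_pow_eq_one_iff (h2 : (2 : F) ≠ 0) (A : Matrix.SpecialLinearGroup (Fin 2) F) (n : ℕ) :
    (QuotientGroup.mk A : Matrix.ProjectiveSpecialLinearGroup (Fin 2) F) ^ n = 1 ↔
      A ^ n = 1 ∨ A ^ n = -1 := by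
  rw [← QuotientGroup.mk_pow, QuotientGroup.eq_one_iff, Matrix.SpecialLinearGroup.mem_center_iff]
  constructor
  · rintro ⟨r, hr, hA⟩
    refine sl2_eq_one_or_neg_one_of_sq h2 (Subtype.ext ?_)
    rw [Fintype.card_fin] at hr
    rw [Matrix.SpecialLinearGroup.coe_pow, sq, ← hA, ← map_mul, ← sq, hr, map_one,
      Matrix.SpecialLinearGroup.coe_one]
  · rintro (h | h) <;> rw [h]
    · exact ⟨1, by simp, by simp⟩
    · exact ⟨-1, by simp, by ext i j; fin_cases i <;> fin_cases j <;> simp⟩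

omit [Fintype F] in
/-- A torus generator has order `m` in `PSL(2)`. -/
theorem orderOf_psl_torus (h2 : (2 : F) ≠ 0) {ε : F} (u : sl2Torus ε) {m : ℕ} (hm : 0 < m)
    (hu : orderOf u = 2 * m) (hum : (u : Matrix.SpecialLinearGroup (Fin 2) F) ^ m = -1) :
    orderOf (QuotientGroup.mk (u : Matrix.SpecialLinearGroup (Fin 2) F) :
      Matrix.ProjectiveSpecialLinearGroup (Fin 2) F) = m := by
  rw [orderOf_eq_iff hm]
  refine ⟨(psl_pow_eq_one_iff h2 _ _).2 (Or.inr hum), fun j hj hj0 h => ?_⟩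
  have : (u : Matrix.SpecialLinearGroup (Fin 2) F) ^ (2 * j) = 1 := by
    rw [mul_comm, pow_mul]
    rcases (psl_pow_eq_one_iff h2 _ _).1 h with e | e <;> rw [e] <;> simp
  have hd : orderOf u ∣ 2 * j := orderOf_dvd_of_pow_eq_one (Subtype.ext (by
    rw [Subgroup.coe_pow, this, Subgroup.coe_one]))
  have := Nat.le_of_dvd (by omega) hd
  omega

theorem torus_card_split (h2 : (2 : F) ≠ 0) : Nat.card (sl2Torus (1 : F)) + 1 = Fintype.card F := by
  have h := card_sl2Torus h2 one_ne_zero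
  have h' : Nat.card {t : F // 1 * t * t = 1} = 2 := by
    rw [Nat.card_eq_two_iff]
    refine ⟨⟨1, by ring⟩, ⟨-1, by ring⟩, fun e => h2 ?_, Set.eq_univ_iff_forall.2 fun ⟨x, hx⟩ => ?_⟩
    · have := congrArg Subtype.val e
      linear_combination this
    · rw [one_mul] at hx
      rcases mul_self_eq_one_iff.1 hx with rfl | rfl <;> simp
  omega

theorem torus_card_nonsplit (h2 : (2 : F) ≠ 0) {ε : F} (hε : ¬ IsSquare ε) :
    Nat.card (sl2Torus ε) = Fintype.card F + 1 := by
  have hε0 : ε ≠ 0 := fun e => hε (e ▸ IsSquare.zero)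
  have h := card_sl2Torus h2 hε0
  have h' : Nat.card {t : F // ε * t * t = 1} = 0 := by
    rw [Nat.card_eq_zero]
    left
    refine ⟨fun ⟨t, ht⟩ => hε ⟨t⁻¹, ?_⟩⟩
    have ht0 : t ≠ 0 := fun e => by simp [e] at ht
    field_simp
    linear_combination ht
  omega

theorem exists_nonsquare' (h2 : (2 : F) ≠ 0) : ∃ ε : F, ¬ IsSquare ε :=
  FiniteField.exists_nonsquare fun e => h2 (by
    haveI := ringChar.of_eq e
    exact CharTwo.two_eq_zero)

omit [Fintype F] in
theorem exists_pgl_order_of_torus (h2 : (2 : F) ≠ 0) {ε : F} (hε : ε ≠ 0) (u : sl2Torus ε)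
    {m : ℕ} (hm : 2 ≤ m) (hu : orderOf u = 2 * m)
    (hum : (u : Matrix.SpecialLinearGroup (Fin 2) F) ^ m = -1) :
    ∃ g : Matrix.GeneralLinearGroup (Fin 2) F ⧸ Subgroup.center (Matrix.GeneralLinearGroup (Fin 2) F),
      orderOf g = 2 * m := by
  set U := ((u : Matrix.SpecialLinearGroup (Fin 2) F) : Matrix (Fin 2) (Fin 2) F) with hU
  set w := 2 + U.trace with hw
  have hdet : (1 + U).det = w := by
    have hd := (u : Matrix.SpecialLinearGroup (Fin 2) F).det_coe
    rw [← hU, det_fin_two] at hd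
    simp [det_fin_two, hw, trace_fin_two]
    linear_combination hd
  have hw0 : w ≠ 0 := by
    intro e
    have ha : U 0 0 = -1 := by
      have : 2 * (U 0 0 + 1) = 0 := by
        rw [hw, trace_fin_two, hU, u.2.1, ← hU] at e; linear_combination e
      rcases mul_eq_zero.1 this with h | h
      · exact absurd h h2
      · exact eq_neg_of_add_eq_zero_left h
    have hb : U 1 0 = 0 := by
      have := torus_det u
      rw [← hU, ha] at this
      have h' : ε * (U 1 0 * U 1 0) = 0 := by linear_combination -this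
      simpa [hε] using h'
    have hsq : u ^ 2 = 1 := by
      have h01 : U 0 1 = ε * U 1 0 := u.2.2
      have h11 : U 1 1 = U 0 0 := u.2.1
      apply torus_ext <;>
        rw [Subgroup.coe_pow, Matrix.SpecialLinearGroup.coe_pow, ← hU, sq] <;>
        simp [Matrix.mul_apply, Fin.sum_univ_two, hb, ha, h01, h11]
    have := Nat.le_of_dvd (by norm_num) (orderOf_dvd_of_pow_eq_one hsq)
    omega
  have hsq : (1 + U) * (1 + U) = w • U := by
    have hd := (u : Matrix.SpecialLinearGroup (Fin 2) F).det_coe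
    rw [← hU, det_fin_two] at hd
    ext i j
    fin_cases i <;> fin_cases j <;>
      simp [hw, Matrix.mul_apply, Fin.sum_univ_two, trace_fin_two] <;>
      first | (ring; done) | linear_combination (-1 : F) * hd
  let M : GL (Fin 2) F := Matrix.GeneralLinearGroup.mkOfDetNeZero (1 + U) (by rw [hdet]; exact hw0)
  have hMval : (M : Matrix (Fin 2) (Fin 2) F) = 1 + U := rfl
  have hUpow : ∀ j, ((u : Matrix.SpecialLinearGroup (Fin 2) F) ^ j).1 = U ^ j := fun j =>
    Matrix.SpecialLinearGroup.coe_pow _ _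
  have hM2 : ∀ j, (1 + U) ^ (2 * j) = w ^ j • U ^ j := fun j => by
    rw [pow_mul, sq, hsq, smul_pow]
  have hUm : U ^ m = -1 := by rw [← hUpow, hum]; simp
  set n := orderOf (pglMk M) with hn
  have hn2m : n ∣ 2 * m := orderOf_dvd_of_pow_eq_one ((pglMk_pow_eq_one_iff _ _).2 ⟨-w ^ m, by
    rw [hMval, hM2, hUm, smul_neg, neg_smul]⟩)
  have hmn : m ∣ n := by
    obtain ⟨c, hc⟩ := (pglMk_pow_eq_one_iff _ _).1 (pow_orderOf_eq_one (pglMk M))
    rw [hMval, ← hn] at hc
    have h : w ^ n • U ^ n = (c * c) • (1 : Matrix (Fin 2) (Fin 2) F) := by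
      rw [← hM2, two_mul, pow_add, hc, smul_mul_assoc, one_mul, smul_smul]
    have hUn : U ^ n = ((w ^ n)⁻¹ * (c * c)) • 1 := by
      rw [← smul_smul, ← h, smul_smul, inv_mul_cancel₀ (pow_ne_zero _ hw0), one_smul]
    have h1 : (QuotientGroup.mk (u : Matrix.SpecialLinearGroup (Fin 2) F) :
        Matrix.ProjectiveSpecialLinearGroup (Fin 2) F) ^ n = 1 := by
      rw [← QuotientGroup.mk_pow, QuotientGroup.eq_one_iff, Subgroup.mem_center_iff]
      intro B
      apply Subtype.ext
      simp only [Matrix.SpecialLinearGroup.coe_mul, Matrix.SpecialLinearGroup.coe_pow, ← hU, hUn]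
      rw [Matrix.mul_smul, Matrix.smul_mul, Matrix.mul_one, Matrix.one_mul]
    have := orderOf_dvd_of_pow_eq_one h1
    rwa [orderOf_psl_torus h2 u (by omega) hu hum] at this
  refine ⟨pglMk M, ?_⟩
  obtain ⟨a, ha⟩ := hmn
  rw [← hn]
  have ha2 : a ∣ 2 := by
    rw [← Nat.mul_dvd_mul_iff_left (show 0 < m by omega), ← ha, mul_comm]
    exact hn2m
  rcases (Nat.dvd_prime Nat.prime_two).1 ha2 with rfl | rfl
  · exfalso
    obtain ⟨c, hc⟩ := (pglMk_pow_eq_one_iff _ _).1 (pow_orderOf_eq_one (pglMk M))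
    rw [hMval, ← hn, ha, mul_one] at hc
    have hdc : w ^ m = c * c := by
      have := congrArg Matrix.det hc
      rwa [Matrix.det_pow, hdet, Matrix.det_smul, Matrix.det_one, mul_one, Fintype.card_fin, sq] at this
    have h := hM2 m
    rw [two_mul, pow_add, hc, hUm, smul_mul_assoc, one_mul, smul_smul, hdc] at h
    have h00 := congrFun (congrFun h 0) 0
    simp at h00
    have hc0 : c ≠ 0 := fun e0 => pow_ne_zero m hw0 (by rw [hdc, e0, mul_zero])
    exact h2 (mul_left_cancel₀ (mul_ne_zero hc0 hc0) (by rw [mul_zero]; linear_combination h00))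
  · rw [ha, mul_comm]

omit [Fintype F] in
theorem orderOf_pgl_shear {p : ℕ} [hp : Fact p.Prime] [CharP F p] :
    ∃ g : Matrix.GeneralLinearGroup (Fin 2) F ⧸ Subgroup.center (Matrix.GeneralLinearGroup (Fin 2) F),
      orderOf g = p := by
  let M : GL (Fin 2) F := Matrix.GeneralLinearGroup.mkOfDetNeZero !![1, 1; 0, 1] (by simp [det_fin_two_of])
  have hpow : ∀ n : ℕ, (M : Matrix (Fin 2) (Fin 2) F) ^ n = !![1, (n : F); 0, 1] := by
    intro n
    induction n with
    | zero => simp [Matrix.one_fin_two]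
    | succ n ih =>
      rw [pow_succ, ih]
      show !![1, (n : F); 0, 1] * !![1, 1; 0, 1] = _
      ext i j
      fin_cases i <;> fin_cases j <;> simp [Matrix.mul_apply, Fin.sum_univ_two] <;> ring
  refine ⟨pglMk M, orderOf_eq_prime ?_ ?_⟩
  · rw [pglMk_pow_eq_one_iff]
    exact ⟨1, by rw [hpow, CharP.cast_eq_zero, one_smul, Matrix.one_fin_two]⟩
  · intro h
    rw [← pow_one (pglMk M), pglMk_pow_eq_one_iff] at h
    obtain ⟨c, hc⟩ := h
    rw [hpow] at hc
    simpa using congrFun (congrFun hc 0) 1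

omit [Fintype F] in
theorem orderOf_pgl_diag (h2 : (2 : F) ≠ 0) :
    ∃ g : Matrix.GeneralLinearGroup (Fin 2) F ⧸ Subgroup.center (Matrix.GeneralLinearGroup (Fin 2) F),
      orderOf g = 2 := by
  haveI : Fact (Nat.Prime 2) := ⟨Nat.prime_two⟩
  let M : GL (Fin 2) F := Matrix.GeneralLinearGroup.mkOfDetNeZero !![1, 0; 0, -1] (by simp [det_fin_two_of])
  refine ⟨pglMk M, orderOf_eq_prime ?_ ?_⟩
  · rw [pglMk_pow_eq_one_iff]
    refine ⟨1, ?_⟩
    show !![1, 0; 0, -1] ^ 2 = _
    ext i j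
    fin_cases i <;> fin_cases j <;> simp [sq, Matrix.mul_apply, Fin.sum_univ_two]
  · intro h
    rw [← pow_one (pglMk M), pglMk_pow_eq_one_iff] at h
    obtain ⟨c, hc⟩ := h
    rw [pow_one] at hc
    have h0 := congrFun (congrFun hc 0) 0
    have h1 := congrFun (congrFun hc 1) 1
    simp [M] at h0 h1
    exact h2 (by linear_combination h0 - h1)

/-- The spectrum of `PGL(2, q)`, `q` odd. -/
theorem range_orderOf_pgl2 (h2 : (2 : F) ≠ 0) {p k : ℕ} [hp : Fact p.Prime] [CharP F p]
    (hq : Fintype.card F = p ^ k) :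
    Set.range (orderOf : Matrix.GeneralLinearGroup (Fin 2) F ⧸
        Subgroup.center (Matrix.GeneralLinearGroup (Fin 2) F) → ℕ) =
      {d | d ∣ p ∨ d ∣ Fintype.card F - 1 ∨ d ∣ Fintype.card F + 1} := by
  ext d
  constructor
  · rintro ⟨g, rfl⟩; exact orderOf_pgl_cases h2 hq g
  · intro hd
    have down : ∀ n : ℕ, 0 < n → (∃ g : Matrix.GeneralLinearGroup (Fin 2) F ⧸
        Subgroup.center (Matrix.GeneralLinearGroup (Fin 2) F), orderOf g = n) → d ∣ n →
        d ∈ Set.range (orderOf : Matrix.GeneralLinearGroup (Fin 2) F ⧸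
        Subgroup.center (Matrix.GeneralLinearGroup (Fin 2) F) → ℕ) := by
      intro n hn ⟨g, hg⟩ hdn
      exact ⟨g ^ (n / d), by rw [← hg, orderOf_pow_orderOf_div (by omega) (hg ▸ hdn)]⟩
    rcases hd with hd | hd | hd
    · exact down p hp.out.pos orderOf_pgl_shear hd
    · obtain ⟨u, hu, m, hm, hum, hneg⟩ := exists_torus_gen h2 (one_ne_zero (α := F))
      have hc := torus_card_split h2
      rw [← orderOf_eq_card_of_forall_mem_zpowers hu, hum] at hc
      refine down (Fintype.card F - 1) (by omega) ?_ hd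
      rw [show Fintype.card F - 1 = 2 * m by omega]
      rcases Nat.lt_or_ge m 2 with h | h
      · rw [show m = 1 by omega]; exact orderOf_pgl_diag h2
      · exact exists_pgl_order_of_torus h2 one_ne_zero u h hum hneg
    · obtain ⟨ε, hε⟩ := exists_nonsquare' h2
      have hε0 : ε ≠ 0 := fun e => hε (e ▸ IsSquare.zero)
      obtain ⟨u, hu, m, hm, hum, hneg⟩ := exists_torus_gen h2 hε0
      have hc := torus_card_nonsplit h2 hε
      rw [← orderOf_eq_card_of_forall_mem_zpowers hu, hum] at hc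
      refine down (Fintype.card F + 1) (by omega) ?_ hd
      rw [← hc]
      exact exists_pgl_order_of_torus h2 hε0 u (by have := Fintype.one_lt_card (α := F); omega) hum hneg

end PGL

end CfsgLib.Spectrum
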