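import Mathlib
import Cfsg.Prelude.Def_Sz

/-!
Elements of `Sz F (2 ^ k)` satisfy `star4 g = θ g` entrywise; if such an element fixes a non-zero
vector then its fourth power is `1` (its characteristic polynomial is `X ^ 4 + 1`).
-/

set_option autoImplicit false

namespace CfsgLib.Spectrum

open Matrix Polynomial Cfsg.Lie
set_option linter.unusedSectionVars false

section CommRing

variable {R : Type*} [CommRing R]

/-- Explicit determinant of a `4 × 4` matrix. -/
theorem det4_eq (M : Matrix (Fin 4) (Fin 4) R) :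
    M.det =
      M 0 0 * (M 1 1 * (M 2 2 * M 3 3 - M 2 3 * M 3 2) - M 1 2 * (M 2 1 * M 3 3 - M 2 3 * M 3 1)
        + M 1 3 * (M 2 1 * M 3 2 - M 2 2 * M 3 1))
      - M 0 1 * (M 1 0 * (M 2 2 * M 3 3 - M 2 3 * M 3 2) - M 1 2 * (M 2 0 * M 3 3 - M 2 3 * M 3 0)
        + M 1 3 * (M 2 0 * M 3 2 - M 2 2 * M 3 0))
      + M 0 2 * (M 1 0 * (M 2 1 * M 3 3 - M 2 3 * M 3 1) - M 1 1 * (M 2 0 * M 3 3 - M 2 3 * M 3 0)
        + M 1 3 * (M 2 0 * M 3 1 - M 2 1 * M 3 0))
      - M 0 3 * (M 1 0 * (M 2 1 * M 3 2 - M 2 2 * M 3 1) - M 1 1 * (M 2 0 * M 3 2 - M 2 2 * M 3 0)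
        + M 1 2 * (M 2 0 * M 3 1 - M 2 1 * M 3 0)) := by
  simp [Matrix.det_succ_row_zero, Fin.sum_univ_succ, Fin.succAbove]
  ring

/-- The sum of the six principal `2 × 2` minors. -/
def minorSum4 (M : Matrix (Fin 4) (Fin 4) R) : R :=
  (M 0 0 * M 1 1 - M 1 0 * M 0 1) + (M 0 0 * M 2 2 - M 2 0 * M 0 2) +
  (M 0 0 * M 3 3 - M 3 0 * M 0 3) + (M 1 1 * M 2 2 - M 2 1 * M 1 2) +
  (M 1 1 * M 3 3 - M 3 1 * M 1 3) + (M 2 2 * M 3 3 - M 3 2 * M 2 3)

theorem charpoly4_eq (M : Matrix (Fin 4) (Fin 4) R) :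
    M.charpoly = X ^ 4 - C M.trace * X ^ 3 + C (minorSum4 M) * X ^ 2
      - C M.adjugate.trace * X + C M.det := by
  simp only [Matrix.charpoly, det4_eq, charmatrix_apply, Matrix.trace, Matrix.diag,
    Fin.sum_univ_four, adjugate_apply, minorSum4]
  simp [Matrix.updateRow_apply]
  ring

/-- A two-sided relation kills the two missing pairs in the Cauchy–Binet expansion. -/
theorem minor_mul_of_rel (h2 : (2 : R) = 0) (g h : Matrix (Fin 4) (Fin 4) R) (k l i j : Fin 4)
    (hg : g k 0 * g l 3 + g k 1 * g l 2 + g k 2 * g l 1 + g k 3 * g l 0 = 0)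
    (hh : h 0 i * h 3 j + h 1 i * h 2 j + h 2 i * h 1 j + h 3 i * h 0 j = 0) :
    (g * h) k i * (g * h) l j - (g * h) l i * (g * h) k j =
      (g k 0 * g l 1 - g l 0 * g k 1) * (h 0 i * h 1 j - h 1 i * h 0 j) +
      (g k 0 * g l 2 - g l 0 * g k 2) * (h 0 i * h 2 j - h 2 i * h 0 j) +
      (g k 1 * g l 3 - g l 1 * g k 3) * (h 1 i * h 3 j - h 3 i * h 1 j) +
      (g k 2 * g l 3 - g l 2 * g k 3) * (h 2 i * h 3 j - h 3 i * h 2 j) := by
  simp only [Matrix.mul_apply, Fin.sum_univ_four]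
  linear_combination (h 1 i * h 2 j - h 2 i * h 1 j) * hg
    + (-(g k 0 * g l 3 - g l 0 * g k 3) - 2 * (g l 0 * g k 3 + g l 1 * g k 2)) * hh
    + ((g k 0 * g l 3 - g l 0 * g k 3) * (h 0 i * h 3 j - h 3 i * h 0 j)
      + (g l 0 * g k 3 + g l 1 * g k 2) * (h 0 i * h 3 j - h 3 i * h 0 j)
      + (g k 0 * g l 3 - g l 0 * g k 3) * (h 3 i * h 0 j + h 2 i * h 1 j)
      + 2 * (g l 0 * g k 3 + g l 1 * g k 2) * (h 3 i * h 0 j + h 2 i * h 1 j)) * h2

/-- The antidiagonal matrix of the form `altForm4`. -/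
def antiJ : Matrix (Fin 4) (Fin 4) R := !![0, 0, 0, 1; 0, 0, 1, 0; 0, 1, 0, 0; 1, 0, 0, 0]

theorem antiJ_mul_self : (antiJ * antiJ : Matrix (Fin 4) (Fin 4) R) = 1 := by
  ext i j
  fin_cases i <;> fin_cases j <;> simp [antiJ, Matrix.mul_apply, Fin.sum_univ_four]

end CommRing

variable {F : Type*} [Field F]

theorem sp4_col {g : GL (Fin 4) F} (hg : g ∈ Sp4 F) :
    (g : Matrix (Fin 4) (Fin 4) F)ᵀ * antiJ * (g : Matrix (Fin 4) (Fin 4) F) = antiJ := by
  ext a b
  have h := hg (Pi.single a 1) (Pi.single b 1)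
  simp only [altForm4, Units.coeHom_apply, Matrix.mulVec_single_one, Matrix.col_apply] at h
  simp [Matrix.mul_apply, Fin.sum_univ_four, antiJ]
  fin_cases a <;> fin_cases b <;> simp at h ⊢ <;> linear_combination h

theorem sp4_row {g : GL (Fin 4) F} (hg : g ∈ Sp4 F) :
    (g : Matrix (Fin 4) (Fin 4) F) * antiJ * (g : Matrix (Fin 4) (Fin 4) F)ᵀ = antiJ := by
  set M := (g : Matrix (Fin 4) (Fin 4) F)
  have h1 : (antiJ * Mᵀ * antiJ) * M = 1 := by
    rw [Matrix.mul_assoc, Matrix.mul_assoc, ← Matrix.mul_assoc Mᵀ, sp4_col hg, antiJ_mul_self]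
  have h2 : M * (antiJ * Mᵀ * antiJ) = 1 := mul_eq_one_comm.1 h1
  calc M * antiJ * Mᵀ = M * (antiJ * Mᵀ * antiJ) * antiJ := by
        simp [Matrix.mul_assoc, antiJ_mul_self]
    _ = antiJ := by rw [h2, Matrix.one_mul]

section

variable [CharP F 2]

theorem sp4_det {g : GL (Fin 4) F} (hg : g ∈ Sp4 F) :
    (g : Matrix (Fin 4) (Fin 4) F).det = 1 := by
  have h := congrArg Matrix.det (sp4_col hg)
  rw [det_mul, det_mul, det_transpose] at h
  have hJ : (antiJ : Matrix (Fin 4) (Fin 4) F).det = 1 := by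
    simp [det4_eq, antiJ]
  rw [hJ, mul_one] at h
  exact (mul_self_eq_one_iff.1 h).elim id fun h' => by rw [h', CharTwo.neg_eq]

theorem sp4_adjugate {g : GL (Fin 4) F} (hg : g ∈ Sp4 F) :
    (g : Matrix (Fin 4) (Fin 4) F).adjugate =
      antiJ * (g : Matrix (Fin 4) (Fin 4) F)ᵀ * antiJ := by
  set M := (g : Matrix (Fin 4) (Fin 4) F)
  have h1 : (antiJ * Mᵀ * antiJ) * M = 1 := by
    rw [Matrix.mul_assoc, Matrix.mul_assoc, ← Matrix.mul_assoc Mᵀ, sp4_col hg, antiJ_mul_self]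
  calc M.adjugate = (antiJ * Mᵀ * antiJ) * (M * M.adjugate) := by
        rw [← Matrix.mul_assoc, h1, Matrix.one_mul]
    _ = _ := by rw [mul_adjugate, sp4_det hg, one_smul, Matrix.mul_one]

theorem star4_mul {g h : GL (Fin 4) F} (hg : g ∈ Sp4 F) (hh : h ∈ Sp4 F) :
    star4 ((g : Matrix (Fin 4) (Fin 4) F) * (h : Matrix (Fin 4) (Fin 4) F)) =
      star4 (g : Matrix (Fin 4) (Fin 4) F) * star4 (h : Matrix (Fin 4) (Fin 4) F) := by
  ext p r
  have h2 : (2 : F) = 0 := CharTwo.two_eq_zero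
  have hR := congrFun (congrFun (sp4_row hg) (pairOf p).1) (pairOf p).2
  have hC := congrFun (congrFun (sp4_col hh) (pairOf r).1) (pairOf r).2
  simp only [Matrix.mul_apply, Fin.sum_univ_four, transpose_apply] at hR hC
  rw [Matrix.mul_apply, Fin.sum_univ_four]
  simp only [star4, Matrix.of_apply]
  rw [minor_mul_of_rel h2 _ _ _ _ _ _ ?_ ?_]
  · simp [star4, pairOf]
  · fin_cases p <;> simp [pairOf, antiJ] at hR ⊢ <;> linear_combination hR
  · fin_cases r <;> simp [pairOf, antiJ] at hC ⊢ <;> linear_combination hC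

theorem trace_star4 {g : GL (Fin 4) F} (hg : g ∈ Sp4 F) :
    minorSum4 (g : Matrix (Fin 4) (Fin 4) F) = (star4 (g : Matrix (Fin 4) (Fin 4) F)).trace := by
  set M := (g : Matrix (Fin 4) (Fin 4) F)
  have hR := congrFun (congrFun (sp4_row hg) 0) 3
  have hC := congrFun (congrFun (sp4_col hg) 1) 2
  simp [Matrix.mul_apply, Fin.sum_univ_four, antiJ] at hR hC
  simp [minorSum4, Matrix.trace, Matrix.diag, Fin.sum_univ_four, star4, pairOf]
  linear_combination hR + hC
    - (M 3 0 * M 0 3 + M 0 2 * M 3 1 + M 2 1 * M 1 2 + M 0 1 * M 3 2 - 1) * CharTwo.two_eq_zero (R := F)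

/-- The Suzuki group consists of elements with `star4 g = θ g`. -/
theorem sz_mem [Finite F] {k : ℕ} {g : GL (Fin 4) F} (hg : g ∈ Sz F (2 ^ k)) :
    g ∈ Sp4 F ∧ star4 (g : Matrix (Fin 4) (Fin 4) F) =
      (g : Matrix (Fin 4) (Fin 4) F).map (fun x => x ^ 2 ^ k) := by
  let θ : F →+* F := iterateFrobenius F 2 k
  have hθ : (θ : F → F) = fun x => x ^ 2 ^ k := funext fun x => iterateFrobenius_def 2 k x
  let S : Submonoid (GL (Fin 4) F) :=
    { carrier := {g | g ∈ Sp4 F ∧ star4 (g : Matrix (Fin 4) (Fin 4) F) =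
          (g : Matrix (Fin 4) (Fin 4) F).map θ}
      one_mem' := ⟨one_mem _, by
        rw [Units.val_one, Matrix.map_one _ (map_zero θ) (map_one θ)]
        ext p r
        revert p r
        simp [Fin.forall_fin_succ, star4, pairOf, Matrix.one_apply]⟩
      mul_mem' := fun {a b} ha hb => ⟨mul_mem ha.1 hb.1, by
        rw [Units.val_mul, star4_mul ha.1 hb.1, ha.2, hb.2, Matrix.map_mul]⟩ }
  have h : g ∈ S := by
    have hg' : g ∈ (Sz F (2 ^ k)).toSubmonoid := hg
    rw [Sz, Subgroup.closure_toSubmonoid_of_finite] at hg'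
    refine Submonoid.closure_le.2 ?_ hg'
    intro x hx
    exact ⟨hx.1, by rw [hθ]; exact hx.2⟩
  exact ⟨h.1, by rw [← hθ]; exact h.2⟩

/-- An element of the Suzuki group fixing a non-zero vector has fourth power `1`. -/
theorem sz_pow_four_eq_one [Finite F] {k : ℕ} {g : GL (Fin 4) F} (hg : g ∈ Sz F (2 ^ k))
    {v : Fin 4 → F} (hv : v ≠ 0) (hgv : (g : Matrix (Fin 4) (Fin 4) F) *ᵥ v = v) : g ^ 4 = 1 := by
  obtain ⟨hsp, hst⟩ := sz_mem hg
  set M := (g : Matrix (Fin 4) (Fin 4) F) with hM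
  have hadj : M.adjugate.trace = M.trace := by
    rw [sp4_adjugate hsp, Matrix.trace_mul_comm, ← Matrix.mul_assoc, antiJ_mul_self,
      Matrix.one_mul, Matrix.trace_transpose]
  have hch := Matrix.aeval_self_charpoly M
  rw [charpoly4_eq, sp4_det hsp, hadj, trace_star4 hsp] at hch
  simp only [map_add, map_sub, map_mul, map_pow, aeval_X, aeval_C, map_one,
    Algebra.algebraMap_eq_smul_one, smul_mul_assoc, one_mul] at hch
  have hp : ∀ n : ℕ, M ^ n *ᵥ v = v := by
    intro n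
    induction n with
    | zero => simp
    | succ n ih => rw [pow_succ', ← Matrix.mulVec_mulVec, ih, hgv]
  have hsum : (1 - M.trace + (star4 M).trace - M.trace + 1) • v = 0 := by
    have := congrArg (· *ᵥ v) hch
    simp only [add_mulVec, sub_mulVec, smul_mulVec, zero_mulVec, one_mulVec, hp, hgv] at this
    rw [← this]
    module
  have hst0 : (star4 M).trace = 0 := by
    rcases smul_eq_zero.1 hsum with h | h
    · linear_combination h + (M.trace - 1) * CharTwo.two_eq_zero (R := F)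
    · exact absurd h hv
  have htr : M.trace = 0 := by
    have h1 : (star4 M).trace = iterateFrobenius F 2 k M.trace := by
      rw [hst, AddMonoidHom.map_trace, Matrix.trace]
      exact congrArg _ (funext fun i => by simp [iterateFrobenius_def])
    exact (map_eq_zero (iterateFrobenius F 2 k)).1 (h1 ▸ hst0)
  rw [hst0, htr] at hch
  simp only [zero_smul, sub_zero, add_zero] at hch
  have : M ^ 4 = 1 := by
    have := add_eq_zero_iff_eq_neg.1 hch
    rw [this]
    ext i j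
    simp [CharTwo.neg_eq]
  exact Units.ext (by rw [Units.val_pow_eq_pow_val, this, Units.val_one])

/-- The antidiagonal element of `GL 4`. -/
def antiJUnit : GL (Fin 4) F := ⟨antiJ, antiJ, antiJ_mul_self, antiJ_mul_self⟩

theorem antiJUnit_mem_sz (k : ℕ) : (antiJUnit : GL (Fin 4) F) ∈ Sz F (2 ^ k) := by
  apply Subgroup.subset_closure
  refine ⟨fun u v => ?_, ?_⟩
  · simp [antiJUnit, altForm4, antiJ, Matrix.mulVec, dotProduct, Fin.sum_univ_four]
    ring
  · ext p r
    fin_cases p <;> fin_cases r <;>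
      simp [star4, pairOf, antiJUnit, antiJ, CharTwo.neg_eq]

theorem orderOf_antiJUnit : orderOf (antiJUnit : GL (Fin 4) F) = 2 := by
  haveI : Fact (Nat.Prime 2) := ⟨Nat.prime_two⟩
  refine orderOf_eq_prime (by rw [sq]; exact Units.ext antiJ_mul_self) fun h => ?_
  simpa [antiJUnit, antiJ] using
    congrArg (fun A : GL (Fin 4) F => (A : Matrix (Fin 4) (Fin 4) F) 0 3) h

end

/-- The natural action of a subgroup of `GL n` on column vectors, written multiplicatively. -/
def glVecAct {n : Type*} [Fintype n] [DecidableEq n] (K : Subgroup (GL n F)) :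
    K →* MulAut (Multiplicative (n → F)) where
  toFun g := AddEquiv.toMultiplicative
    { toFun := fun v => ((g : GL n F) : Matrix n n F) *ᵥ v
      invFun := fun v => (((g : GL n F)⁻¹ : GL n F) : Matrix n n F) *ᵥ v
      left_inv := fun v => by
        change _ *ᵥ (_ *ᵥ v) = v
        rw [Matrix.mulVec_mulVec, ← Units.val_mul, inv_mul_cancel, Units.val_one, one_mulVec]
      right_inv := fun v => by
        change _ *ᵥ (_ *ᵥ v) = v
        rw [Matrix.mulVec_mulVec, ← Units.val_mul, mul_inv_cancel, Units.val_one, one_mulVec]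
      map_add' := fun v w => Matrix.mulVec_add _ v w }
  map_one' := by ext v; simp
  map_mul' A B := by ext v; simp

theorem glVecAct_apply {n : Type*} [Fintype n] [DecidableEq n] {K : Subgroup (GL n F)} (g : K)
    (v : Multiplicative (n → F)) :
    (glVecAct K g v).toAdd = ((g : GL n F) : Matrix n n F) *ᵥ v.toAdd := rfl

end CfsgLib.Spectrum
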