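import Mathlib

/-! Element orders of the alternating group of degree 5. -/

set_option autoImplicit false

namespace CfsgLib.Spectrum

theorem pow_cases_A5 : ∀ g : alternatingGroup (Fin 5), g = 1 ∨ g ^ 2 = 1 ∨ g ^ 3 = 1 ∨ g ^ 5 = 1 := by
  decide +kernel

theorem orders_A5 : Set.range (orderOf : alternatingGroup (Fin 5) → ℕ) = {1, 2, 3, 5} := by
  have hp2 : Fact (Nat.Prime 2) := ⟨by norm_num⟩
  have hp3 : Fact (Nat.Prime 3) := ⟨by norm_num⟩
  have hp5 : Fact (Nat.Prime 5) := ⟨by norm_num⟩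
  ext n
  simp only [Set.mem_range, Set.mem_insert_iff, Set.mem_singleton_iff]
  constructor
  · rintro ⟨g, rfl⟩
    by_cases h1 : g = 1
    · simp [h1]
    rcases pow_cases_A5 g with h | h | h | h
    · exact absurd h h1
    · exact Or.inr (Or.inl (orderOf_eq_prime h h1))
    · exact Or.inr (Or.inr (Or.inl (orderOf_eq_prime h h1)))
    · exact Or.inr (Or.inr (Or.inr (orderOf_eq_prime h h1)))
  · rintro (rfl | rfl | rfl | rfl)
    · exact ⟨1, orderOf_one⟩
    · obtain ⟨g, h, h1⟩ : ∃ g : alternatingGroup (Fin 5), g ^ 2 = 1 ∧ g ≠ 1 := by decide +kernel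
      exact ⟨g, orderOf_eq_prime h h1⟩
    · obtain ⟨g, h, h1⟩ : ∃ g : alternatingGroup (Fin 5), g ^ 3 = 1 ∧ g ≠ 1 := by decide +kernel
      exact ⟨g, orderOf_eq_prime h h1⟩
    · obtain ⟨g, h, h1⟩ : ∃ g : alternatingGroup (Fin 5), g ^ 5 = 1 ∧ g ≠ 1 := by decide +kernel
      exact ⟨g, orderOf_eq_prime h h1⟩

end CfsgLib.Spectrum
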