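import Mathlib

/-!
Element orders and prime graphs of `V ⋊[φ] G` with `V` abelian, and of its variants
`(Fin k → V) ⋊ G`. Used to build groups of unbounded order with a given spectrum or prime graph.
-/

set_option autoImplicit false

namespace CfsgLib.Spectrum

variable {V : Type*} [CommGroup V] {G : Type*} [Group G] {φ : G →* MulAut V}

instance instFiniteSemidirect [Finite V] [Finite G] : Finite (V ⋊[φ] G) :=
  Finite.of_equiv _ SemidirectProduct.equivProd.symm

/-- `x ^ orderOf x.right` lies in the normal factor. -/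
theorem pow_orderOf_right (x : V ⋊[φ] G) :
    x ^ orderOf x.right = SemidirectProduct.inl (x ^ orderOf x.right).left := by
  ext
  · simp
  · have := map_pow (SemidirectProduct.rightHom (φ := φ)) x (orderOf x.right)
    simpa using this

theorem orderOf_right_dvd (x : V ⋊[φ] G) : orderOf x.right ∣ orderOf x := by
  simpa using orderOf_map_dvd (SemidirectProduct.rightHom (φ := φ)) x

/-- The order of `x` is the order of its image times the order of its norm. -/
theorem orderOf_eq_right_mul [Finite G] (x : V ⋊[φ] G) :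
    orderOf x = orderOf x.right * orderOf (x ^ orderOf x.right).left := by
  have h : orderOf (x ^ orderOf x.right).left = orderOf (x ^ orderOf x.right) := by
    conv_rhs => rw [pow_orderOf_right x]
    rw [orderOf_injective _ SemidirectProduct.inl_injective]
  rw [h, orderOf_pow_of_dvd (orderOf_pos x.right).ne' (orderOf_right_dvd x),
    Nat.mul_div_cancel' (orderOf_right_dvd x)]

/-- The norm of an element is fixed by its image. -/
theorem norm_fixed (x : V ⋊[φ] G) :
    φ x.right (x ^ orderOf x.right).left = (x ^ orderOf x.right).left := by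
  have h : x * x ^ orderOf x.right = x ^ orderOf x.right * x := (Commute.self_pow x _).eq
  rw [pow_orderOf_right x] at h
  have h' := congrArg SemidirectProduct.left h
  simp only [SemidirectProduct.mul_left, SemidirectProduct.left_inl, SemidirectProduct.right_inl,
    map_one, MulAut.one_apply] at h'
  exact mul_left_cancel (h'.trans (mul_comm _ _))

/-- Elements over a fixed-point-free image have the order of that image. -/
theorem orderOf_eq_of_fixedPointFree [Finite G] (x : V ⋊[φ] G)
    (h : ∀ v : V, φ x.right v = v → v = 1) : orderOf x = orderOf x.right := by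
  rw [orderOf_eq_right_mul x, h _ (norm_fixed x), orderOf_one, mul_one]

/-- A fixed vector and `g` commute in the semidirect product. -/
theorem orderOf_mk_of_fixed [Finite G] [Finite V] {g : G} {v : V} (hv : φ g v = v) :
    orderOf (⟨v, g⟩ : V ⋊[φ] G) = Nat.lcm (orderOf v) (orderOf g) := by
  have hpow : ∀ n : ℕ, (⟨v, g⟩ : V ⋊[φ] G) ^ n = ⟨v ^ n, g ^ n⟩ := by
    intro n
    induction n with
    | zero => ext <;> simp
    | succ n ih =>
      rw [pow_succ', ih]
      ext
      · simp only [SemidirectProduct.mul_left, map_pow, hv, pow_succ']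
      · simp only [SemidirectProduct.mul_right, pow_succ']
  apply Nat.dvd_antisymm
  · apply orderOf_dvd_of_pow_eq_one
    rw [hpow]
    ext
    · simpa using orderOf_dvd_iff_pow_eq_one.1 (Nat.dvd_lcm_left _ _)
    · simpa using orderOf_dvd_iff_pow_eq_one.1 (Nat.dvd_lcm_right _ _)
  · have h := pow_orderOf_eq_one (⟨v, g⟩ : V ⋊[φ] G)
    rw [hpow] at h
    exact Nat.lcm_dvd (orderOf_dvd_of_pow_eq_one (by simpa using congrArg SemidirectProduct.left h))
      (orderOf_dvd_of_pow_eq_one (by simpa using congrArg SemidirectProduct.right h))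

section Power

variable (k : ℕ) (φ)

/-- The diagonal action on `k` copies of `V`. -/
def powAct : G →* MulAut (Fin k → V) where
  toFun g := MulEquiv.piCongrRight fun _ => φ g
  map_one' := by ext v i; simp
  map_mul' g h := by ext v i; simp

@[simp] theorem powAct_apply (g : G) (v : Fin k → V) (i : Fin k) : powAct φ k g v i = φ g (v i) :=
  rfl

/-- Projection to one coordinate. -/
def powProj (i : Fin k) : ((Fin k → V) ⋊[powAct φ k] G) →* V ⋊[φ] G :=
  SemidirectProduct.map (Pi.evalMonoidHom (fun _ : Fin k => V) i) (MonoidHom.id G)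
    (fun g => by ext v; simp)

variable {k φ}

@[simp] theorem powProj_right (i : Fin k) (x : (Fin k → V) ⋊[powAct φ k] G) :
    (powProj φ k i x).right = x.right := rfl

@[simp] theorem powProj_left (i : Fin k) (x : (Fin k → V) ⋊[powAct φ k] G) :
    (powProj φ k i x).left = x.left i := rfl

theorem pow_fixedPointFree {g : G} (h : ∀ v : V, φ g v = v → v = 1) :
    ∀ v : Fin k → V, powAct φ k g v = v → v = 1 := fun v hv =>
  funext fun i => h (v i) (congrFun hv i)

variable [Finite G]

/-- If the exponent of `V` divides the prime `p`, then the order of an element of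
`V^k ⋊ G` is the order of its image, or `p` times it, and then some coordinate shows this. -/
theorem orderOf_pow_cases {p : ℕ} (hp : p.Prime) (hexp : ∀ v : V, v ^ p = 1)
    (x : (Fin k → V) ⋊[powAct φ k] G) :
    orderOf x = orderOf x.right ∨
      (orderOf x = p * orderOf x.right ∧
        ∃ i, orderOf (powProj φ k i x) = p * orderOf x.right) := by
  haveI := Fact.mk hp
  by_cases h : (x ^ orderOf x.right).left = 1
  · left
    rw [orderOf_eq_right_mul x, h, orderOf_one, mul_one]
  · right
    obtain ⟨i, hi⟩ := Function.ne_iff.1 h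
    have h1 : orderOf (x ^ orderOf x.right).left = p :=
      orderOf_eq_prime (funext fun j => hexp _) h
    refine ⟨by rw [orderOf_eq_right_mul x, h1, mul_comm], i, ?_⟩
    have hl : (powProj φ k i x ^ orderOf x.right).left = (x ^ orderOf x.right).left i := by
      rw [← map_pow, powProj_left]
    rw [orderOf_eq_right_mul (powProj φ k i x), powProj_right, hl,
      orderOf_eq_prime (hexp _) hi, mul_comm]

/-- Adding copies of `V` does not enlarge the spectrum of `V ⋊ G` (when that equals that of `G`). -/
theorem range_orderOf_pow {p : ℕ} (hp : p.Prime) (hexp : ∀ v : V, v ^ p = 1)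
    (h : ∀ x : V ⋊[φ] G, ∃ g : G, orderOf g = orderOf x) (k : ℕ) :
    Set.range (orderOf : (Fin k → V) ⋊[powAct φ k] G → ℕ) = Set.range (orderOf : G → ℕ) := by
  ext n
  constructor
  · rintro ⟨x, rfl⟩
    rcases orderOf_pow_cases hp hexp x with hx | ⟨hx, i, hi⟩
    · exact ⟨x.right, hx.symm⟩
    · obtain ⟨g, hg⟩ := h (powProj φ k i x)
      exact ⟨g, by rw [hg, hi, hx]⟩
  · rintro ⟨g, rfl⟩
    exact ⟨SemidirectProduct.inr g, orderOf_injective _ SemidirectProduct.inr_injective g⟩

/-- Prime graph of `V^k ⋊ G`: it equals that of `G` if every element of prime order `r ≠ p` either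
fixes no non-trivial vector or has `G` containing an element of order `p * r`. -/
theorem primeGraph_pow {p : ℕ} (hp : p.Prime) (hpG : p ∣ Nat.card G) (hexp : ∀ v : V, v ^ p = 1)
    [Finite V] (h : ∀ g : G, (orderOf g).Prime → orderOf g ≠ p →
      (∀ v : V, φ g v = v → v = 1) ∨ ∃ g' : G, orderOf g' = p * orderOf g) (k : ℕ) :
    (∀ r : ℕ, r.Prime → (r ∣ Nat.card G ↔ r ∣ Nat.card ((Fin k → V) ⋊[powAct φ k] G))) ∧
    (∀ r s : ℕ, r.Prime → s.Prime → r ≠ s →
      ((∃ g : G, orderOf g = r * s) ↔
        ∃ x : (Fin k → V) ⋊[powAct φ k] G, orderOf x = r * s)) := by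
  refine ⟨fun r hr => ⟨fun hd => ?_, fun hd => ?_⟩, fun r s hr hs hrs => ⟨?_, ?_⟩⟩
  · exact hd.trans (Subgroup.card_dvd_of_injective _ SemidirectProduct.inr_injective)
  · haveI := Fact.mk hr
    obtain ⟨x, hx⟩ := exists_prime_orderOf_dvd_card' r hd
    rcases orderOf_pow_cases hp hexp x with hxr | ⟨hxr, -⟩
    · rw [← hx, hxr]; exact orderOf_dvd_natCard _
    · rw [hxr] at hx
      have : r = p := ((Nat.prime_dvd_prime_iff_eq hp hr).1 ⟨_, hx.symm⟩).symm
      rw [this]; exact hpG
  · rintro ⟨g, hg⟩
    exact ⟨SemidirectProduct.inr g, by rw [orderOf_injective _ SemidirectProduct.inr_injective, hg]⟩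
  · rintro ⟨x, hx⟩
    rcases orderOf_pow_cases hp hexp x with hxr | ⟨hxr, i, hi⟩
    · exact ⟨x.right, hxr ▸ hx⟩
    · have key : ∀ a : ℕ, a.Prime → a ≠ p → orderOf x.right = a → ∃ g : G, orderOf g = p * a := by
        intro a ha hap hxa
        rcases h x.right (hxa ▸ ha) (hxa ▸ hap) with hf | ⟨g', hg'⟩
        · have := orderOf_eq_of_fixedPointFree x (pow_fixedPointFree hf)
          have hpos := orderOf_pos x.right
          rw [this] at hxr
          exact absurd (Nat.eq_of_mul_eq_mul_right hpos
            (show p * orderOf x.right = 1 * orderOf x.right by omega)) hp.ne_one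
        · exact ⟨g', hxa ▸ hg'⟩
      rw [hxr] at hx
      have hdvd : p ∣ r * s := ⟨_, hx.symm⟩
      rcases (Nat.Prime.dvd_mul hp).1 hdvd with hpr | hps
      · obtain rfl := (Nat.prime_dvd_prime_iff_eq hp hr).1 hpr
        exact key s hs hrs.symm (Nat.eq_of_mul_eq_mul_left hp.pos hx)
      · obtain rfl := (Nat.prime_dvd_prime_iff_eq hp hs).1 hps
        rw [mul_comm r p] at hx ⊢
        exact key r hr hrs (Nat.eq_of_mul_eq_mul_left hp.pos hx)

omit [Finite G] in
theorem card_pow_semidirect (k : ℕ) :
    Nat.card ((Fin k → V) ⋊[powAct φ k] G) = Nat.card V ^ k * Nat.card G := by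
  rw [SemidirectProduct.card, Nat.card_fun, Nat.card_fin]

theorem lt_card_pow_semidirect [Finite V] [Nontrivial V] (N : ℕ) :
    N < Nat.card ((Fin N → V) ⋊[powAct φ N] G) := by
  rw [card_pow_semidirect]
  have h1 : N < Nat.card V ^ N := Nat.lt_pow_self Finite.one_lt_card
  exact h1.trans_le (Nat.le_mul_of_pos_right _ Nat.card_pos)

end Power

/-- Every finite group is isomorphic to one on a type in `Type`. -/
theorem exists_small_equiv (X : Type*) [Group X] [Finite X] :
    ∃ (H : Type) (_ : Group H) (_ : Fintype H), Nonempty (H ≃* X) := by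
  let e := (Finite.equivFin X).symm
  letI := e.group
  exact ⟨Fin (Nat.card X), e.group, inferInstance, ⟨e.mulEquiv⟩⟩

theorem range_orderOf_congr {A B : Type*} [Group A] [Group B] (e : A ≃* B) :
    Set.range (orderOf : A → ℕ) = Set.range (orderOf : B → ℕ) := by
  ext n
  constructor
  · rintro ⟨a, rfl⟩; exact ⟨e a, MulEquiv.orderOf_eq e a⟩
  · rintro ⟨b, rfl⟩; exact ⟨e.symm b, MulEquiv.orderOf_eq e.symm b⟩

end CfsgLib.Spectrum
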