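import Mathlib
import Cfsg.Agent.Lib.Spectrum.Semidirect

/-!
The Frobenius groups `K⁺ ⋊ C` with `K` a finite field and `C` a subgroup of its multiplicative group.
-/

set_option autoImplicit false

namespace CfsgLib.Spectrum

variable {K : Type*} [Field K]

/-- A subgroup of `Kˣ` acting on the additive group of `K`. -/
def mulAct (C : Subgroup Kˣ) : C →* MulAut (Multiplicative K) where
  toFun c := AddEquiv.toMultiplicative
    { toFun := fun v => ((c : Kˣ) : K) * v
      invFun := fun v => ((c : Kˣ)⁻¹ : Kˣ) * v
      left_inv := fun v => Units.inv_mul_cancel_left _ v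
      right_inv := fun v => Units.mul_inv_cancel_left _ v
      map_add' := mul_add _ }
  map_one' := by ext v; simp
  map_mul' a b := by ext v; simp [mul_assoc]

theorem mulAct_apply {C : Subgroup Kˣ} (c : C) (v : Multiplicative K) :
    (mulAct C c v).toAdd = ((c : Kˣ) : K) * v.toAdd := rfl

theorem mulAct_fixedPointFree {C : Subgroup Kˣ} {c : C} (hc : c ≠ 1) (v : Multiplicative K)
    (hv : mulAct C c v = v) : v = 1 := by
  have h := congrArg Multiplicative.toAdd hv
  rw [mulAct_apply] at h
  by_contra hne
  have h0 : v.toAdd ≠ 0 := fun e => hne (Multiplicative.toAdd.injective e)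
  exact hc (Subtype.ext (Units.ext ((mul_eq_right₀ h0).1 h)))

/-- The group `K⁺ ⋊ C`. -/
abbrev FrobGroup (C : Subgroup Kˣ) := Multiplicative K ⋊[mulAct C] C

theorem pow_char_multiplicative (p : ℕ) [CharP K p] (v : Multiplicative K) : v ^ p = 1 := by
  apply Multiplicative.toAdd.injective
  rw [toAdd_pow, toAdd_one, nsmul_eq_mul, CharP.cast_eq_zero, zero_mul]

theorem range_orderOf_frobGroup [Finite K] {p : ℕ} [hp : Fact p.Prime] [CharP K p] (C : Subgroup Kˣ) :
    Set.range (orderOf : FrobGroup C → ℕ) = {d | d ∣ p ∨ d ∣ Nat.card C} := by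
  haveI : Finite C := inferInstance
  ext d
  constructor
  · rintro ⟨x, rfl⟩
    by_cases hx : x.right = 1
    · left
      have hx' : x = SemidirectProduct.inl x.left := by ext <;> simp [hx]
      rw [hx', orderOf_injective _ SemidirectProduct.inl_injective]
      exact orderOf_dvd_of_pow_eq_one (pow_char_multiplicative p _)
    · right
      rw [orderOf_eq_of_fixedPointFree x (mulAct_fixedPointFree hx)]
      exact orderOf_dvd_natCard _
  · rintro (hd | hd)
    · rcases (Nat.dvd_prime hp.out).1 hd with rfl | rfl
      · exact ⟨1, orderOf_one⟩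
      · refine ⟨SemidirectProduct.inl (Multiplicative.ofAdd 1), ?_⟩
        rw [orderOf_injective _ SemidirectProduct.inl_injective]
        exact orderOf_eq_prime (pow_char_multiplicative d _) fun h => one_ne_zero (α := K)
          (congrArg Multiplicative.toAdd h)
    · obtain ⟨g, hg⟩ := IsCyclic.exists_generator (α := C)
      refine ⟨SemidirectProduct.inr (g ^ (orderOf g / d)), ?_⟩
      rw [orderOf_injective _ SemidirectProduct.inr_injective,
        orderOf_pow_orderOf_div (orderOf_pos g).ne'
          ((orderOf_eq_card_of_forall_mem_zpowers hg).symm ▸ hd)]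

/-- A finite field of characteristic `p` has a multiplicative subgroup of any order prime to `p`. -/
theorem exists_units_subgroup (p n : ℕ) [hp : Fact p.Prime] (hn : n.Coprime p) (hn0 : 0 < n) :
    ∃ (f : ℕ) (C : Subgroup (GaloisField p f)ˣ), f ≠ 0 ∧ Nat.card C = n := by
  have hd : n ∣ p ^ n.totient - 1 :=
    (Nat.modEq_iff_dvd' (Nat.one_le_pow _ _ hp.out.pos)).1 (Nat.ModEq.pow_totient hn.symm).symm
  have hf : n.totient ≠ 0 := (Nat.totient_pos.2 hn0).ne'
  refine ⟨n.totient, ?_⟩
  haveI : Fintype (GaloisField p n.totient) := Fintype.ofFinite _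
  obtain ⟨g, hg⟩ := IsCyclic.exists_generator (α := (GaloisField p n.totient)ˣ)
  have ho : orderOf g = p ^ n.totient - 1 := by
    rw [orderOf_eq_card_of_forall_mem_zpowers hg, Nat.card_units, GaloisField.card p _ hf]
  refine ⟨Subgroup.zpowers (g ^ (orderOf g / n)), hf, ?_⟩
  rw [Nat.card_zpowers, orderOf_pow_orderOf_div (orderOf_pos g).ne' (ho ▸ hd)]

end CfsgLib.Spectrum
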