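import Cfsg.Agent.Lib.Spectrum.Semidirect

/-!
For an abelian normal subgroup `V` of prime exponent, `V ⋊ G` (conjugation) has the spectrum of `G`;
so a finite group with a non-trivial solvable normal subgroup has isospectral groups of every size.
-/

set_option autoImplicit false

open scoped commutatorElement

namespace CfsgLib.Spectrum

variable {G : Type*} [Group G] [Finite G] (V : Subgroup G) [V.Normal]

theorem conj_semidirect_orderOf {p : ℕ} (hp : p.Prime) (hcomm : IsMulCommutative V)
    (hexp : ∀ x : V, x ^ p = 1) (x : V ⋊[MulAut.conjNormal] G) :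
    ∃ g : G, orderOf g = orderOf x := by
  letI : CommGroup V := { (inferInstance : Group V) with mul_comm := hcomm.is_comm.comm }
  haveI := Fact.mk hp
  let μ : V ⋊[(MulAut.conjNormal : G →* MulAut V)] G →* G :=
    SemidirectProduct.lift V.subtype (MonoidHom.id G) (fun g => by
      ext v; simp [MulAut.conj_apply, MulAut.conjNormal_apply])
  set n := orderOf x.right with hn
  set T := (x ^ n).left with hT
  by_cases hT1 : T = 1
  · exact ⟨x.right, by rw [orderOf_eq_right_mul x, ← hn, ← hT, hT1, orderOf_one, mul_one]⟩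
  refine ⟨μ x, ?_⟩
  have hTp : orderOf T = p := orderOf_eq_prime (hexp T) hT1
  rw [orderOf_eq_right_mul x, ← hn, ← hT, hTp]
  have hμT : μ x ^ n = (T : G) := by
    have h1 : x ^ n = SemidirectProduct.inl T := pow_orderOf_right x
    rw [← map_pow, h1]
    simp [μ]
  have hμx : μ x = (x.left : G) * x.right := by simp [μ, SemidirectProduct.lift]
  have hq : (QuotientGroup.mk (μ x) : G ⧸ V) = QuotientGroup.mk x.right := by
    rw [hμx, QuotientGroup.mk_mul, (QuotientGroup.eq_one_iff _).2 x.left.2, one_mul]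
  set d := orderOf (QuotientGroup.mk x.right : G ⧸ V) with hd
  have hmem : ∀ a : G, (QuotientGroup.mk a : G ⧸ V) = QuotientGroup.mk x.right → a ^ d ∈ V := by
    intro a ha
    rw [← QuotientGroup.eq_one_iff, QuotientGroup.mk_pow, ha, hd, pow_orderOf_eq_one]
  have hpow : ∀ a ∈ V, a ^ p = (1 : G) := fun a ha => by
    simpa using congrArg Subtype.val (hexp ⟨a, ha⟩)
  have hdn : d ∣ n := orderOf_map_dvd (QuotientGroup.mk' V) x.right
  obtain ⟨c, hc⟩ := hdn
  have hndp : n ∣ d * p := orderOf_dvd_of_pow_eq_one (by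
    rw [pow_mul]; exact hpow _ (hmem _ rfl))
  have hd0 : 0 < d := orderOf_pos _
  rw [hc] at hndp
  rcases (Nat.dvd_prime hp).1 (Nat.dvd_of_mul_dvd_mul_left hd0 hndp) with rfl | rfl
  · rw [mul_one] at hc
    have hdμ : d ∣ orderOf (μ x) := by
      rw [hd, ← hq]
      exact orderOf_map_dvd (QuotientGroup.mk' V) (μ x)
    obtain ⟨e, he⟩ := hdμ
    have he0 : e ≠ 0 := fun h => (orderOf_pos (μ x)).ne' (by rw [he, h, mul_zero])
    have h2 : orderOf (μ x ^ d) = p := by rw [← hc, hμT, Subgroup.orderOf_coe, hTp]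
    rw [orderOf_pow_of_dvd hd0.ne' (Dvd.intro e he.symm), he, Nat.mul_div_cancel_left _ hd0] at h2
    rw [he, h2, hc]
  · exfalso
    apply hT1
    apply Subtype.ext
    rw [OneMemClass.coe_one, ← hμT, hc, pow_mul]
    exact hpow _ (hmem _ hq)

/-- A finite group with a non-trivial abelian normal subgroup of prime exponent has isospectral
groups of arbitrarily large order. -/
theorem exists_isospectral_large_of_elementary {p : ℕ} (hp : p.Prime) (hV : V ≠ ⊥)
    (hcomm : IsMulCommutative V) (hexp : ∀ x : V, x ^ p = 1) (N : ℕ) :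
    ∃ (H : Type) (_ : Group H) (_ : Fintype H), N < Fintype.card H ∧
      Set.range (orderOf : H → ℕ) = Set.range (orderOf : G → ℕ) := by
  letI : CommGroup V := { (inferInstance : Group V) with mul_comm := hcomm.is_comm.comm }
  haveI : Nontrivial V := (Subgroup.nontrivial_iff_ne_bot V).2 hV
  obtain ⟨H, i1, i2, ⟨e⟩⟩ := exists_small_equiv
    ((Fin N → V) ⋊[powAct (MulAut.conjNormal : G →* MulAut V) N] G)
  refine ⟨H, i1, i2, ?_, ?_⟩
  · rw [← Nat.card_eq_fintype_card, Nat.card_congr e.toEquiv]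
    exact lt_card_pow_semidirect N
  · rw [range_orderOf_congr e]
    exact range_orderOf_pow hp hexp (conj_semidirect_orderOf V hp hcomm hexp) N

omit [V.Normal] in
/-- A non-trivial solvable normal subgroup contains a non-trivial normal subgroup of `G` which is
elementary abelian. -/
theorem exists_normal_elementary [V.Normal] (hV : V ≠ ⊥) (hs : Group.IsSolvable V) :
    ∃ (p : ℕ) (W : Subgroup G), p.Prime ∧ W.Normal ∧ W ≠ ⊥ ∧ W ≤ V ∧ IsMulCommutative W ∧
      ∀ x : W, x ^ p = 1 := by
  classical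
  have hn : ∃ n, derivedSeries V n = ⊥ := (Group.isSolvable_def V).1 hs
  set n := Nat.find hn with hndef
  have hn1 : derivedSeries V n = ⊥ := Nat.find_spec hn
  obtain ⟨m, hm⟩ : ∃ m, n = m + 1 := Nat.exists_eq_succ_of_ne_zero (fun h => by
    rw [h, derivedSeries_zero] at hn1
    haveI := (Subgroup.nontrivial_iff_ne_bot V).2 hV
    exact top_ne_bot hn1)
  set D := derivedSeries V m with hD
  have hDne : D ≠ ⊥ := Nat.find_min hn (by omega)
  have hDc : ∀ a ∈ D, ∀ b ∈ D, a * b = b * a := by
    intro a ha b hb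
    have h : ⁅a, b⁆ ∈ derivedSeries V (m + 1) := by
      rw [derivedSeries_succ]; exact Subgroup.commutator_mem_commutator ha hb
    rw [← hm, hn1, Subgroup.mem_bot, commutatorElement_eq_one_iff_mul_comm] at h
    exact h
  haveI : D.Characteristic := derivedSeries_characteristic V m
  let A : Subgroup G := D.map V.subtype
  haveI hA : A.Normal := ConjAct.normal_of_characteristic_of_normal
  have hAne : A ≠ ⊥ := fun h => hDne
    ((Subgroup.map_eq_bot_iff_of_injective _ V.subtype_injective).1 h)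
  obtain ⟨p, hp, hpd⟩ := Nat.exists_prime_and_dvd
    (show Nat.card A ≠ 1 from fun h => hAne (Subgroup.card_eq_one.1 h))
  haveI := Fact.mk hp
  have hAc : ∀ a ∈ A, ∀ b ∈ A, a * b = b * a := by
    rintro _ ⟨a, ha, rfl⟩ _ ⟨b, hb, rfl⟩
    rw [← map_mul, hDc a ha b hb, map_mul]
  let W : Subgroup G :=
    { carrier := {a | a ∈ A ∧ a ^ p = 1}
      one_mem' := ⟨A.one_mem, one_pow _⟩
      mul_mem' := fun {a b} ha hb => ⟨A.mul_mem ha.1 hb.1, by
        rw [(show Commute a b from hAc a ha.1 b hb.1).mul_pow, ha.2, hb.2, one_mul]⟩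
      inv_mem' := fun {a} ha => ⟨A.inv_mem ha.1, by rw [inv_pow, ha.2, inv_one]⟩ }
  refine ⟨p, W, hp, ⟨fun a ha g => ⟨hA.conj_mem a ha.1 g, by
    rw [conj_pow, ha.2, mul_one, mul_inv_cancel]⟩⟩, ?_, ?_, ⟨⟨?_⟩⟩, ?_⟩
  · intro h
    obtain ⟨z, hz⟩ := exists_prime_orderOf_dvd_card' p hpd
    have hzG : orderOf (z : G) = p := by rw [Subgroup.orderOf_coe, hz]
    have : (z : G) ∈ W := ⟨z.2, by rw [← hzG, pow_orderOf_eq_one]⟩
    rw [h, Subgroup.mem_bot] at this
    rw [this, orderOf_one] at hzG
    exact hp.ne_one hzG.symm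
  · intro a ha
    obtain ⟨b, -, rfl⟩ := ha.1
    exact b.2
  · exact fun a b => Subtype.ext (hAc a a.2.1 b b.2.1)
  · exact fun a => Subtype.ext a.2.2

theorem exists_isospectral_large_of_solvable (hV : V ≠ ⊥) (hs : Group.IsSolvable V) (N : ℕ) :
    ∃ (H : Type) (_ : Group H) (_ : Fintype H), N < Fintype.card H ∧
      Set.range (orderOf : H → ℕ) = Set.range (orderOf : G → ℕ) := by
  obtain ⟨p, W, hp, hW, hW1, -, hc, he⟩ := exists_normal_elementary V hV hs
  exact exists_isospectral_large_of_elementary W hp hW1 hc he N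

end CfsgLib.Spectrum
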