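import Cfsg.Agent.Lib.Spectrum.A10
import Cfsg.Agent.Lib.Spectrum.Unbounded

/-!
The group `2^6 : A8` (the deleted permutation module over GF(2)) has the element orders of `S8`;
hence there are arbitrarily large groups with the element orders of `S8`.
-/

set_option autoImplicit false
set_option maxRecDepth 100000

namespace CfsgLib.Spectrum.S8Twins

/-- The element orders of `S8`. -/
def eightOrders : Set ℕ := {1, 2, 3, 4, 5, 6, 7, 8, 10, 12, 15}

theorem lcm_partLists_eight : ∀ l ∈ partLists 8 8,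
    l.foldr Nat.lcm 1 ∈ [1, 2, 3, 4, 5, 6, 7, 8, 10, 12, 15] ∧
    ((l.sum + l.length) % 2 = 0 → l.foldr Nat.lcm 1 ∈ [1, 2, 3, 4, 5, 6, 7, 15]) ∧
    (l.foldr Nat.lcm 1 = 7 → l ∈ [[7]]) ∧
    (l.foldr Nat.lcm 1 = 15 → l ∈ [[5, 3], [3, 5]]) := by
  decide +kernel

theorem cycleList (σ : Equiv.Perm (Fin 8)) : ∃ l ∈ partLists 8 8,
    (l : Multiset ℕ) = σ.cycleType ∧ orderOf σ = l.foldr Nat.lcm 1 ∧
    (Equiv.Perm.sign σ = 1 → (l.sum + l.length) % 2 = 0) := by
  set l := σ.cycleType.toList with hl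
  have hcoe : (l : Multiset ℕ) = σ.cycleType := Multiset.coe_toList _
  have hle := σ.sum_cycleType_le
  rw [Fintype.card_fin, ← hcoe, Multiset.sum_coe] at hle
  refine ⟨l, mem_partLists l 8 8 (fun a ha => Equiv.Perm.two_le_of_mem_cycleType
      (σ := σ) (Multiset.mem_toList.1 ha)) hle hle, hcoe, ?_, ?_⟩
  · rw [← Equiv.Perm.lcm_cycleType, ← hcoe]
    rfl
  · intro h
    rw [Equiv.Perm.sign_of_cycleType, ← hcoe, neg_one_pow_eq_one_iff_even (by decide)] at h
    simpa [Multiset.sum_coe, Multiset.coe_card, Nat.even_iff] using h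

theorem orders_S8 : Set.range (orderOf : Equiv.Perm (Fin 8) → ℕ) = eightOrders := by
  ext n
  constructor
  · rintro ⟨σ, rfl⟩
    obtain ⟨l, hl, -, ho, -⟩ := cycleList σ
    have := (lcm_partLists_eight l hl).1
    rw [ho]
    simpa [eightOrders] using this
  · intro hn
    have mk : ∀ σ : Equiv.Perm (Fin 8), ∀ m, σ ^ m = 1 →
        (∀ k < m, 0 < k → σ ^ k ≠ 1) → 0 < m → ∀ d, d ∣ m →
        ∃ g : Equiv.Perm (Fin 8), orderOf g = d := by
      intro σ m hm hk hm0 d hd
      have hord : orderOf σ = m := (orderOf_eq_iff hm0).2 ⟨hm, hk⟩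
      exact ⟨σ ^ (m / d), by rw [← hord, orderOf_pow_orderOf_div (by omega) (by rw [hord]; exact hd)]⟩
    have w8 := mk (List.formPerm [0, 1, 2, 3, 4, 5, 6, 7]) 8
      (by decide +kernel) (by decide +kernel) (by norm_num)
    have w7 := mk (List.formPerm [0, 1, 2, 3, 4, 5, 6]) 7
      (by decide +kernel) (by decide +kernel) (by norm_num)
    have w10 := mk (List.formPerm [0, 1, 2, 3, 4] * List.formPerm [5, 6]) 10
      (by decide +kernel) (by decide +kernel) (by norm_num)
    have w12 := mk (List.formPerm [0, 1, 2, 3] * List.formPerm [4, 5, 6]) 12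
      (by decide +kernel) (by decide +kernel) (by norm_num)
    have w15 := mk (List.formPerm [0, 1, 2, 3, 4] * List.formPerm [5, 6, 7]) 15
      (by decide +kernel) (by decide +kernel) (by norm_num)
    simp only [eightOrders, Set.mem_insert_iff, Set.mem_singleton_iff] at hn
    rcases hn with rfl|rfl|rfl|rfl|rfl|rfl|rfl|rfl|rfl|rfl|rfl
    · exact w8 1 (by norm_num)
    · exact w8 2 (by norm_num)
    · exact w15 3 (by norm_num)
    · exact w8 4 (by norm_num)
    · exact w15 5 (by norm_num)
    · exact w12 6 (by norm_num)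
    · exact w7 7 (by norm_num)
    · exact w8 8 (by norm_num)
    · exact w10 10 (by norm_num)
    · exact w12 12 (by norm_num)
    · exact w15 15 (by norm_num)

/-- Even subsets of eight points avoiding the point `0`: the six-dimensional deleted module. -/
def wVec : AddSubgroup (Fin 8 → ZMod 2) where
  carrier := {f | ∑ i, f i = 0 ∧ f 0 = 0}
  zero_mem' := by simp
  add_mem' := fun {a b} ha hb => by
    refine ⟨?_, by simp [ha.2, hb.2]⟩
    simp [Finset.sum_add_distrib, ha.1, hb.1]
  neg_mem' := fun {a} ha => by simp [ha.1, ha.2]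

theorem mem_wVec (f : Fin 8 → ZMod 2) : f ∈ wVec ↔ ∑ i, f i = 0 ∧ f 0 = 0 := Iff.rfl

instance instDecidableEqWVec : DecidableEq wVec := fun a b =>
  decidable_of_iff ((a : Fin 8 → ZMod 2) = b) Subtype.ext_iff.symm

/-- The normalised action. -/
def actFun (g : Equiv.Perm (Fin 8)) (f : wVec) : wVec :=
  ⟨fun i => (f : Fin 8 → ZMod 2) (g⁻¹ i) - (f : Fin 8 → ZMod 2) (g⁻¹ 0), by
    refine ⟨?_, by simp⟩
    rw [Finset.sum_sub_distrib, Equiv.sum_comp g⁻¹ (f : Fin 8 → ZMod 2), f.2.1,
      Finset.sum_const, Finset.card_univ, Fintype.card_fin, zero_sub, neg_eq_zero,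
      nsmul_eq_mul, show ((8 : ℕ) : ZMod 2) = 0 from by decide, zero_mul]⟩

theorem actFun_val (g : Equiv.Perm (Fin 8)) (f : wVec) (i : Fin 8) :
    (actFun g f : Fin 8 → ZMod 2) i =
      (f : Fin 8 → ZMod 2) (g⁻¹ i) - (f : Fin 8 → ZMod 2) (g⁻¹ 0) := rfl

theorem actFun_one (f : wVec) : actFun 1 f = f := by
  apply Subtype.ext; funext i
  simp [actFun_val, f.2.2]

theorem actFun_mul (g h : Equiv.Perm (Fin 8)) (f : wVec) :
    actFun (g * h) f = actFun g (actFun h f) := by
  apply Subtype.ext; funext i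
  simp [actFun_val, mul_inv_rev]

theorem actFun_add (g : Equiv.Perm (Fin 8)) (f k : wVec) :
    actFun g (f + k) = actFun g f + actFun g k := by
  apply Subtype.ext; funext i
  simp [actFun_val]; ring

/-- The action on the module, as automorphisms. -/
def actAut (g : Equiv.Perm (Fin 8)) : MulAut (Multiplicative wVec) :=
  AddEquiv.toMultiplicative
    { toFun := actFun g
      invFun := actFun g⁻¹
      left_inv := fun f => by rw [← actFun_mul, inv_mul_cancel, actFun_one]
      right_inv := fun f => by rw [← actFun_mul, mul_inv_cancel, actFun_one]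
      map_add' := actFun_add g }

theorem actAut_apply (g : Equiv.Perm (Fin 8)) (f : Multiplicative wVec) :
    actAut g f = Multiplicative.ofAdd (actFun g f.toAdd) := rfl

/-- The action of the alternating group. -/
def wHom : alternatingGroup (Fin 8) →* MulAut (Multiplicative wVec) where
  toFun g := actAut g
  map_one' := by
    ext f : 1
    simp [actAut_apply, actFun_one]
  map_mul' g h := by
    ext f : 1
    simp [actAut_apply, actFun_mul]

/-- No non-zero vector is fixed. -/
def NoFix (g : Equiv.Perm (Fin 8)) : Prop :=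
  ∀ f : Fin 8 → ZMod 2, (∀ i, f (g i) = f i) → ∑ i, f i = 0 → ∀ i j, f i = f j

theorem noFix_of_isConj {g h : Equiv.Perm (Fin 8)} (hgh : IsConj h g) (hh : NoFix h) :
    NoFix g := by
  obtain ⟨c, rfl⟩ := isConj_iff.1 hgh
  intro f hf hs i j
  have h1 := hh (fun x => f (c x)) (fun x => by
      have := hf (c x)
      simpa [Equiv.Perm.mul_apply] using this)
    (by rw [Equiv.sum_comp c f]; exact hs) (c⁻¹ i) (c⁻¹ j)
  simpa using h1

theorem noFix_seven : NoFix (List.formPerm [0, 1, 2, 3, 4, 5, 6]) := by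
  unfold NoFix; decide +kernel

theorem noFix_fifteen : NoFix (List.formPerm [0, 1, 2, 3, 4] * List.formPerm [5, 6, 7]) := by
  unfold NoFix; decide +kernel

theorem noFix_of_orderOf {g : Equiv.Perm (Fin 8)} (hg : orderOf g = 7 ∨ orderOf g = 15) :
    NoFix g := by
  obtain ⟨l, hl, hcoe, ho, -⟩ := cycleList g
  rw [ho] at hg
  rcases hg with h | h
  · have hm := (lcm_partLists_eight l hl).2.2.1 h
    simp only [List.mem_singleton] at hm
    refine noFix_of_isConj (Equiv.Perm.isConj_iff_cycleType_eq.2 ?_) noFix_seven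
    rw [← hcoe, hm]
    decide +kernel
  · have hm := (lcm_partLists_eight l hl).2.2.2 h
    refine noFix_of_isConj (Equiv.Perm.isConj_iff_cycleType_eq.2 ?_) noFix_fifteen
    rw [← hcoe]
    simp only [List.mem_cons, List.not_mem_nil, or_false] at hm
    rcases hm with rfl | rfl <;> decide +kernel

theorem eq_one_of_fixed (g : alternatingGroup (Fin 8))
    (hg : orderOf g = 7 ∨ orderOf g = 15) (v : Multiplicative wVec) (hv : wHom g v = v) :
    v = 1 := by
  have hodd : ∀ i, (v.toAdd : Fin 8 → ZMod 2) ((g : Equiv.Perm (Fin 8))⁻¹ i) =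
      (v.toAdd : Fin 8 → ZMod 2) i + (v.toAdd : Fin 8 → ZMod 2) ((g : Equiv.Perm (Fin 8))⁻¹ 0) := by
    intro i
    have h : actFun (g : Equiv.Perm (Fin 8)) v.toAdd = v.toAdd := by
      have := congrArg Multiplicative.toAdd hv
      simpa [wHom, actAut_apply] using this
    have h2 := congrFun (congrArg Subtype.val h) i
    rw [actFun_val, sub_eq_iff_eq_add] at h2
    exact h2
  set f : Fin 8 → ZMod 2 := (v.toAdd : Fin 8 → ZMod 2) with hf
  set σ : Equiv.Perm (Fin 8) := (g : Equiv.Perm (Fin 8))⁻¹ with hσ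
  set c := f (σ 0) with hc
  have hit : ∀ n : ℕ, ∀ i, f ((σ ^ n) i) = f i + n • c := by
    intro n
    induction n with
    | zero => intro i; simp
    | succ n ih =>
      intro i
      rw [pow_succ', Equiv.Perm.mul_apply, hodd, ih, succ_nsmul, add_assoc]
  have ho : orderOf σ = orderOf g := by rw [hσ, orderOf_inv, Subgroup.orderOf_coe]
  have hc0 : c = 0 := by
    have h := hit (orderOf σ) 0
    rw [pow_orderOf_eq_one, Equiv.Perm.one_apply, left_eq_add, ho] at h
    rcases hg with h7 | h7 <;> rw [h7] at h <;>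
      · revert h; generalize c = a; revert a; decide
  have hno : NoFix σ := noFix_of_orderOf (by rw [ho]; exact hg)
  have hconst := hno f (fun i => by rw [hodd, hc0, add_zero]) (v.toAdd).2.1
  apply Multiplicative.toAdd.injective
  apply Subtype.ext
  funext i
  rw [toAdd_one, ZeroMemClass.coe_zero, Pi.zero_apply, ← hf, hconst i 0]
  exact (v.toAdd).2.2

theorem sq_eq_one (v : Multiplicative wVec) : v ^ 2 = 1 := by
  apply Multiplicative.toAdd.injective
  apply Subtype.ext
  funext i
  simp only [toAdd_pow, toAdd_one, AddSubmonoidClass.coe_nsmul, ZeroMemClass.coe_zero,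
    Pi.smul_apply, Pi.zero_apply]
  exact (by decide : ∀ a : ZMod 2, (2 : ℕ) • a = 0) _

/-- `2^6 : A8`. -/
abbrev Twin : Type := Multiplicative wVec ⋊[wHom] alternatingGroup (Fin 8)

theorem orders_Twin : Set.range (orderOf : Twin → ℕ) = eightOrders := by
  ext n
  constructor
  · rintro ⟨x, rfl⟩
    obtain ⟨l, hl, -, ho, hev⟩ := cycleList (x.right : Equiv.Perm (Fin 8))
    have hn := (lcm_partLists_eight l hl).2.1
      (hev (Equiv.Perm.mem_alternatingGroup.1 x.right.2))
    rw [← ho, Subgroup.orderOf_coe] at hn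
    rw [orderOf_eq_right_mul x]
    have hT : orderOf (x ^ orderOf x.right).left ∣ 2 := orderOf_dvd_of_pow_eq_one (sq_eq_one _)
    have hfix : (orderOf x.right = 7 ∨ orderOf x.right = 15) →
        orderOf (x ^ orderOf x.right).left = 1 := fun h => by
      rw [eq_one_of_fixed x.right h _ (norm_fixed x), orderOf_one]
    simp only [List.mem_cons, List.not_mem_nil, or_false] at hn
    rcases (Nat.dvd_prime Nat.prime_two).1 hT with h | h
    · rw [h, mul_one]
      rcases hn with e|e|e|e|e|e|e|e <;> simp [eightOrders, e]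
    · rw [h]
      have h7 : ¬ (orderOf x.right = 7 ∨ orderOf x.right = 15) := fun e => by
        rw [hfix e] at h; omega
      rcases hn with e|e|e|e|e|e|e|e <;> simp [eightOrders, e] at h7 ⊢
  · intro hn
    have mk : ∀ (σ : alternatingGroup (Fin 8)) (v : Multiplicative wVec) (m : ℕ),
        (((⟨v, σ⟩ : Twin) ^ m).left = 1 ∧ ((⟨v, σ⟩ : Twin) ^ m).right = 1) →
        (∀ k < m, 0 < k → ¬ (((⟨v, σ⟩ : Twin) ^ k).left = 1 ∧ ((⟨v, σ⟩ : Twin) ^ k).right = 1)) →
        0 < m → ∀ d, d ∣ m → ∃ g : Twin, orderOf g = d := by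
      intro σ v m hm hk hm0 d hd
      have hord : orderOf (⟨v, σ⟩ : Twin) = m := (orderOf_eq_iff hm0).2
        ⟨SemidirectProduct.ext hm.1 hm.2,
          fun k h1 h2 h3 => hk k h1 h2 ⟨by rw [h3]; rfl, by rw [h3]; rfl⟩⟩
      exact ⟨(⟨v, σ⟩ : Twin) ^ (m / d), by
        rw [← hord, orderOf_pow_orderOf_div (by omega) (by rw [hord]; exact hd)]⟩
    have w8 := mk ⟨List.formPerm [1, 2, 3, 4] * List.formPerm [5, 6], Equiv.Perm.mem_alternatingGroup.2 (by decide +kernel)⟩
      (Multiplicative.ofAdd ⟨![0, 1, 0, 0, 0, 0, 0, 1], (mem_wVec _).2 (by decide +kernel)⟩) 8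
      (by decide +kernel) (by decide +kernel) (by norm_num)
    have w10 := mk ⟨List.formPerm [1, 2, 3, 4, 5], Equiv.Perm.mem_alternatingGroup.2 (by decide +kernel)⟩
      (Multiplicative.ofAdd ⟨![0, 0, 0, 0, 0, 0, 1, 1], (mem_wVec _).2 (by decide +kernel)⟩) 10
      (by decide +kernel) (by decide +kernel) (by norm_num)
    have w12 := mk ⟨List.formPerm [1, 2, 3] * List.formPerm [4, 5] * List.formPerm [6, 0], Equiv.Perm.mem_alternatingGroup.2 (by decide +kernel)⟩
      (Multiplicative.ofAdd ⟨![0, 0, 0, 0, 1, 0, 0, 1], (mem_wVec _).2 (by decide +kernel)⟩) 12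
      (by decide +kernel) (by decide +kernel) (by norm_num)
    have w15 := mk ⟨List.formPerm [0, 1, 2, 3, 4] * List.formPerm [5, 6, 7], Equiv.Perm.mem_alternatingGroup.2 (by decide +kernel)⟩
      1 15 (by decide +kernel) (by decide +kernel) (by norm_num)
    have w7 := mk ⟨List.formPerm [0, 1, 2, 3, 4, 5, 6], Equiv.Perm.mem_alternatingGroup.2 (by decide +kernel)⟩
      1 7 (by decide +kernel) (by decide +kernel) (by norm_num)
    simp only [eightOrders, Set.mem_insert_iff, Set.mem_singleton_iff] at hn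
    rcases hn with rfl|rfl|rfl|rfl|rfl|rfl|rfl|rfl|rfl|rfl|rfl
    · exact w8 1 (by norm_num)
    · exact w8 2 (by norm_num)
    · exact w15 3 (by norm_num)
    · exact w8 4 (by norm_num)
    · exact w15 5 (by norm_num)
    · exact w12 6 (by norm_num)
    · exact w7 7 (by norm_num)
    · exact w8 8 (by norm_num)
    · exact w10 10 (by norm_num)
    · exact w12 12 (by norm_num)
    · exact w15 15 (by norm_num)

/-- Arbitrarily large groups with the element orders of `S8`. -/
theorem exists_large (N : ℕ) : ∃ (H : Type) (_ : Group H) (_ : Fintype H), N < Fintype.card H ∧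
    Set.range (orderOf : H → ℕ) = Set.range (orderOf : Equiv.Perm (Fin 8) → ℕ) := by
  let W : Subgroup Twin := (SemidirectProduct.inl : Multiplicative wVec →* Twin).range
  have : W.Normal := by
    show ((SemidirectProduct.inl : Multiplicative wVec →* Twin).range).Normal
    rw [SemidirectProduct.range_inl_eq_ker_rightHom]
    infer_instance
  have hW : W ≠ ⊥ := fun h => by
    have hne : (Multiplicative.ofAdd (⟨![0, 0, 0, 0, 0, 0, 1, 1], (mem_wVec _).2 (by decide +kernel)⟩ : wVec)) ≠ 1 := by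
      decide +kernel
    apply hne
    have hm : (SemidirectProduct.inl (Multiplicative.ofAdd
        (⟨![0, 0, 0, 0, 0, 0, 1, 1], (mem_wVec _).2 (by decide +kernel)⟩ : wVec)) : Twin) ∈ W := ⟨_, rfl⟩
    rw [h, Subgroup.mem_bot, ← map_one SemidirectProduct.inl] at hm
    exact SemidirectProduct.inl_injective hm
  have hc : IsMulCommutative W := ⟨⟨by
    rintro ⟨_, a, rfl⟩ ⟨_, b, rfl⟩
    apply Subtype.ext
    simp only [Subgroup.coe_mul, ← map_mul, mul_comm a b]⟩⟩
  have he : ∀ x : W, x ^ 2 = 1 := by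
    rintro ⟨_, a, rfl⟩
    apply Subtype.ext
    simp [← map_pow, sq_eq_one]
  obtain ⟨H, i1, i2, hN, hr⟩ := exists_isospectral_large_of_elementary W Nat.prime_two hW hc he N
  exact ⟨H, i1, i2, hN, hr.trans (orders_Twin.trans orders_S8.symm)⟩

end CfsgLib.Spectrum.S8Twins
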