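import Mathlib

/-!
The affine group `F² ⋊ SL(2, F)` over the field with four elements, as block matrices in `SL(3, F)`,
has the element orders `{1, 2, 3, 4, 5}`, as does the alternating group of degree 6.
-/

set_option autoImplicit false

open Matrix Polynomial

namespace CfsgLib.Spectrum

variable {F : Type*} [Field F]

/-- The defining set of the affine group. -/
def affineBlockSet (F : Type*) [Field F] : Set (Matrix.SpecialLinearGroup (Fin 3) F) :=
  {M | (M : Matrix (Fin 3) (Fin 3) F) 2 0 = 0 ∧ (M : Matrix (Fin 3) (Fin 3) F) 2 1 = 0 ∧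
    (M : Matrix (Fin 3) (Fin 3) F) 2 2 = 1}

theorem affineBlock_mul {A B : Matrix.SpecialLinearGroup (Fin 3) F} (ha : A ∈ affineBlockSet F)
    (hb : B ∈ affineBlockSet F) : A * B ∈ affineBlockSet F := by
  obtain ⟨a0, a1, a2⟩ := ha
  obtain ⟨b0, b1, b2⟩ := hb
  refine ⟨?_, ?_, ?_⟩ <;> simp [Matrix.mul_apply, Fin.sum_univ_three, a0, a1, a2, b0, b1, b2]

variable [Finite F]

/-- The affine group as a subgroup. -/
noncomputable def affineBlockGroup (F : Type*) [Field F] [Finite F] :
    Subgroup (Matrix.SpecialLinearGroup (Fin 3) F) :=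
  Subgroup.closure (affineBlockSet F)

theorem mem_affineBlockGroup {A : Matrix.SpecialLinearGroup (Fin 3) F} :
    A ∈ affineBlockGroup F ↔ A ∈ affineBlockSet F := by
  refine ⟨fun h => ?_, fun h => Subgroup.subset_closure h⟩
  have hone : (1 : Matrix.SpecialLinearGroup (Fin 3) F) ∈ affineBlockSet F := by
    simp [affineBlockSet]
  have hpow : ∀ x ∈ affineBlockSet F, ∀ n : ℕ, x ^ n ∈ affineBlockSet F := by
    intro x hx n
    induction n with
    | zero => simpa using hone
    | succ n ih => rw [pow_succ]; exact affineBlock_mul ih hx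
  induction h using Subgroup.closure_induction with
  | mem x hx => exact hx
  | one => exact hone
  | mul x y _ _ hx hy => exact affineBlock_mul hx hy
  | inv x _ hx =>
    have hfin : IsOfFinOrder x := isOfFinOrder_of_finite x
    obtain ⟨n, hn⟩ := hfin.mem_powers_iff_mem_zpowers.2
      (Subgroup.inv_mem _ (Subgroup.mem_zpowers x))
    exact hn ▸ hpow x hx n

omit [Finite F] in
/-- The characteristic polynomial identity for an element of the affine group. -/
theorem affineBlock_cubic [CharP F 2] {A : Matrix.SpecialLinearGroup (Fin 3) F}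
    (hA : A ∈ affineBlockSet F) :
    aeval (A : Matrix (Fin 3) (Fin 3) F)
      ((X - 1) * (X ^ 2 + C ((A : Matrix (Fin 3) (Fin 3) F) 0 0 + (A : Matrix (Fin 3) (Fin 3) F) 1 1)
        * X + 1) : F[X]) = 0 := by
  obtain ⟨h0, h1, h2⟩ := hA
  have hd := A.det_coe
  rw [det_fin_three, h0, h1, h2] at hd
  simp only [mul_zero, sub_zero, zero_add, mul_one, add_zero, zero_mul] at hd
  have two0 : (2 : F) = 0 := CharTwo.two_eq_zero
  simp only [map_mul, map_add, map_sub, map_one, map_pow, aeval_X, aeval_C,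
    Algebra.algebraMap_eq_smul_one]
  set M := (A : Matrix (Fin 3) (Fin 3) F)
  ext i j
  fin_cases i <;> fin_cases j <;>
    simp [pow_two, Matrix.mul_apply, Fin.sum_univ_three, h0, h1, h2, Matrix.one_apply] <;>
    grind

theorem affineBlock_orders [Fintype F] (hF : Fintype.card F = 4) :
    Set.range (orderOf : affineBlockGroup F → ℕ) = {1, 2, 3, 4, 5} := by
  haveI : CharP F 2 := charP_of_card_eq_prime_pow (f := 2) (by simpa using hF)
  haveI h2p : Fact (Nat.Prime 2) := ⟨Nat.prime_two⟩
  haveI h3p : Fact (Nat.Prime 3) := ⟨Nat.prime_three⟩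
  haveI h5p : Fact (Nat.Prime 5) := ⟨by norm_num⟩
  have two0 : (2 : F) = 0 := CharTwo.two_eq_zero
  have htwoX : (2 : F[X]) = 0 := by rw [← map_ofNat C 2, two0, map_zero]
  have hfield : ∀ t : F, t = 0 ∨ t = 1 ∨ t ^ 2 + t + 1 = 0 := by
    intro t
    have h4 : t ^ 4 = t := hF ▸ FiniteField.pow_card t
    have : t * (t - 1) * (t ^ 2 + t + 1) = 0 := by linear_combination h4
    rcases mul_eq_zero.1 this with h | h
    · rcases mul_eq_zero.1 h with h | h
      · exact Or.inl h
      · exact Or.inr (Or.inl (sub_eq_zero.1 h))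
    · exact Or.inr (Or.inr h)
  have hpow : ∀ (A : Matrix.SpecialLinearGroup (Fin 3) F), A ∈ affineBlockSet F →
      A ^ 4 = 1 ∨ A ^ 3 = 1 ∨ A ^ 5 = 1 := by
    intro A hA
    have hP := affineBlock_cubic hA
    generalize (A : Matrix (Fin 3) (Fin 3) F) 0 0 + (A : Matrix (Fin 3) (Fin 3) F) 1 1 = t at hP
    have key : ∀ (n : ℕ) (Q : F[X]), (X ^ n - 1 : F[X]) = (X - 1) * (X ^ 2 + C t * X + 1) * Q →
        A ^ n = 1 := by
      intro n Q h
      have := congrArg (aeval (A : Matrix (Fin 3) (Fin 3) F)) h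
      rw [map_mul, hP, zero_mul, map_sub, map_one, map_pow, aeval_X, sub_eq_zero] at this
      exact Subtype.ext this
    rcases hfield t with ht | ht | ht
    · refine Or.inl (key 4 (X - 1) ?_)
      rw [ht, map_zero]
      linear_combination (X ^ 3 - X ^ 2 + X - 1) * htwoX
    · refine Or.inr (Or.inl (key 3 1 ?_))
      rw [ht, map_one]; ring
    · refine Or.inr (Or.inr (key 5 (X ^ 2 + C (t + 1) * X + 1) ?_))
      have hC : (C t) ^ 2 + C t + 1 = (0 : F[X]) := by
        rw [← map_pow, ← map_add, ← map_one (C (R := F)), ← map_add, ht, map_zero]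
      rw [map_add, map_one]
      linear_combination (-(X - 1) * X ^ 2) * hC - ((X - 1) * (C t * X ^ 3 + C t * X)) * htwoX
  ext n
  simp only [Set.mem_range, Set.mem_insert_iff, Set.mem_singleton_iff]
  constructor
  · rintro ⟨g, rfl⟩
    rw [← Subgroup.orderOf_coe]
    have h := hpow _ (mem_affineBlockGroup.1 g.2)
    rcases h with h | h | h
    · have := Nat.le_of_dvd (by norm_num) (orderOf_dvd_of_pow_eq_one h)
      have hd := orderOf_dvd_of_pow_eq_one h
      interval_cases orderOf (g : Matrix.SpecialLinearGroup (Fin 3) F) <;> simp at hd ⊢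
    · rcases (Nat.dvd_prime Nat.prime_three).1 (orderOf_dvd_of_pow_eq_one h) with h | h <;> simp [h]
    · rcases (Nat.dvd_prime (by norm_num : Nat.Prime 5)).1 (orderOf_dvd_of_pow_eq_one h) with h | h <;>
        simp [h]
  · have mk : ∀ (A : Matrix (Fin 3) (Fin 3) F), A.det = 1 → A 2 0 = 0 → A 2 1 = 0 → A 2 2 = 1 →
        ∃ g : affineBlockGroup F, ((g : Matrix.SpecialLinearGroup (Fin 3) F) :
          Matrix (Fin 3) (Fin 3) F) = A := fun A h a b c =>
      ⟨⟨⟨A, h⟩, Subgroup.subset_closure ⟨a, b, c⟩⟩, rfl⟩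
    obtain ⟨w, hw⟩ : ∃ w : F, w ^ 2 + w + 1 = 0 := by
      classical
      by_contra hne
      push_neg at hne
      have : (Finset.univ : Finset F) ⊆ {0, 1} := fun t _ => by
        rcases hfield t with h | h | h
        · simp [h]
        · simp [h]
        · exact absurd h (hne t)
      have := (Finset.card_le_card this).trans Finset.card_le_two
      rw [Finset.card_univ, hF] at this
      omega
    rintro (rfl | rfl | rfl | rfl | rfl)
    · exact ⟨1, orderOf_one⟩
    · obtain ⟨g, hg⟩ := mk !![1, 1, 0; 0, 1, 0; 0, 0, 1] (by simp [det_fin_three]) rfl rfl rfl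
      refine ⟨g, orderOf_eq_prime ?_ ?_⟩
      · apply Subtype.ext; apply Subtype.ext
        change ((g : Matrix.SpecialLinearGroup (Fin 3) F) : Matrix (Fin 3) (Fin 3) F) ^ 2 = 1
        rw [hg]
        ext i j
        fin_cases i <;> fin_cases j <;> simp [pow_two, Matrix.mul_apply, Fin.sum_univ_three] <;> grind
      · intro h
        rw [h] at hg
        simpa using congrFun (congrFun hg 0) 1
    · obtain ⟨g, hg⟩ := mk !![1, 1, 0; 1, 0, 0; 0, 0, 1]
        (by simp [det_fin_three, CharTwo.neg_eq]) rfl rfl rfl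
      refine ⟨g, orderOf_eq_prime ?_ ?_⟩
      · apply Subtype.ext; apply Subtype.ext
        change ((g : Matrix.SpecialLinearGroup (Fin 3) F) : Matrix (Fin 3) (Fin 3) F) ^ 3 = 1
        rw [hg]
        ext i j
        fin_cases i <;> fin_cases j <;> simp [pow_succ, Matrix.mul_apply, Fin.sum_univ_three] <;> grind
      · intro h
        rw [h] at hg
        simpa using congrFun (congrFun hg 0) 1
    · obtain ⟨g, hg⟩ := mk !![1, 1, 0; 0, 1, 1; 0, 0, 1] (by simp [det_fin_three]) rfl rfl rfl
      refine ⟨g, orderOf_eq_prime_pow (p := 2) (n := 1) ?_ ?_⟩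
      · intro h
        have h' : ((g : Matrix.SpecialLinearGroup (Fin 3) F) : Matrix (Fin 3) (Fin 3) F) ^ 2 = 1 :=
          congrArg (fun x : affineBlockGroup F =>
            ((x : Matrix.SpecialLinearGroup (Fin 3) F) : Matrix (Fin 3) (Fin 3) F)) h
        rw [hg] at h'
        simpa [pow_two, Matrix.mul_apply, Fin.sum_univ_three] using congrFun (congrFun h' 0) 2
      · apply Subtype.ext; apply Subtype.ext
        change ((g : Matrix.SpecialLinearGroup (Fin 3) F) : Matrix (Fin 3) (Fin 3) F) ^ 4 = 1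
        rw [hg]
        ext i j
        fin_cases i <;> fin_cases j <;> simp [pow_succ, Matrix.mul_apply, Fin.sum_univ_three] <;> grind
    · obtain ⟨g, hg⟩ := mk !![w, 1, 0; 1, 0, 0; 0, 0, 1]
        (by simp [det_fin_three, CharTwo.neg_eq]) rfl rfl rfl
      refine ⟨g, orderOf_eq_prime ?_ ?_⟩
      · apply Subtype.ext; apply Subtype.ext
        change ((g : Matrix.SpecialLinearGroup (Fin 3) F) : Matrix (Fin 3) (Fin 3) F) ^ 5 = 1
        rw [hg]
        ext i j
        fin_cases i <;> fin_cases j <;> simp [pow_succ, Matrix.mul_apply, Fin.sum_univ_three] <;> grind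
      · intro h
        rw [h] at hg
        simpa using congrFun (congrFun hg 0) 1

theorem pow_cases_A6 : ∀ g : alternatingGroup (Fin 6),
    g ^ 2 = 1 ∨ g ^ 3 = 1 ∨ g ^ 4 = 1 ∨ g ^ 5 = 1 := by
  decide +kernel

theorem orders_A6 : Set.range (orderOf : alternatingGroup (Fin 6) → ℕ) = {1, 2, 3, 4, 5} := by
  haveI h2p : Fact (Nat.Prime 2) := ⟨Nat.prime_two⟩
  haveI h3p : Fact (Nat.Prime 3) := ⟨Nat.prime_three⟩
  haveI h5p : Fact (Nat.Prime 5) := ⟨by norm_num⟩
  ext n
  simp only [Set.mem_range, Set.mem_insert_iff, Set.mem_singleton_iff]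
  constructor
  · rintro ⟨g, rfl⟩
    have hpos := orderOf_pos g
    rcases pow_cases_A6 g with h | h | h | h <;>
      (have hd := orderOf_dvd_of_pow_eq_one h
       have hle := Nat.le_of_dvd (by norm_num) hd
       revert hd hle hpos
       generalize orderOf g = o
       intro hpos hd hle
       interval_cases o <;> simp at hd ⊢)
  · rintro (rfl | rfl | rfl | rfl | rfl)
    · exact ⟨1, orderOf_one⟩
    · obtain ⟨g, h, h1⟩ : ∃ g : alternatingGroup (Fin 6), g ^ 2 = 1 ∧ g ≠ 1 := by decide +kernel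
      exact ⟨g, orderOf_eq_prime h h1⟩
    · obtain ⟨g, h, h1⟩ : ∃ g : alternatingGroup (Fin 6), g ^ 3 = 1 ∧ g ≠ 1 := by decide +kernel
      exact ⟨g, orderOf_eq_prime h h1⟩
    · obtain ⟨g, h, h1⟩ : ∃ g : alternatingGroup (Fin 6), g ^ 4 = 1 ∧ ¬ g ^ 2 = 1 := by
        decide +kernel
      exact ⟨g, orderOf_eq_prime_pow (p := 2) (n := 1) h1 h⟩
    · obtain ⟨g, h, h1⟩ : ∃ g : alternatingGroup (Fin 6), g ^ 5 = 1 ∧ g ≠ 1 := by decide +kernel
      exact ⟨g, orderOf_eq_prime h h1⟩

end CfsgLib.Spectrum
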