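import Mathlib

/-! Element orders of the alternating group of degree 10. -/

set_option autoImplicit false

namespace CfsgLib.Spectrum

/-- Lists of parts `≥ 2` with sum at most `b`. -/
def partLists : ℕ → ℕ → List (List ℕ)
  | 0, _ => [[]]
  | k + 1, b => [] :: (List.range' 2 (b - 1)).flatMap fun a => (partLists k (b - a)).map (a :: ·)

theorem mem_partLists : ∀ (l : List ℕ) (k b : ℕ), (∀ a ∈ l, 2 ≤ a) → l.sum ≤ k → l.sum ≤ b →
    l ∈ partLists k b
  | [], 0, _, _, _, _ => by simp [partLists]
  | [], k + 1, _, _, _, _ => by simp [partLists]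
  | a :: l, 0, _, h, hk, _ => by have := h a (by simp); simp at hk; omega
  | a :: l, k + 1, b, h, hk, hb => by
    have ha := h a (by simp)
    simp only [List.sum_cons] at hk hb
    simp only [partLists, List.mem_cons, List.mem_flatMap, List.mem_map, List.mem_range'_1]
    refine Or.inr ⟨a, by omega, l, ?_, rfl⟩
    exact mem_partLists l k (b - a) (fun c hc => h c (by simp [hc])) (by omega) (by omega)

theorem lcm_partLists_ten : ∀ l ∈ partLists 10 10, (l.sum + l.length) % 2 = 0 →
    l.foldr Nat.lcm 1 ∈ [1, 2, 3, 4, 5, 6, 7, 8, 9, 10, 12, 15, 21] := by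
  decide +kernel

theorem orders_A10 : Set.range (orderOf : alternatingGroup (Fin 10) → ℕ) =
    {1, 2, 3, 4, 5, 6, 7, 8, 9, 10, 12, 15, 21} := by
  ext n
  constructor
  · rintro ⟨⟨σ, hσ⟩, rfl⟩
    rw [Subgroup.orderOf_mk, ← Equiv.Perm.lcm_cycleType]
    rw [Equiv.Perm.mem_alternatingGroup, Equiv.Perm.sign_of_cycleType,
      neg_one_pow_eq_one_iff_even (by decide)] at hσ
    have hle := σ.sum_cycleType_le
    rw [Fintype.card_fin] at hle
    set l := σ.cycleType.toList with hl
    have hcoe : (l : Multiset ℕ) = σ.cycleType := Multiset.coe_toList _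
    rw [← hcoe] at hσ hle ⊢
    simp only [Multiset.sum_coe, Multiset.coe_card] at hσ hle
    have hmem := mem_partLists l 10 10 (fun a ha => Equiv.Perm.two_le_of_mem_cycleType
      (σ := σ) (Multiset.mem_toList.1 ha)) hle hle
    have h := lcm_partLists_ten l hmem (Nat.even_iff.1 hσ)
    rw [show (l : Multiset ℕ).lcm = l.foldr Nat.lcm 1 from rfl]
    simpa using h
  · intro hn
    have mk : ∀ σ : Equiv.Perm (Fin 10), ∀ m, Equiv.Perm.sign σ = 1 → σ ^ m = 1 →
        (∀ k < m, 0 < k → σ ^ k ≠ 1) → 0 < m → ∀ d, d ∣ m →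
        ∃ g : alternatingGroup (Fin 10), orderOf g = d := by
      intro σ m hs hm hk hm0 d hd
      have hord : orderOf σ = m := (orderOf_eq_iff hm0).2 ⟨hm, hk⟩
      refine ⟨⟨σ, Equiv.Perm.mem_alternatingGroup.2 hs⟩ ^ (m / d), ?_⟩
      have h0 : orderOf (⟨σ, Equiv.Perm.mem_alternatingGroup.2 hs⟩ : alternatingGroup (Fin 10)) = m := by
        rw [Subgroup.orderOf_mk, hord]
      conv_lhs => rw [← h0]
      rw [orderOf_pow_orderOf_div (by omega) (by rw [h0]; exact hd)]
    have w8 := mk (List.formPerm [0, 1, 2, 3, 4, 5, 6, 7] * List.formPerm [8, 9]) 8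
      (by decide +kernel) (by decide +kernel) (by decide +kernel) (by norm_num)
    have w9 := mk (List.formPerm [0, 1, 2, 3, 4, 5, 6, 7, 8]) 9
      (by decide +kernel) (by decide +kernel) (by decide +kernel) (by norm_num)
    have w10 := mk (List.formPerm [0, 1, 2, 3, 4] * List.formPerm [5, 6] * List.formPerm [7, 8]) 10
      (by decide +kernel) (by decide +kernel) (by decide +kernel) (by norm_num)
    have w12 := mk (List.formPerm [0, 1, 2, 3] * List.formPerm [4, 5, 6] * List.formPerm [7, 8]) 12
      (by decide +kernel) (by decide +kernel) (by decide +kernel) (by norm_num)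
    have w15 := mk (List.formPerm [0, 1, 2, 3, 4] * List.formPerm [5, 6, 7]) 15
      (by decide +kernel) (by decide +kernel) (by decide +kernel) (by norm_num)
    have w21 := mk (List.formPerm [0, 1, 2, 3, 4, 5, 6] * List.formPerm [7, 8, 9]) 21
      (by decide +kernel) (by decide +kernel) (by decide +kernel) (by norm_num)
    simp only [Set.mem_insert_iff, Set.mem_singleton_iff] at hn
    rcases hn with rfl|rfl|rfl|rfl|rfl|rfl|rfl|rfl|rfl|rfl|rfl|rfl|rfl
    · exact w8 1 (by norm_num)
    · exact w8 2 (by norm_num)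
    · exact w9 3 (by norm_num)
    · exact w8 4 (by norm_num)
    · exact w10 5 (by norm_num)
    · exact w12 6 (by norm_num)
    · exact w21 7 (by norm_num)
    · exact w8 8 (by norm_num)
    · exact w9 9 (by norm_num)
    · exact w10 10 (by norm_num)
    · exact w12 12 (by norm_num)
    · exact w15 15 (by norm_num)
    · exact w21 21 (by norm_num)

end CfsgLib.Spectrum
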