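import Mathlib

/-!
The group `2.S5⁻` of order 240 as a fixed-point-free subgroup of `GL(4, 7)`, by a certificate.
-/

set_option autoImplicit false

namespace CfsgLib.Spectrum.K240

open Matrix

/-- Product of row-major `4 × 4` matrices modulo 7. -/
def mulC (A B : List ℕ) : List ℕ :=
  (List.range 16).map fun t =>
    (A.getD (4 * (t / 4)) 0 * B.getD (t % 4) 0 + A.getD (4 * (t / 4) + 1) 0 * B.getD (4 + t % 4) 0 +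
     A.getD (4 * (t / 4) + 2) 0 * B.getD (8 + t % 4) 0 + A.getD (4 * (t / 4) + 3) 0 * B.getD (12 + t % 4) 0) % 7

def addC (A B : List ℕ) : List ℕ :=
  (List.range 16).map fun t => (A.getD t 0 + B.getD t 0) % 7

def oneC : List ℕ := [1,0,0,0,0,1,0,0,0,0,1,0,0,0,0,1]

def negOneC : List ℕ := [6,0,0,0,0,6,0,0,0,0,6,0,0,0,0,6]

def zeroC : List ℕ := [0,0,0,0,0,0,0,0,0,0,0,0,0,0,0,0]

/-- An element of order 8. -/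
def xC : List ℕ := [1,0,3,3,0,6,3,4,0,6,1,2,6,0,2,6]

/-- An element of order 12. -/
def yC : List ℕ := [4,4,4,6,4,3,6,3,4,4,0,6,4,3,6,0]

/-- All 240 elements. -/
def elems : List (List ℕ) :=
  [[1,0,0,0,0,1,0,0,0,0,1,0,0,0,0,1],
   [1,0,3,3,0,6,3,4,0,6,1,2,6,0,2,6],
   [4,4,4,6,4,3,6,3,4,4,0,6,4,3,6,0],
   [5,4,5,6,3,5,1,5,5,0,2,3,0,5,4,2],
   [0,4,1,3,3,0,4,1,1,0,6,3,0,1,4,6],
   [5,6,5,2,1,5,5,5,5,3,1,1,4,5,6,1],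
   [2,6,6,4,1,2,3,6,0,4,6,1,3,0,6,6],
   [6,5,2,0,5,1,0,5,2,5,2,2,5,5,2,5],
   [3,0,3,2,0,4,2,4,5,2,3,0,2,2,0,4],
   [4,2,5,1,2,3,1,2,5,1,1,5,1,2,5,6],
   [4,4,0,4,4,3,4,0,5,2,1,0,2,2,0,6],
   [3,3,0,5,3,4,5,0,4,3,6,0,3,3,0,1],
   [2,1,5,1,1,5,1,2,5,1,2,3,1,2,3,5],
   [5,2,3,3,2,2,3,4,6,4,6,6,4,1,6,1],
   [2,6,5,3,6,5,3,2,2,4,2,6,4,5,6,5],
   [6,0,0,0,0,6,0,0,0,0,6,0,0,0,0,6],
   [3,5,5,0,2,3,0,5,2,2,1,4,5,2,3,1],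
   [1,4,2,6,3,1,1,2,5,2,3,1,5,5,6,3],
   [4,2,3,1,5,4,6,3,5,3,4,5,4,5,2,4],
   [3,0,4,1,0,3,6,4,0,5,1,2,2,0,5,1],
   [6,3,6,4,4,6,3,6,6,0,0,4,0,6,3,0],
   [0,3,4,3,4,0,4,4,5,4,1,4,3,5,3,1],
   [6,5,1,1,2,6,6,1,4,2,4,0,5,4,0,4],
   [5,4,0,2,3,5,5,0,4,5,6,1,2,4,6,6],
   [2,1,4,6,6,2,1,4,3,0,6,6,0,3,1,6],
   [1,1,2,5,6,1,2,2,2,4,5,6,3,2,1,5],
   [1,6,6,3,1,1,4,6,2,5,2,3,2,2,4,2],
   [2,2,2,5,5,2,2,2,0,4,6,5,3,0,2,6],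
   [3,5,1,5,2,3,2,1,4,1,0,0,6,4,0,0],
   [6,3,0,2,4,6,5,0,3,1,4,6,6,3,1,4],
   [1,6,6,4,1,1,3,6,0,4,5,1,3,0,6,5],
   [6,0,4,4,0,1,4,3,0,1,6,5,1,0,5,1],
   [3,3,3,1,3,4,1,4,3,3,0,1,3,4,1,0],
   [3,4,1,4,4,4,4,6,5,4,0,5,4,2,5,0],
   [3,5,0,0,5,4,0,0,1,2,2,3,2,6,3,5],
   [2,1,1,3,1,5,3,6,4,2,5,0,2,3,0,2],
   [3,0,1,2,0,4,2,6,2,6,3,5,6,5,5,4],
   [3,2,2,4,2,4,4,5,0,0,3,2,0,0,2,4],
   [5,2,6,6,2,2,6,1,5,4,5,0,4,2,0,2],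
   [2,3,1,2,3,5,2,6,5,1,6,6,1,2,6,1],
   [4,3,4,0,3,3,0,3,4,4,0,0,4,3,0,0],
   [2,5,6,3,5,5,3,1,2,0,5,0,0,5,0,2],
   [6,6,3,4,6,1,4,4,5,1,6,1,1,2,1,1],
   [4,0,5,3,0,3,3,2,1,2,1,1,2,6,1,6],
   [5,6,1,5,6,2,5,6,0,6,5,6,6,0,6,2],
   [5,1,1,4,1,2,4,6,4,1,1,0,1,3,0,6],
   [3,4,4,1,4,4,1,3,5,3,0,5,3,2,5,0],
   [2,3,0,0,3,5,0,0,1,2,3,5,2,6,5,4],
   [3,2,4,5,2,4,5,3,4,1,6,1,1,3,1,1],
   [3,3,1,4,3,4,4,6,4,5,6,5,5,3,5,1],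
   [3,4,4,6,4,4,6,3,3,5,0,5,5,4,5,0],
   [1,2,5,0,2,6,0,2,5,2,5,5,2,2,5,2],
   [5,2,5,1,2,2,1,2,6,0,1,6,0,1,6,6],
   [1,6,2,4,6,6,4,5,6,5,0,4,5,1,4,0],
   [4,3,3,6,3,3,6,4,2,4,0,2,4,5,2,0],
   [2,2,1,2,2,5,2,6,4,2,5,6,2,3,6,2],
   [5,1,0,5,1,2,5,0,4,6,1,2,6,3,2,6],
   [0,4,2,4,4,0,4,5,6,5,1,6,5,1,6,6],
   [4,4,3,0,4,3,0,4,4,2,0,1,2,3,1,0],
   [2,4,5,3,4,5,3,2,0,0,5,3,0,0,3,2],
   [4,2,0,0,2,3,0,0,6,5,5,4,5,1,4,2],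
   [5,2,1,4,2,2,4,6,5,0,2,0,0,2,0,5],
   [2,3,2,1,4,2,6,2,2,0,5,4,0,2,3,5],
   [0,3,6,4,4,0,3,6,6,0,1,4,0,6,3,1],
   [2,1,2,5,6,2,2,2,2,4,6,6,3,2,1,6],
   [5,1,1,3,6,5,4,1,0,3,1,6,4,0,1,1],
   [6,2,2,2,5,6,5,2,0,3,2,5,4,0,2,2],
   [6,5,4,1,2,6,6,4,0,5,4,0,2,0,0,4],
   [3,2,3,1,5,3,6,3,5,3,3,5,4,5,2,3],
   [4,6,0,5,1,4,2,0,4,6,6,3,1,4,4,6],
   [6,5,2,2,2,6,5,2,4,0,2,2,0,4,5,2],
   [0,3,4,0,4,0,0,4,2,0,0,4,0,2,3,0],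
   [1,6,0,2,1,1,5,0,4,5,2,3,2,4,4,2],
   [3,1,3,3,6,3,4,3,1,4,4,6,3,1,1,4],
   [6,3,4,3,4,6,4,4,5,4,0,4,3,5,3,0],
   [2,3,6,1,4,2,6,6,6,4,5,4,3,6,3,5],
   [6,6,4,1,1,6,6,4,5,5,4,6,2,5,1,4],
   [6,5,5,2,2,6,5,5,0,3,2,2,4,0,5,2],
   [4,6,3,6,1,4,1,3,2,2,6,6,5,2,1,6],
   [4,0,4,4,0,4,3,4,4,3,3,0,4,4,0,3],
   [2,6,6,1,1,2,6,6,4,0,5,1,0,4,6,5],
   [6,3,5,0,4,6,0,5,2,2,4,2,5,2,5,4],
   [2,5,5,2,2,2,5,5,4,0,5,2,0,4,5,5],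
   [1,2,2,5,5,1,2,2,0,4,5,5,3,0,2,5],
   [6,3,6,5,4,6,2,6,6,3,1,4,4,6,3,1],
   [0,0,2,1,0,0,6,2,1,3,0,0,4,1,0,0],
   [5,1,2,5,6,5,2,2,5,0,2,6,0,5,1,2],
   [1,5,6,3,2,1,4,6,4,5,2,4,2,4,3,2],
   [2,4,1,4,3,2,3,1,3,2,1,5,5,3,2,1],
   [6,1,0,5,6,6,2,0,3,2,5,4,5,3,3,5],
   [5,1,1,6,6,5,1,1,3,0,2,6,0,3,1,2],
   [0,0,5,6,0,0,1,5,6,4,0,0,3,6,0,0],
   [2,2,5,5,5,2,2,5,3,0,6,5,0,3,2,6],
   [4,6,2,6,1,4,1,2,5,2,6,3,5,5,4,6],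
   [5,2,2,5,5,5,2,2,3,0,2,5,0,3,2,2],
   [4,2,2,0,5,4,0,2,5,5,6,3,2,5,4,6],
   [4,0,0,4,0,4,3,0,0,6,3,0,1,0,0,3],
   [3,0,3,3,0,3,4,3,3,4,4,0,3,3,0,4],
   [3,0,1,1,0,3,6,1,4,2,1,2,5,4,5,1],
   [0,4,3,0,3,0,0,3,5,0,0,3,0,5,4,0],
   [0,6,0,0,1,0,0,0,2,0,0,1,0,2,6,0],
   [2,3,0,5,4,2,2,0,3,2,1,6,5,3,1,1],
   [3,1,1,2,6,3,5,1,0,1,4,6,6,0,1,4],
   [5,4,6,3,3,5,4,6,2,5,6,1,2,2,6,6],
   [4,0,6,6,0,4,1,6,3,5,6,5,2,3,2,6],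
   [2,5,5,5,2,2,2,5,0,4,6,2,3,0,5,6],
   [0,0,1,5,0,0,2,1,4,1,4,2,6,4,5,4],
   [4,5,4,6,2,4,1,4,2,4,4,2,3,2,5,4],
   [3,1,0,2,6,3,5,0,3,1,1,4,6,3,3,1],
   [1,4,2,0,3,1,0,2,5,5,3,5,2,5,2,3],
   [4,0,4,5,0,3,5,3,2,5,4,0,5,5,0,3],
   [3,5,2,6,5,4,6,5,2,6,6,2,6,5,2,1],
   [3,3,0,3,3,4,3,0,2,5,6,0,5,5,0,1],
   [4,4,0,2,4,3,2,0,3,4,1,0,4,4,0,6],
   [5,6,2,6,6,2,6,5,2,6,5,4,6,5,4,2],
   [2,5,4,4,5,5,4,3,1,3,1,1,3,6,1,6],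
   [5,1,2,4,1,2,4,5,5,3,5,1,3,2,1,2],
   [4,3,2,0,3,3,0,5,2,2,0,4,2,5,4,0],
   [6,2,6,5,2,1,5,1,5,4,6,0,4,2,0,1],
   [5,5,4,3,5,2,3,3,0,5,5,0,5,0,0,2],
   [1,2,4,5,2,6,5,3,1,3,2,4,3,6,4,5],
   [2,2,6,1,2,5,1,1,0,1,2,0,1,0,0,5],
   [1,5,2,0,5,6,0,5,1,0,5,1,0,6,1,2],
   [6,1,5,3,1,1,3,2,1,2,0,3,2,6,3,0],
   [4,0,5,0,0,3,0,2,6,4,0,1,4,1,1,0],
   [0,0,6,6,0,0,6,1,5,0,0,2,0,2,2,0],
   [0,4,4,5,4,0,5,3,3,6,4,5,6,4,5,3],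
   [6,1,4,4,1,1,4,3,1,0,0,5,0,6,5,0],
   [0,3,0,2,3,0,2,0,2,6,3,0,6,5,0,4],
   [3,0,2,0,0,4,0,5,1,3,0,6,3,6,6,0],
   [1,2,4,6,2,6,6,3,3,2,5,0,2,4,0,2],
   [1,5,2,1,5,6,1,5,2,5,1,5,5,5,5,6],
   [6,2,4,1,2,1,1,3,6,5,2,1,5,1,1,5],
   [5,4,0,0,4,2,0,0,6,5,4,2,5,1,2,3],
   [5,5,3,1,5,2,1,4,3,6,2,6,6,4,6,5],
   [2,2,3,4,2,5,4,4,0,2,2,0,2,0,0,5],
   [0,3,3,2,3,0,2,4,4,1,3,2,1,3,2,4],
   [6,2,5,6,2,1,6,2,5,2,6,2,2,2,2,1],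
   [4,4,1,3,4,3,3,6,5,4,1,5,4,2,5,6],
   [6,6,4,5,6,1,5,3,0,1,6,6,1,0,6,1],
   [0,4,0,5,4,0,5,0,5,1,4,0,1,2,0,3],
   [0,4,2,6,4,0,6,5,2,2,0,6,2,5,6,0],
   [0,0,1,1,0,0,1,6,2,0,0,5,0,5,5,0],
   [1,5,1,2,5,6,2,6,2,3,1,0,3,5,0,6],
   [6,5,4,3,5,1,3,3,1,4,5,1,4,6,1,2],
   [5,4,6,5,4,2,5,1,2,6,1,1,6,5,1,6],
   [3,4,0,3,4,4,3,0,3,4,0,0,4,4,0,0],
   [5,3,2,4,3,2,4,5,0,0,2,4,0,0,4,5],
   [4,3,3,1,3,3,1,4,4,2,0,2,2,3,2,0],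
   [2,1,0,2,1,5,2,0,2,2,5,2,2,5,2,2],
   [1,6,3,3,6,6,3,4,6,0,0,2,0,1,2,0],
   [6,5,3,1,5,1,1,4,4,5,2,0,5,3,0,5],
   [3,3,6,4,3,4,4,1,2,3,6,2,3,5,2,1],
   [1,2,3,4,2,6,4,4,6,3,2,6,3,1,6,5],
   [4,0,6,5,0,3,5,1,5,1,4,2,1,2,2,3],
   [0,0,1,6,0,0,6,6,0,2,0,5,2,0,5,0],
   [2,4,4,5,4,5,5,3,1,3,1,2,3,6,2,6],
   [0,3,5,1,3,0,1,2,5,5,0,1,5,2,1,0],
   [4,3,6,3,3,3,3,1,2,3,0,2,3,5,2,0],
   [0,0,6,1,0,0,1,1,0,5,0,2,5,0,2,0],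
   [0,1,4,3,1,0,3,3,1,0,1,5,0,6,5,6],
   [1,5,3,6,5,6,6,4,1,2,5,6,2,6,6,2],
   [2,6,4,4,6,5,4,3,2,2,2,1,2,5,1,5],
   [5,5,1,6,5,2,6,6,0,6,5,0,6,0,0,2],
   [6,2,5,0,2,1,0,2,6,0,2,6,0,1,6,5],
   [1,1,3,2,1,6,2,4,0,6,1,1,6,0,1,6],
   [6,3,5,1,4,6,6,5,2,5,4,6,2,2,1,4],
   [3,5,4,6,2,3,1,4,2,4,3,2,3,2,5,3],
   [4,0,3,6,0,4,1,3,0,2,6,5,5,0,2,6],
   [1,4,1,3,3,1,4,1,1,0,0,3,0,1,4,0],
   [0,4,3,4,3,0,3,3,2,3,6,3,4,2,4,6],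
   [1,2,6,6,5,1,1,6,3,5,3,0,2,3,0,3],
   [5,6,3,1,1,5,6,3,4,0,1,1,0,4,6,1],
   [6,6,5,2,1,6,5,5,5,3,2,1,4,5,6,2],
   [6,1,1,4,6,6,3,1,5,2,5,4,5,5,3,5],
   [5,5,5,2,2,5,5,5,0,3,1,2,4,0,5,1],
   [4,2,6,2,5,4,5,6,3,6,0,0,1,3,0,0],
   [1,4,0,5,3,1,2,0,4,6,3,1,1,4,6,3],
   [6,1,1,3,6,6,4,1,0,3,2,6,4,0,1,2],
   [1,6,5,5,1,1,2,5,5,4,5,1,3,5,6,5],
   [6,6,3,1,1,6,6,3,4,0,2,1,0,4,6,2],
   [3,1,2,0,6,3,0,2,4,2,1,1,5,4,6,1],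
   [2,6,5,5,1,2,2,5,5,4,6,1,3,5,6,6],
   [1,0,6,6,0,1,1,6,0,2,3,5,5,0,2,3],
   [4,6,6,5,1,4,2,6,0,6,3,1,1,0,6,3],
   [3,1,4,1,6,3,6,4,5,5,1,1,2,5,6,1],
   [1,1,4,6,6,1,1,4,3,0,5,6,0,3,1,5],
   [6,0,1,1,0,6,6,1,0,5,4,2,2,0,5,4],
   [3,1,5,1,6,3,6,5,2,5,1,4,2,2,3,1],
   [4,6,5,0,1,4,0,5,3,5,6,6,2,3,1,6],
   [6,1,2,2,6,6,5,2,2,3,2,6,4,2,1,2],
   [1,2,5,5,5,1,2,5,3,0,5,5,0,3,2,5],
   [3,0,0,3,0,3,4,0,0,1,4,0,6,0,0,4],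
   [5,3,6,3,4,5,4,6,4,5,6,2,2,4,5,6],
   [0,1,0,0,6,0,0,0,5,0,0,6,0,5,1,0],
   [5,2,2,2,5,5,5,2,0,3,1,5,4,0,2,1],
   [5,1,2,2,6,5,5,2,2,3,1,6,4,2,1,1],
   [0,0,6,2,0,0,5,6,3,6,3,5,1,3,2,3],
   [1,2,3,6,5,1,1,3,0,2,3,0,5,0,0,3],
   [6,6,2,0,1,6,0,2,4,2,4,6,5,4,1,4],
   [0,3,6,1,4,0,6,6,3,3,0,4,4,3,3,0],
   [2,3,1,4,4,2,3,1,5,2,1,6,5,5,1,1],
   [1,1,5,0,6,1,0,5,3,5,3,1,2,3,6,3],
   [3,5,1,1,2,3,6,1,0,5,1,0,2,0,0,1],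
   [0,6,6,1,1,0,6,6,0,0,0,1,0,0,6,0],
   [5,5,2,2,2,5,5,2,4,0,1,2,0,4,5,1],
   [4,2,6,6,5,4,1,6,0,2,6,0,5,0,0,6],
   [4,6,4,4,1,4,3,4,6,3,3,1,4,6,6,3],
   [0,1,1,6,6,0,1,1,0,0,0,6,0,0,1,0],
   [1,4,3,4,3,1,3,3,2,3,0,3,4,2,4,0],
   [1,5,5,5,2,1,2,5,0,4,5,2,3,0,5,5],
   [2,6,5,2,1,2,5,5,2,0,5,1,0,2,6,5],
   [5,4,1,6,3,5,1,1,1,3,2,3,4,1,4,2],
   [0,4,1,6,3,0,1,1,4,4,0,3,3,4,4,0],
   [5,6,6,4,6,2,4,1,3,5,2,0,5,4,0,5],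
   [4,5,5,3,5,3,3,2,0,0,4,5,0,0,5,3],
   [2,5,1,1,5,5,1,6,2,3,2,0,3,5,0,5],
   [3,4,3,0,4,4,0,4,3,3,0,0,3,4,0,0],
   [1,1,4,3,1,6,3,3,2,6,1,6,6,5,6,6],
   [3,0,2,4,0,4,4,5,6,5,6,6,5,1,6,1],
   [2,1,6,2,1,5,2,1,0,1,2,1,1,0,1,5],
   [2,6,6,3,6,5,3,1,3,6,6,0,6,4,0,1],
   [4,5,3,2,5,3,2,4,3,6,1,6,6,4,6,6],
   [4,4,6,3,4,3,3,1,3,2,1,2,2,4,2,6],
   [2,5,2,6,5,5,6,5,1,0,6,1,0,6,1,1],
   [5,5,6,5,5,2,5,1,3,5,2,1,5,4,1,5],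
   [2,6,0,2,6,5,2,0,3,1,6,5,1,4,5,1],
   [0,3,5,3,3,0,3,2,1,2,6,1,2,6,1,1],
   [3,3,4,0,3,4,0,3,3,5,0,6,5,4,6,0],
   [3,4,5,0,4,4,0,2,5,5,0,3,5,2,3,0],
   [2,2,4,6,2,5,6,3,4,1,5,1,1,3,1,2],
   [5,6,0,5,6,2,5,0,5,5,2,5,5,2,5,5],
   [5,3,3,2,3,2,2,4,6,4,6,5,4,1,5,1],
   [4,3,0,4,3,3,4,0,4,3,0,0,3,3,0,0],
   [0,6,3,4,6,0,4,4,6,0,6,2,0,1,2,1],
   [5,1,3,3,1,2,3,4,5,5,5,6,5,2,6,2],
   [6,5,3,2,5,1,2,4,6,4,5,3,4,1,3,2],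
   [1,1,3,6,6,1,1,3,2,2,3,1,5,2,6,3],
   [1,4,1,2,3,1,5,1,1,4,6,3,3,1,4,6],
   [6,2,1,4,5,6,3,1,3,2,5,3,5,3,4,5]]

def powC (A : List ℕ) : ℕ → List ℕ
  | 0 => oneC
  | n + 1 => mulC (powC A n) A

/-- Conditions on one element, given the powers `A ^ k`. -/
def okElem (A : List ℕ) : Bool :=
  let A2 := mulC A A
  let A3 := mulC A2 A
  let A4 := mulC A2 A2
  let A5 := mulC A4 A
  let A8 := mulC A4 A4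
  (A8 == oneC || mulC A5 A5 == oneC || mulC A8 A4 == oneC) &&
  (A == oneC || A == negOneC || A2 != oneC) &&
  (A == oneC || A3 != oneC || addC (addC oneC A) A2 == zeroC) &&
  (A == oneC || A5 != oneC || addC (addC (addC (addC oneC A) A2) A3) A4 == zeroC)

theorem cert : oneC ∈ elems ∧ (∀ A ∈ elems, mulC A xC ∈ elems) ∧ (∀ A ∈ elems, mulC A yC ∈ elems) ∧
    (∀ A ∈ elems, okElem A = true) := by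
  decide +kernel

/-- Interpretation of a code. -/
def toMat (A : List ℕ) : Matrix (Fin 4) (Fin 4) (ZMod 7) :=
  Matrix.of fun i j => (A.getD (4 * i.val + j.val) 0 : ZMod 7)

theorem toMat_mul (A B : List ℕ) : toMat (mulC A B) = toMat A * toMat B := by
  ext i j
  fin_cases i <;> fin_cases j <;> simp [toMat, mulC, Matrix.mul_apply, Fin.sum_univ_four]

theorem toMat_add (A B : List ℕ) : toMat (addC A B) = toMat A + toMat B := by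
  ext i j
  fin_cases i <;> fin_cases j <;> simp [toMat, addC]

theorem toMat_one : toMat oneC = 1 := by
  ext i j; fin_cases i <;> fin_cases j <;> simp [toMat, oneC]

theorem toMat_negOne : toMat negOneC = -1 := by
  ext i j; fin_cases i <;> fin_cases j <;> simp [toMat, negOneC] <;> decide

theorem toMat_zero : toMat zeroC = 0 := by
  ext i j; fin_cases i <;> fin_cases j <;> simp [toMat, zeroC]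

theorem toMat_powC (A : List ℕ) : ∀ n, toMat (powC A n) = toMat A ^ n
  | 0 => by simp [powC, toMat_one]
  | n + 1 => by rw [powC, toMat_mul, toMat_powC A n, pow_succ]

theorem eq_oneC_of_toMat {A B : List ℕ} (h : toMat (mulC A B) = 1) : mulC A B = oneC := by
  have hlen : (mulC A B).length = oneC.length := by simp [mulC, oneC]
  refine List.ext_getElem hlen fun t h1 h2 => ?_
  have ht : t < 16 := by simpa [oneC] using h2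
  rw [← toMat_one] at h
  have h' := congrFun (congrFun h ⟨t / 4, by omega⟩) ⟨t % 4, by omega⟩
  simp only [toMat, Matrix.of_apply, Nat.div_add_mod, List.getD_eq_getElem _ _ h1,
    List.getD_eq_getElem _ _ h2] at h'
  rw [ZMod.natCast_eq_natCast_iff'] at h'
  have e1 : (mulC A B)[t] % 7 = (mulC A B)[t] := Nat.mod_eq_of_lt (by simp [mulC]; omega)
  have e2 : oneC[t] % 7 = oneC[t] := by interval_cases t <;> rfl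
  omega

theorem xC_pow : toMat (powC xC 8) = 1 ∧ ∀ k < 8, 0 < k → toMat (powC xC k) ≠ 1 := by
  decide +kernel

theorem yC_pow : toMat (powC yC 12) = 1 ∧ ∀ k < 12, 0 < k → toMat (powC yC k) ≠ 1 := by
  decide +kernel

theorem zC_pow : toMat (powC (mulC (mulC (mulC xC xC) (mulC yC xC)) (mulC (mulC xC yC) (mulC yC yC))) 10) = 1 ∧
    ∀ k < 10, 0 < k →
      toMat (powC (mulC (mulC (mulC xC xC) (mulC yC xC)) (mulC (mulC xC yC) (mulC yC yC))) k) ≠ 1 := by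
  decide +kernel

def xU : GL (Fin 4) (ZMod 7) :=
  ⟨toMat xC, toMat (powC xC 7), by decide +kernel, by decide +kernel⟩

def yU : GL (Fin 4) (ZMod 7) :=
  ⟨toMat yC, toMat (powC yC 11), by decide +kernel, by decide +kernel⟩

/-- The group `2.S5⁻`. -/
def K : Subgroup (GL (Fin 4) (ZMod 7)) := Subgroup.closure {xU, yU}

theorem mem_elems {g : GL (Fin 4) (ZMod 7)} (hg : g ∈ K) :
    ∃ A ∈ elems, (g : Matrix (Fin 4) (Fin 4) (ZMod 7)) = toMat A := by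
  rw [K, ← Subgroup.mem_toSubmonoid, Subgroup.closure_toSubmonoid_of_finite] at hg
  induction hg using Submonoid.closure_induction_right with
  | one => exact ⟨oneC, cert.1, by simp [toMat_one]⟩
  | mul_right u _ v hv ih =>
    obtain ⟨A, hA, hA'⟩ := ih
    rcases hv with rfl | rfl
    · exact ⟨_, cert.2.1 A hA, by rw [toMat_mul, Units.val_mul, hA']; rfl⟩
    · exact ⟨_, cert.2.2.1 A hA, by rw [toMat_mul, Units.val_mul, hA']; rfl⟩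

theorem elem_facts (g : K) :
    (g ^ 8 = 1 ∨ g ^ 10 = 1 ∨ g ^ 12 = 1) ∧
    (g ^ 2 = 1 → g = 1 ∨ ((g : GL (Fin 4) (ZMod 7)) : Matrix (Fin 4) (Fin 4) (ZMod 7)) = -1) ∧
    (∀ p, (p = 3 ∨ p = 5) → g ^ p = 1 → g = 1 ∨
      ∑ i ∈ Finset.range p, ((g : GL (Fin 4) (ZMod 7)) : Matrix (Fin 4) (Fin 4) (ZMod 7)) ^ i = 0) := by
  obtain ⟨A, hA, hA'⟩ := mem_elems g.2
  have h := cert.2.2.2 A hA
  have key : ∀ n (B : List ℕ), toMat A ^ n = toMat B → (g ^ n = 1 ↔ toMat B = 1) := by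
    intro n B hB
    rw [← hB, ← hA']
    constructor
    · intro h
      have := congrArg (fun u : K => ((u : GL (Fin 4) (ZMod 7)) : Matrix (Fin 4) (Fin 4) (ZMod 7))) h
      simpa using this
    · intro h
      apply Subtype.ext
      apply Units.ext
      simpa using h
  have h1 : toMat A ^ 1 = toMat A := pow_one _
  have h2 : toMat A ^ 2 = toMat (mulC A A) := by rw [toMat_mul, sq]
  have h3 : toMat A ^ 3 = toMat (mulC (mulC A A) A) := by rw [toMat_mul, ← h2, ← pow_succ]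
  have h4 : toMat A ^ 4 = toMat (mulC (mulC A A) (mulC A A)) := by
    rw [toMat_mul, ← h2, ← pow_add]
  have h5 : toMat A ^ 5 = toMat (mulC (mulC (mulC A A) (mulC A A)) A) := by
    rw [toMat_mul, ← h4, ← pow_succ]
  simp only [okElem, Bool.and_eq_true, Bool.or_eq_true, beq_iff_eq, bne_iff_ne] at h
  obtain ⟨⟨⟨ho, hsq⟩, hcu⟩, hfi⟩ := h
  have h8 : toMat A ^ 8 = toMat (mulC (mulC (mulC A A) (mulC A A)) (mulC (mulC A A) (mulC A A))) := by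
    rw [toMat_mul, ← h4, ← pow_add]
  refine ⟨?_, fun hg => ?_, fun p hp hg => ?_⟩
  · rcases ho with (h | h) | h
    · exact Or.inl ((key 8 _ h8).2 (by rw [h, toMat_one]))
    · exact Or.inr (Or.inl ((key 10 (mulC (mulC (mulC (mulC A A) (mulC A A)) A)
        (mulC (mulC (mulC A A) (mulC A A)) A)) (by rw [toMat_mul, ← h5, ← pow_add])).2
        (by rw [h, toMat_one])))
    · exact Or.inr (Or.inr ((key 12 (mulC (mulC (mulC (mulC A A) (mulC A A))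
        (mulC (mulC A A) (mulC A A))) (mulC (mulC A A) (mulC A A)))
        (by rw [toMat_mul, ← h8, ← h4, ← pow_add])).2 (by rw [h, toMat_one])))
  · have h2' := eq_oneC_of_toMat ((key 2 _ h2).1 hg)
    rcases hsq with (h | h) | h
    · left; apply Subtype.ext; apply Units.ext; simp [hA', h, toMat_one]
    · right; rw [hA', h, toMat_negOne]
    · exact absurd h2' h
  · have h1' : A = oneC → g = 1 := fun h => by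
      apply Subtype.ext; apply Units.ext; simp [hA', h, toMat_one]
    rcases hp with rfl | rfl
    · have h3' := eq_oneC_of_toMat ((key 3 _ h3).1 hg)
      rcases hcu with (h | h) | h
      · exact Or.inl (h1' h)
      · exact absurd h3' h
      · right
        rw [hA']
        simp only [Finset.sum_range_succ, Finset.sum_range_zero, zero_add, pow_zero, pow_one, h2]
        rw [← toMat_one, ← toMat_add, ← toMat_add, h, toMat_zero]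
    · have h5' := eq_oneC_of_toMat ((key 5 _ h5).1 hg)
      rcases hfi with (h | h) | h
      · exact Or.inl (h1' h)
      · exact absurd h5' h
      · right
        rw [hA']
        simp only [Finset.sum_range_succ, Finset.sum_range_zero, zero_add, pow_zero, pow_one, h2, h3, h4]
        rw [← toMat_one, ← toMat_add, ← toMat_add, ← toMat_add, ← toMat_add, h, toMat_zero]

/-- An element of `K` of order 10. -/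
def zC : List ℕ := mulC (mulC (mulC xC xC) (mulC yC xC)) (mulC (mulC xC yC) (mulC yC yC))

theorem exists_orders (d : ℕ) (hd : d ∈ [1, 2, 3, 4, 5, 6, 8, 10, 12]) :
    ∃ g : K, orderOf g = d := by
  have hx : xU ∈ K := Subgroup.subset_closure (by simp)
  have hy : yU ∈ K := Subgroup.subset_closure (by simp)
  have hz : xU * xU * (yU * xU) * (xU * yU * (yU * yU)) ∈ K :=
    mul_mem (mul_mem (mul_mem hx hx) (mul_mem hy hx)) (mul_mem (mul_mem hx hy) (mul_mem hy hy))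
  have ord : ∀ (u : GL (Fin 4) (ZMod 7)) (_ : u ∈ K) (C : List ℕ) (n : ℕ), 0 < n →
      (u : Matrix (Fin 4) (Fin 4) (ZMod 7)) = toMat C →
      (toMat (powC C n) = 1 ∧ ∀ k < n, 0 < k → toMat (powC C k) ≠ 1) → ∀ e, e ∣ n →
      ∃ g : K, orderOf g = e := by
    intro u hu C n hn huC hC e he
    have ho : orderOf (⟨u, hu⟩ : K) = n := by
      rw [Subgroup.orderOf_mk]
      refine (orderOf_eq_iff hn).2 ⟨Units.ext ?_, fun k hk hk0 hk1 => hC.2 k hk hk0 ?_⟩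
      · rw [Units.val_pow_eq_pow_val, huC, ← toMat_powC, hC.1, Units.val_one]
      · rw [toMat_powC, ← huC, ← Units.val_pow_eq_pow_val, hk1, Units.val_one]
    refine ⟨(⟨u, hu⟩ : K) ^ (n / e), ?_⟩
    conv_lhs => rw [← ho]
    rw [orderOf_pow_orderOf_div (by omega) (by rw [ho]; exact he)]
  have ox := ord xU hx xC 8 (by norm_num) rfl xC_pow
  have oy := ord yU hy yC 12 (by norm_num) rfl yC_pow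
  have oz := ord _ hz zC 10 (by norm_num) (by simp only [zC, toMat_mul, Units.val_mul]; rfl) zC_pow
  simp only [List.mem_cons, List.not_mem_nil, or_false] at hd
  rcases hd with rfl | rfl | rfl | rfl | rfl | rfl | rfl | rfl | rfl
  · exact ox 1 (by norm_num)
  · exact ox 2 (by norm_num)
  · exact oy 3 (by norm_num)
  · exact ox 4 (by norm_num)
  · exact oz 5 (by norm_num)
  · exact oy 6 (by norm_num)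
  · exact ox 8 (by norm_num)
  · exact oz 10 (by norm_num)
  · exact oy 12 (by norm_num)

theorem orderOf_mem (g : K) : orderOf g ∈ [1, 2, 3, 4, 5, 6, 8, 10, 12] := by
  have key : ∀ n ∈ [8, 10, 12], ∀ d < 13, d ∣ n → d ∈ [1, 2, 3, 4, 5, 6, 8, 10, 12] := by decide
  have fin : ∀ n ∈ [8, 10, 12], g ^ n = 1 → orderOf g ∈ [1, 2, 3, 4, 5, 6, 8, 10, 12] := by
    intro n hn h
    have hd := orderOf_dvd_of_pow_eq_one h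
    have h13 : n < 13 ∧ 0 < n := by simp at hn; omega
    exact key n hn _ (lt_of_le_of_lt (Nat.le_of_dvd h13.2 hd) h13.1) hd
  rcases (elem_facts g).1 with h | h | h
  · exact fin 8 (by simp) h
  · exact fin 10 (by simp) h
  · exact fin 12 (by simp) h

end CfsgLib.Spectrum.K240
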