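import Mathlib
import Cfsg.Agent.Lib.Spectrum.Semidirect
import Cfsg.Agent.Lib.Spectrum.K240

/-!
Groups `(7^{4N} × 3^{120}) ⋊ 2.S5⁻` with the element orders of the alternating group of degree 10.
-/

set_option autoImplicit false
set_option maxHeartbeats 200000

namespace CfsgLib.Spectrum

open K240 Matrix

theorem K240.fixed_eq_zero {g : K} (hg : g ≠ 1) {v : Fin 4 → ZMod 7}
    (hv : ((g : GL (Fin 4) (ZMod 7)) : Matrix (Fin 4) (Fin 4) (ZMod 7)) *ᵥ v = v) : v = 0 := by
  set r := (orderOf g).minFac with hr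
  have hne : orderOf g ≠ 1 := fun h => hg (orderOf_eq_one_iff.1 h)
  have hrp : r.Prime := Nat.minFac_prime hne
  have hrd : r ∣ orderOf g := Nat.minFac_dvd _
  set h := g ^ (orderOf g / r) with hh
  have hho : orderOf h = r := orderOf_pow_orderOf_div (orderOf_pos g).ne' hrd
  have hh1 : h ≠ 1 := fun e => hrp.ne_one (by rw [← hho, e, orderOf_one])
  have hhr : h ^ r = 1 := hho ▸ pow_orderOf_eq_one h
  set M := ((h : GL (Fin 4) (ZMod 7)) : Matrix (Fin 4) (Fin 4) (ZMod 7)) with hM
  have hp : ∀ (u : K), ((u : GL (Fin 4) (ZMod 7)) : Matrix (Fin 4) (Fin 4) (ZMod 7)) *ᵥ v = v →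
      ∀ n : ℕ, (((u ^ n : K) : GL (Fin 4) (ZMod 7)) : Matrix (Fin 4) (Fin 4) (ZMod 7)) *ᵥ v = v := by
    intro u hu n
    induction n with
    | zero => simp
    | succ n ih =>
      rw [pow_succ', Subgroup.coe_mul, Units.val_mul, ← Matrix.mulVec_mulVec, ih, hu]
  have hMv : ∀ n : ℕ, M ^ n *ᵥ v = v := fun n => by
    simpa using hp h (hp g hv _) n
  have hr235 : r = 2 ∨ r = 3 ∨ r = 5 := by
    have hm := orderOf_mem g
    simp only [List.mem_cons, List.not_mem_nil, or_false] at hm
    rcases hm with e | e | e | e | e | e | e | e | e <;> rw [hr, e] <;> norm_num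
    exact absurd e hne
  rcases hr235 with e | e
  · rw [e] at hhr
    rcases (elem_facts h).2.1 hhr with h' | h'
    · exact absurd h' hh1
    · have hv1 : M *ᵥ v = v := by simpa using hMv 1
      rw [show M = -1 from h', neg_mulVec, one_mulVec] at hv1
      funext i
      have := congrFun hv1 i
      simp only [Pi.neg_apply, Pi.zero_apply] at this ⊢
      revert this
      generalize v i = a
      revert a
      decide
  · rcases (elem_facts h).2.2 r e hhr with h' | h'
    · exact absurd h' hh1
    · have hs : (∑ i ∈ Finset.range r, M ^ i) *ᵥ v = 0 := by rw [hM, h', zero_mulVec]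
      rw [Matrix.sum_mulVec] at hs
      simp only [hMv, Finset.sum_const, Finset.card_range] at hs
      funext i
      have := congrFun hs i
      rw [Pi.smul_apply, nsmul_eq_mul, Pi.zero_apply] at this
      rw [Pi.zero_apply]
      revert this
      generalize v i = a
      rcases e with e | e <;> rw [e] <;> revert a <;> decide

/-- The central involution of `K`. -/
theorem K240.exists_negOne : ∃ z : K, z ≠ 1 ∧
    ((z : GL (Fin 4) (ZMod 7)) : Matrix (Fin 4) (Fin 4) (ZMod 7)) = -1 := by
  obtain ⟨z, hz⟩ := exists_orders 2 (by simp)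
  have h1 : z ≠ 1 := fun e => by rw [e, orderOf_one] at hz; omega
  exact ⟨z, h1, ((elem_facts z).2.1 (hz ▸ pow_orderOf_eq_one z)).resolve_left h1⟩

/-- The central involution. -/
noncomputable def negK : K := Classical.choose K240.exists_negOne

theorem negK_ne_one : negK ≠ 1 := (Classical.choose_spec K240.exists_negOne).1

theorem negK_val : ((negK : GL (Fin 4) (ZMod 7)) : Matrix (Fin 4) (Fin 4) (ZMod 7)) = -1 :=
  (Classical.choose_spec K240.exists_negOne).2

theorem negK_comm (g : K) : negK * g = g * negK := by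
  apply Subtype.ext; apply Units.ext
  simp [negK_val]

theorem negK_sq : negK * negK = 1 := by
  apply Subtype.ext; apply Units.ext
  simp [negK_val]

theorem eq_negK_of_orderOf_two {g : K} (h : orderOf g = 2) : g = negK := by
  have h1 : g ≠ 1 := fun e => by rw [e, orderOf_one] at h; omega
  apply Subtype.ext; apply Units.ext
  rw [negK_val]
  exact ((elem_facts g).2.1 (h ▸ pow_orderOf_eq_one g)).resolve_left h1

/-- The faithful part of the regular module over `F₃`. -/
def oddFun : AddSubgroup (K → ZMod 3) where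
  carrier := {f | ∀ x, f (negK * x) = -f x}
  zero_mem' := by simp
  add_mem' {f f'} h h' := fun x => by simp [h x, h' x, add_comm]
  neg_mem' {f} h := fun x => by simp [h x]

theorem mem_oddFun {f : K → ZMod 3} : f ∈ oddFun ↔ ∀ x, f (negK * x) = -f x := Iff.rfl

/-- Translation on `oddFun`. -/
noncomputable def oddAct : K →* MulAut (Multiplicative oddFun) where
  toFun g := AddEquiv.toMultiplicative
    { toFun := fun f => ⟨fun x => (f : K → ZMod 3) (g⁻¹ * x), fun x => by
        show (f : K → ZMod 3) (g⁻¹ * (negK * x)) = _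
        rw [← mul_assoc, ← negK_comm, mul_assoc]; exact f.2 _⟩
      invFun := fun f => ⟨fun x => (f : K → ZMod 3) (g * x), fun x => by
        show (f : K → ZMod 3) (g * (negK * x)) = _
        rw [← mul_assoc, ← negK_comm, mul_assoc]; exact f.2 _⟩
      left_inv := fun f => by
        apply Subtype.ext; funext x
        show (f : K → ZMod 3) (g⁻¹ * (g * x)) = _
        rw [inv_mul_cancel_left]
      right_inv := fun f => by
        apply Subtype.ext; funext x
        show (f : K → ZMod 3) (g * (g⁻¹ * x)) = _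
        rw [mul_inv_cancel_left]
      map_add' := fun _ _ => rfl }
  map_one' := by ext f; simp
  map_mul' g h := by
    apply MulEquiv.ext; intro f
    apply Multiplicative.toAdd.injective
    apply Subtype.ext; funext x
    show (f.toAdd : K → ZMod 3) ((g * h)⁻¹ * x) = (f.toAdd : K → ZMod 3) (h⁻¹ * (g⁻¹ * x))
    rw [_root_.mul_inv_rev, mul_assoc]

theorem oddAct_apply (g : K) (f : Multiplicative oddFun) (x : K) :
    ((oddAct g f).toAdd : K → ZMod 3) x = (f.toAdd : K → ZMod 3) (g⁻¹ * x) := rfl

/-- The odd delta function. -/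
noncomputable def oddDelta : oddFun :=
  ⟨fun x => if x = 1 then 1 else if x = negK then -1 else 0, fun x => by
    have hz := negK_ne_one
    by_cases h1 : x = 1
    · subst h1; simp [hz]
    by_cases h2 : x = negK
    · subst h2; simp [negK_sq, hz]
    have h3 : negK * x ≠ 1 := fun e => h2 (by
      rw [← mul_left_cancel_iff (a := negK), e, negK_sq])
    simp [h1, h2, h3]⟩

theorem oddDelta_one : (oddDelta : K → ZMod 3) 1 = 1 := by simp [oddDelta]

theorem oddDelta_zero {x : K} (h : Odd (orderOf x)) (h1 : x ≠ 1) :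
    (oddDelta : K → ZMod 3) x = 0 := by
  have h2 : x ≠ negK := fun e => by
    subst e
    rw [orderOf_eq_prime (p := 2) (by rw [sq, negK_sq]) negK_ne_one] at h
    exact absurd h (by decide)
  simp [oddDelta, h1, h2]

/-- The action of `K` on column vectors over `ZMod 7`. -/
def kAct : K →* MulAut (Multiplicative (Fin 4 → ZMod 7)) where
  toFun g := AddEquiv.toMultiplicative
    { toFun := fun v => ((g : GL (Fin 4) (ZMod 7)) : Matrix (Fin 4) (Fin 4) (ZMod 7)) *ᵥ v
      invFun := fun v =>
        (((g : GL (Fin 4) (ZMod 7))⁻¹ : GL (Fin 4) (ZMod 7)) : Matrix (Fin 4) (Fin 4) (ZMod 7)) *ᵥ v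
      left_inv := fun v => by
        change _ *ᵥ (_ *ᵥ v) = v
        rw [Matrix.mulVec_mulVec, ← Units.val_mul, inv_mul_cancel, Units.val_one, one_mulVec]
      right_inv := fun v => by
        change _ *ᵥ (_ *ᵥ v) = v
        rw [Matrix.mulVec_mulVec, ← Units.val_mul, mul_inv_cancel, Units.val_one, one_mulVec]
      map_add' := fun v w => Matrix.mulVec_add _ v w }
  map_one' := by ext v; simp
  map_mul' A B := by ext v; simp

theorem kAct_apply (g : K) (v : Multiplicative (Fin 4 → ZMod 7)) :
    (kAct g v).toAdd =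
      ((g : GL (Fin 4) (ZMod 7)) : Matrix (Fin 4) (Fin 4) (ZMod 7)) *ᵥ v.toAdd := rfl

abbrev VN (N : ℕ) := Fin N → Multiplicative (Fin 4 → ZMod 7)

/-- The action on `7^{4N} × 3^{120}`. -/
noncomputable def bothAct (N : ℕ) : K →* MulAut (VN N × Multiplicative oddFun) where
  toFun g := (powAct kAct N g).prodCongr (oddAct g)
  map_one' := by
    apply MulEquiv.ext; intro a
    show ((powAct kAct N 1) a.1, (oddAct 1) a.2) = a
    rw [map_one, map_one]; rfl
  map_mul' g h := by
    apply MulEquiv.ext; intro a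
    show ((powAct kAct N (g * h)) a.1, (oddAct (g * h)) a.2) = _
    rw [map_mul, map_mul]; rfl

theorem bothAct_apply (N : ℕ) (g : K) (a : VN N × Multiplicative oddFun) :
    bothAct N g a = (powAct kAct N g a.1, oddAct g a.2) := rfl

theorem seven_pow (N : ℕ) (v : VN N) : v ^ 7 = 1 := by
  funext i; apply Multiplicative.toAdd.injective; funext j
  simp
  exact (by decide : ∀ a : ZMod 7, 7 * a = 0) _

theorem three_pow (w : Multiplicative oddFun) : w ^ 3 = 1 := by
  apply Multiplicative.toAdd.injective; apply Subtype.ext; funext j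
  show (((Multiplicative.toAdd (w ^ 3)) : oddFun) : K → ZMod 3) j = 0
  rw [toAdd_pow, AddSubgroup.coe_nsmul, Pi.smul_apply]
  exact (by decide : ∀ a : ZMod 3, (3 : ℕ) • a = 0) _

theorem K240.pow_fpf {N : ℕ} {g : K} (hg : g ≠ 1) {v : VN N}
    (hv : powAct kAct N g v = v) : v = 1 :=
  pow_fixedPointFree (fun u hu => by
    apply Multiplicative.toAdd.injective
    exact K240.fixed_eq_zero hg (by rw [← kAct_apply, hu])) v hv

theorem oddAct_fixed_eq_one {g : K} (hev : 2 ∣ orderOf g) {w : Multiplicative oddFun}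
    (hw : oddAct g w = w) : w = 1 := by
  have hz : g ^ (orderOf g / 2) = negK :=
    eq_negK_of_orderOf_two (orderOf_pow_orderOf_div (orderOf_pos g).ne' hev)
  have hp : ∀ n : ℕ, oddAct (g ^ n) w = w := by
    intro n
    induction n with
    | zero => simp
    | succ n ih => rw [pow_succ, map_mul, MulAut.mul_apply, hw, ih]
  have hzw := hp (orderOf g / 2)
  rw [hz] at hzw
  apply Multiplicative.toAdd.injective; apply Subtype.ext; funext x
  have h := congrArg (fun u : Multiplicative oddFun => (u.toAdd : K → ZMod 3) (negK * x)) hzw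
  simp only [oddAct_apply] at h
  rw [inv_mul_cancel_left, w.toAdd.2 x] at h
  show (w.toAdd : K → ZMod 3) x = 0
  revert h
  generalize (w.toAdd : K → ZMod 3) x = a
  revert a
  decide

theorem orbit_prod_fixed {G M : Type*} [Group G] [CommGroup M] (φ : G →* MulAut M) (g : G)
    (h : g ^ 5 = 1) (d : M) :
    φ g (d * φ g d * φ (g ^ 2) d * φ (g ^ 3) d * φ (g ^ 4) d) =
      d * φ g d * φ (g ^ 2) d * φ (g ^ 3) d * φ (g ^ 4) d := by
  simp only [map_mul, ← MulAut.mul_apply]
  simp only [← map_mul, ← pow_succ', ← sq, Nat.reduceAdd, h, map_one, MulAut.one_apply]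
  rw [mul_comm]
  simp only [mul_assoc, map_pow]

theorem exists_order_nine (N : ℕ) :
    ∃ x : (VN N × Multiplicative oddFun) ⋊[bothAct N] K, orderOf x = 9 := by
  haveI : Fact (Nat.Prime 3) := ⟨by norm_num⟩
  obtain ⟨g, hg⟩ := exists_orders 3 (by simp)
  refine ⟨⟨((1 : VN N), Multiplicative.ofAdd oddDelta), g⟩, ?_⟩
  set x : (VN N × Multiplicative oddFun) ⋊[bothAct N] K :=
    ⟨((1 : VN N), Multiplicative.ofAdd oddDelta), g⟩ with hx
  have hxr : x.right = g := rfl
  rw [orderOf_eq_right_mul x, hxr, hg]
  set T := (x ^ 3).left.2 with hT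
  have hT1 : T ≠ 1 := by
    intro e
    have e' : T = Multiplicative.ofAdd oddDelta * oddAct g (Multiplicative.ofAdd oddDelta) *
        oddAct g (oddAct g (Multiplicative.ofAdd oddDelta)) := by
      rw [hT, hx]
      simp [pow_succ, SemidirectProduct.mul_left, bothAct_apply, map_mul, MulAut.mul_apply]
    rw [e] at e'
    have := congrArg (fun u : Multiplicative oddFun => (u.toAdd : K → ZMod 3) 1) e'
    simp only [toAdd_one, toAdd_mul, AddSubgroup.coe_zero, AddSubgroup.coe_add, Pi.zero_apply,
      Pi.add_apply, oddAct_apply, toAdd_ofAdd, mul_one, oddDelta_one] at this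
    have o1 : orderOf g⁻¹ = 3 := by rw [orderOf_inv, hg]
    have o2 : orderOf (g⁻¹ * g⁻¹) = 3 := by
      rw [← sq, Nat.Coprime.orderOf_pow (by rw [o1]; decide), o1]
    rw [oddDelta_zero (by rw [o1]; decide) (fun q => by rw [q, orderOf_one] at o1; omega),
      oddDelta_zero (by rw [o2]; decide) (fun q => by rw [q, orderOf_one] at o2; omega)] at this
    exact absurd this (by decide)
  have h1 : (x ^ 3).left.1 = 1 := by
    rw [hx]; simp [pow_succ, SemidirectProduct.mul_left, bothAct_apply]
  rw [show (x ^ 3).left = ((x ^ 3).left.1, T) from rfl, Prod.orderOf_mk, h1, orderOf_one,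
    orderOf_eq_prime (three_pow T) hT1]
  rfl

theorem exists_order_fifteen (N : ℕ) :
    ∃ x : (VN N × Multiplicative oddFun) ⋊[bothAct N] K, orderOf x = 15 := by
  haveI : Fact (Nat.Prime 3) := ⟨by norm_num⟩
  obtain ⟨g, hg⟩ := exists_orders 5 (by simp)
  set d := Multiplicative.ofAdd oddDelta with hd
  set S := d * oddAct g d * oddAct (g ^ 2) d * oddAct (g ^ 3) d * oddAct (g ^ 4) d with hS
  have hfix : oddAct g S = S :=
    orbit_prod_fixed oddAct g (by rw [← hg, pow_orderOf_eq_one]) d
  have hS1 : S ≠ 1 := by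
    intro e
    have := congrArg (fun u : Multiplicative oddFun => (u.toAdd : K → ZMod 3) 1) e
    simp only [hS, hd, toAdd_mul, toAdd_one, AddSubgroup.coe_zero, AddSubgroup.coe_add,
      Pi.zero_apply, Pi.add_apply, oddAct_apply, toAdd_ofAdd, mul_one, oddDelta_one] at this
    have ok : ∀ k : ℕ, 0 < k → k < 5 → (oddDelta : K → ZMod 3) (g ^ k)⁻¹ = 0 := by
      intro k hk hk5
      have o : orderOf (g ^ k)⁻¹ = 5 := by
        rw [orderOf_inv, Nat.Coprime.orderOf_pow, hg]
        rw [hg]
        interval_cases k <;> decide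
      exact oddDelta_zero (by rw [o]; decide) (fun q => by rw [q, orderOf_one] at o; omega)
    rw [show g⁻¹ = (g ^ 1)⁻¹ by rw [pow_one], ok 1 (by omega) (by omega),
      ok 2 (by omega) (by omega), ok 3 (by omega) (by omega), ok 4 (by omega) (by omega)] at this
    simp at this
  refine ⟨⟨((1 : VN N), S), g⟩, ?_⟩
  rw [orderOf_mk_of_fixed (by rw [bothAct_apply, map_one, hfix]), Prod.orderOf_mk, orderOf_one,
    orderOf_eq_prime (three_pow S) hS1, hg]
  rfl

/-- Element orders of the witness. -/
theorem bothAct_orders (N : ℕ) (hN : 0 < N) :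
    Set.range (orderOf : (VN N × Multiplicative oddFun) ⋊[bothAct N] K → ℕ) =
      {1, 2, 3, 4, 5, 6, 7, 8, 9, 10, 12, 15, 21} := by
  classical
  haveI : Fact (Nat.Prime 3) := ⟨by norm_num⟩
  haveI : Fact (Nat.Prime 7) := ⟨by norm_num⟩
  have hd1 : Multiplicative.ofAdd oddDelta ≠ 1 := fun e => by
    have := congrArg (fun u : Multiplicative oddFun => (u.toAdd : K → ZMod 3) 1) e
    simp [oddDelta_one] at this
  ext n
  simp only [Set.mem_range, Set.mem_insert_iff, Set.mem_singleton_iff]
  constructor
  · rintro ⟨x, rfl⟩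
    have hfix := norm_fixed x
    rw [orderOf_eq_right_mul x]
    generalize (x ^ orderOf x.right).left = T at hfix
    obtain ⟨v, w⟩ := T
    rw [bothAct_apply, Prod.mk.injEq] at hfix
    dsimp only at hfix
    rw [Prod.orderOf_mk]
    have hw3 : orderOf w = 1 ∨ orderOf w = 3 :=
      (Nat.dvd_prime (by norm_num)).1 (orderOf_dvd_of_pow_eq_one (three_pow w))
    have hv7 : orderOf v = 1 ∨ orderOf v = 7 :=
      (Nat.dvd_prime (by norm_num)).1 (orderOf_dvd_of_pow_eq_one (seven_pow N v))
    by_cases hg : x.right = 1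
    · rw [hg, orderOf_one, one_mul]
      rcases hv7 with e | e <;> rcases hw3 with e' | e' <;> rw [e, e'] <;> decide
    have hv1 : v = 1 := K240.pow_fpf hg hfix.1
    rw [hv1, orderOf_one, Nat.lcm_one_left]
    have hm := orderOf_mem x.right
    simp only [List.mem_cons, List.not_mem_nil, or_false] at hm
    rcases hw3 with e | e
    · rw [e, mul_one]; omega
    · have hodd : ¬ 2 ∣ orderOf x.right := fun hev => by
        rw [oddAct_fixed_eq_one hev hfix.2, orderOf_one] at e; omega
      rw [e]
      rcases hm with q | q | q | q | q | q | q | q | q <;> rw [q] at hodd ⊢ <;>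
        first | omega | decide
  · intro hn
    have inK : n ∈ [1, 2, 3, 4, 5, 6, 8, 10, 12] →
        ∃ x : (VN N × Multiplicative oddFun) ⋊[bothAct N] K, orderOf x = n := fun h => by
      obtain ⟨g, hg⟩ := exists_orders n h
      exact ⟨SemidirectProduct.inr g, by
        rw [orderOf_injective _ SemidirectProduct.inr_injective, hg]⟩
    obtain ⟨a, ha⟩ : ∃ a : VN N, orderOf a = 7 := by
      refine ⟨fun _ => Multiplicative.ofAdd (fun _ => (1 : ZMod 7)),
        orderOf_eq_prime (seven_pow N _) fun e => ?_⟩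
      have := congrArg (fun u : VN N => (u ⟨0, hN⟩).toAdd 0) e
      simp at this
    rcases hn with rfl | rfl | rfl | rfl | rfl | rfl | rfl | rfl | rfl | rfl | rfl | rfl | rfl
    all_goals first | exact inK (by decide) | skip
    · exact ⟨SemidirectProduct.inl (a, 1), by
        rw [orderOf_injective _ SemidirectProduct.inl_injective, Prod.orderOf_mk, ha, orderOf_one]
        rfl⟩
    · exact exists_order_nine N
    · exact exists_order_fifteen N
    · exact ⟨SemidirectProduct.inl (a, Multiplicative.ofAdd oddDelta), by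
        rw [orderOf_injective _ SemidirectProduct.inl_injective, Prod.orderOf_mk, ha,
          orderOf_eq_prime (three_pow _) hd1]
        rfl⟩

theorem exists_large_orders_A10 (N : ℕ) : ∃ (H : Type) (_ : Group H) (_ : Fintype H),
    N < Fintype.card H ∧
      Set.range (orderOf : H → ℕ) = {1, 2, 3, 4, 5, 6, 7, 8, 9, 10, 12, 15, 21} := by
  obtain ⟨H, i1, i2, ⟨e⟩⟩ :=
    exists_small_equiv ((VN (N + 1) × Multiplicative oddFun) ⋊[bothAct (N + 1)] K)
  refine ⟨H, i1, i2, ?_, ?_⟩
  · rw [← Nat.card_eq_fintype_card, Nat.card_congr e.toEquiv, SemidirectProduct.card, Nat.card_prod]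
    haveI : Fact (Nat.Prime 7) := ⟨by norm_num⟩
    have h7 : N + 1 < Nat.card (VN (N + 1)) := by
      rw [Nat.card_fun, Nat.card_fin]
      exact Nat.lt_pow_self Finite.one_lt_card
    calc N < Nat.card (VN (N + 1)) := by omega
      _ ≤ _ := (Nat.le_mul_of_pos_right _ Nat.card_pos).trans (Nat.le_mul_of_pos_right _ Nat.card_pos)
  · rw [range_orderOf_congr e]
    exact bothAct_orders _ N.succ_pos

end CfsgLib.Spectrum
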