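import Mathlib
import Cfsg.Agent.Lib.Solvable.Hall

/-!
Groups with the order and spectrum of an alternating group: big primes.
-/

set_option autoImplicit false

namespace CfsgLib.Spectrum

open scoped Pointwise

theorem commute_of_normalizes {G : Type*} [Group G] [Finite G] {p q : ℕ} (hp : p.Prime)
    (hq : q.Prime) (hd : ¬ p ∣ q - 1) {x y : G} (hx : orderOf x = q) (hy : orderOf y = p)
    (hn : y * x * y⁻¹ ∈ Subgroup.zpowers x) : Commute y x := by
  haveI := Fact.mk hq
  obtain ⟨k, hk : x ^ k = y * x * y⁻¹⟩ :=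
    (isOfFinOrder_of_finite x).mem_powers_iff_mem_zpowers.2 hn
  have hit : ∀ i : ℕ, y ^ i * x * (y ^ i)⁻¹ = x ^ k ^ i := by
    intro i
    induction i with
    | zero => simp
    | succ i ih =>
      calc y ^ (i + 1) * x * (y ^ (i + 1))⁻¹ = y ^ i * (y * x * y⁻¹) * (y ^ i)⁻¹ := by
            rw [pow_succ]; group
        _ = (y ^ i * x * (y ^ i)⁻¹) ^ k := by rw [← hk, conj_pow]
        _ = _ := by rw [ih, ← pow_mul, pow_succ]
  have h := hit p
  rw [← hy, pow_orderOf_eq_one, one_mul, inv_one, mul_one, hy] at h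
  have h1 : k ^ p ≡ 1 [MOD q] := by
    rw [← hx]; exact (pow_eq_pow_iff_modEq.1 ((pow_one x).trans h)).symm
  have h2 : (k : ZMod q) ^ p = 1 := by
    rw [← Nat.cast_pow, ← Nat.cast_one]; exact (ZMod.natCast_eq_natCast_iff _ _ _).2 h1
  have hk0 : (k : ZMod q) ≠ 0 := fun e => by rw [e, zero_pow hp.ne_zero] at h2; exact zero_ne_one h2
  have h3 : (k : ZMod q) = 1 := by
    have hd1 := orderOf_dvd_of_pow_eq_one h2
    have hd2 := ZMod.orderOf_dvd_card_sub_one hk0
    rcases (Nat.dvd_prime hp).1 hd1 with e | e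
    · exact orderOf_eq_one_iff.1 e
    · exact absurd (e ▸ hd2) hd
  have h4 : x ^ k = x := by
    conv_rhs => rw [← pow_one x]
    rw [pow_eq_pow_iff_modEq, hx, ← ZMod.natCast_eq_natCast_iff, h3, Nat.cast_one]
  exact mul_inv_eq_iff_eq_mul.1 (hk.symm.trans h4)

theorem orderOf_mul_of_normalizes {G : Type*} [Group G] [Finite G] {p q : ℕ} (hp : p.Prime)
    (hq : q.Prime) (hpq : p ≠ q) (hd : ¬ p ∣ q - 1) {x y : G} (hx : orderOf x = q)
    (hy : orderOf y = p) (hn : y * x * y⁻¹ ∈ Subgroup.zpowers x) : orderOf (y * x) = p * q := by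
  rw [(commute_of_normalizes hp hq hd hx hy hn).orderOf_mul_eq_mul_orderOf_of_coprime
    (by rw [hx, hy]; exact (Nat.coprime_primes hp hq).2 hpq), hx, hy]

theorem exists_orderOf_mul_of_card {H : Type*} [Group H] [Finite H] {p q a : ℕ} (hp : p.Prime)
    (hq : q.Prime) (hpq : p ≠ q) (hd : ¬ p ∣ q - 1) (ha : a ≠ 0) (hc : Nat.card H = p ^ a * q)
    (hdiv : ∀ d ≤ a, p ^ d % q = 1 → d = 0) : ∃ g : H, orderOf g = p * q := by
  haveI := Fact.mk hq
  haveI := Fact.mk hp
  obtain ⟨Q⟩ := (inferInstance : Nonempty (Sylow q H))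
  have hqcard : Nat.card Q = q := by
    rw [Q.card_eq_multiplicity, hc, Nat.factorization_mul (pow_ne_zero _ hp.ne_zero) hq.ne_zero,
      Finsupp.add_apply, hp.factorization_pow, hq.factorization_self,
      Finsupp.single_eq_of_ne hpq.symm, zero_add, pow_one]
  have hidx : (Q : Subgroup H).index = p ^ a := by
    have h := (Q : Subgroup H).index_mul_card
    rw [hqcard, hc] at h
    exact Nat.eq_of_mul_eq_mul_right hq.pos h
  have h1 : Nat.card (Sylow q H) = 1 := by
    obtain ⟨d, hd1, hd2⟩ := (Nat.dvd_prime_pow hp).1 (hidx ▸ Q.card_dvd_index)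
    have hm := card_sylow_modEq_one q H
    rw [Nat.ModEq, hd2, Nat.one_mod_eq_one.2 hq.ne_one] at hm
    rw [hd2, hdiv d hd1 hm, pow_zero]
  haveI : Subsingleton (Sylow q H) := (Nat.card_eq_one_iff_unique.1 h1).1
  haveI hQn : (Q : Subgroup H).Normal := Q.normal_of_subsingleton
  obtain ⟨x, hx⟩ := exists_prime_orderOf_dvd_card' (G := Q) q (by rw [hqcard])
  have hx' : orderOf (x : H) = q := by rw [Subgroup.orderOf_coe, hx]
  obtain ⟨y, hy⟩ := exists_prime_orderOf_dvd_card' (G := H) p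
    (hc ▸ (dvd_pow_self p ha).mul_right q)
  refine ⟨y * x, orderOf_mul_of_normalizes hp hq hpq hd hx' hy ?_⟩
  have hgen : Subgroup.zpowers (x : H) = (Q : Subgroup H) :=
    Subgroup.eq_of_le_of_card_ge (by rw [Subgroup.zpowers_le]; exact x.2)
      (by rw [Nat.card_zpowers, hx', hqcard])
  rw [hgen]
  exact hQn.conj_mem _ x.2 y

theorem alt_no_orderOf_mul {n p q : ℕ} (hp : p.Prime) (hq : q.Prime) (hne : p ≠ q) (hsum : n < p + q)
    (g : alternatingGroup (Fin n)) : orderOf g ≠ p * q := by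
  intro h
  rw [← Subgroup.orderOf_coe] at h
  set σ := (g : Equiv.Perm (Fin n))
  have key : ∀ r : ℕ, r.Prime → r ∣ orderOf σ → ∃ a ∈ σ.cycleType, r ∣ a := by
    intro r hr hd
    rw [← Equiv.Perm.lcm_cycleType] at hd
    revert hd
    induction σ.cycleType using Multiset.induction_on with
    | empty => intro hd; simp only [Multiset.lcm_zero] at hd; exact absurd hd hr.not_dvd_one
    | cons b s ih =>
      intro hd
      rw [Multiset.lcm_cons, lcm_eq_nat_lcm] at hd
      rcases (Nat.Prime.dvd_mul hr).1 (hd.trans (Nat.lcm_dvd_mul _ _)) with h' | h'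
      · exact ⟨b, Multiset.mem_cons_self _ _, h'⟩
      · obtain ⟨a, ha, ha'⟩ := ih h'
        exact ⟨a, Multiset.mem_cons_of_mem ha, ha'⟩
  obtain ⟨a, ha, hpa⟩ := key p hp (h ▸ dvd_mul_right p q)
  obtain ⟨b, hb, hqb⟩ := key q hq (h ▸ dvd_mul_left q p)
  have hsumle := σ.sum_cycleType_le
  rw [Fintype.card_fin] at hsumle
  have ha2 := Equiv.Perm.two_le_of_mem_cycleType ha
  have hb2 := Equiv.Perm.two_le_of_mem_cycleType hb
  by_cases hab : a = b
  · subst hab
    have h1 : p * q ∣ a := Nat.Coprime.mul_dvd_of_dvd_of_dvd ((Nat.coprime_primes hp hq).2 hne) hpa hqb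
    have h2 := Nat.le_of_dvd (by omega) h1
    have h3 := Multiset.le_sum_of_mem ha
    have h4 : p + q ≤ p * q := Nat.add_le_mul hp.two_le hq.two_le
    omega
  · have h3 : b ∈ σ.cycleType.erase a := (Multiset.mem_erase_of_ne (Ne.symm hab)).2 hb
    have h4 := Multiset.le_sum_of_mem h3
    have h5 := congrArg Multiset.sum (Multiset.cons_erase ha)
    rw [Multiset.sum_cons] at h5
    have := Nat.le_of_dvd (by omega) hpa
    have := Nat.le_of_dvd (by omega) hqb
    omega

theorem two_mul_natCard_alt (n : ℕ) (hn : 2 ≤ n) :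
    2 * Nat.card (alternatingGroup (Fin n)) = n.factorial := by
  haveI : Nontrivial (Fin n) := Fin.nontrivial_iff_two_le.2 hn
  rw [two_mul_nat_card_alternatingGroup, Nat.card_perm, Nat.card_fin]

theorem dvd_card_alt {n p : ℕ} (hp : p.Prime) (hp2 : p ≠ 2) (hle : p ≤ n) :
    p ∣ Nat.card (alternatingGroup (Fin n)) := by
  have h := (Nat.dvd_factorial hp.pos hle).trans (dvd_of_eq (two_mul_natCard_alt n (by have := hp.two_le; omega)).symm)
  rcases (Nat.Prime.dvd_mul hp).1 h with h' | h'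
  · exact absurd ((Nat.prime_dvd_prime_iff_eq hp Nat.prime_two).1 h') hp2
  · exact h'

theorem factorization_factorial_of_half {n p : ℕ} (hp : p.Prime) (h1 : n < 2 * p) (h2 : p ≤ n) :
    ¬ p ^ 2 ∣ n.factorial := by
  intro h
  have : n.factorial.factorization p < 2 := by
    haveI := Fact.mk hp
    rw [Nat.factorization_def _ hp, padicValNat_factorial (b := 2) ?_]
    · simp only [show Finset.Ico 1 2 = {1} from rfl, Finset.sum_singleton, pow_one]
      exact Nat.div_lt_of_lt_mul (by omega)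
    · rcases Nat.eq_zero_or_pos (Nat.log p n) with e | e
      · omega
      · apply Nat.log_lt_of_lt_pow (by omega)
        have := hp.two_le
        nlinarith
  have := (hp.pow_dvd_iff_le_factorization (Nat.factorial_ne_zero n)).1 h
  omega

theorem not_sq_dvd_card_alt {n p : ℕ} (hp : p.Prime) (h1 : n < 2 * p) (h2 : p ≤ n) :
    ¬ p ^ 2 ∣ Nat.card (alternatingGroup (Fin n)) := fun h =>
  factorization_factorial_of_half hp h1 h2
    (two_mul_natCard_alt n (by have := hp.two_le; omega) ▸ Dvd.dvd.mul_left h 2)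

theorem not_orderOf_of_spectrum {G : Type*} [Group G] {n p q : ℕ}
    (hspec : Set.range (orderOf : G → ℕ) = Set.range (orderOf : ↥(alternatingGroup (Fin n)) → ℕ))
    (hp : p.Prime) (hq : q.Prime) (hne : p ≠ q) (hsum : n < p + q) (g : G) :
    orderOf g ≠ p * q := by
  intro h
  have : p * q ∈ Set.range (orderOf : G → ℕ) := ⟨g, h⟩
  rw [hspec] at this
  obtain ⟨a, ha⟩ := this
  exact alt_no_orderOf_mul hp hq hne hsum a ha

theorem not_solvable_aux {G : Type*} [Group G] [Finite G] {n p q a : ℕ}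
    (hspec : Set.range (orderOf : G → ℕ) = Set.range (orderOf : ↥(alternatingGroup (Fin n)) → ℕ))
    (hp : p.Prime) (hq : q.Prime) (hne : p ≠ q) (hsum : n < p + q) (hd : ¬ p ∣ q - 1) (ha : a ≠ 0)
    {c : ℕ} (hc : Nat.card G = p ^ a * q * c) (hcop : (p ^ a * q).Coprime c)
    (hdiv : ∀ d ≤ a, p ^ d % q = 1 → d = 0) : ¬ Group.IsSolvable G := by
  intro hs
  obtain ⟨H, hH⟩ := CfsgLib.Solvable.exists_hall hc hcop
  obtain ⟨g, hg⟩ := exists_orderOf_mul_of_card hp hq hne hd ha hH hdiv
  exact not_orderOf_of_spectrum hspec hp hq hne hsum (g : G) (by rw [Subgroup.orderOf_coe, hg])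

theorem not_solvable_two_big {G : Type*} [Group G] [Finite G] {n p q : ℕ} (hn : 5 ≤ n)
    (hcard : Nat.card G = Nat.card ↥(alternatingGroup (Fin n)))
    (hspec : Set.range (orderOf : G → ℕ) = Set.range (orderOf : ↥(alternatingGroup (Fin n)) → ℕ))
    (hp : p.Prime) (hq : q.Prime) (hlt : p < q) (h1 : n < 2 * p) (h2 : q ≤ n) :
    ¬ Group.IsSolvable G := by
  obtain ⟨c, hc⟩ : p * q ∣ Nat.card G := hcard ▸ Nat.Coprime.mul_dvd_of_dvd_of_dvd
    ((Nat.coprime_primes hp hq).2 hlt.ne) (dvd_card_alt hp (by omega) (by omega))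
    (dvd_card_alt hq (by omega) h2)
  refine not_solvable_aux hspec hp hq hlt.ne (by omega) (fun hd => ?_) one_ne_zero
    (c := c) (by rw [pow_one]; exact hc) ?_ ?_
  · obtain ⟨t, ht⟩ := hd
    have ht1 : t = 1 := by
      have : p * t < 2 * p := by omega
      have : t < 2 := Nat.lt_of_mul_lt_mul_left (a := p) (by linarith)
      rcases t with _ | t
      · omega
      · omega
    subst ht1
    have hqo := hq.odd_of_ne_two (by omega)
    have hpo := hp.odd_of_ne_two (by omega)
    rw [Nat.odd_iff] at hqo hpo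
    omega
  · rw [pow_one, Nat.coprime_mul_iff_left, Nat.Prime.coprime_iff_not_dvd hp,
      Nat.Prime.coprime_iff_not_dvd hq]
    constructor <;> intro hdc
    · exact not_sq_dvd_card_alt hp (n := n) h1 (by omega) (hcard ▸ hc ▸ by
        rw [sq, mul_assoc]; exact mul_dvd_mul_left p (hdc.mul_left q))
    · exact not_sq_dvd_card_alt hq (n := n) (by omega) h2 (hcard ▸ hc ▸ by
        rw [sq, mul_comm p q, mul_assoc]; exact mul_dvd_mul_left q (hdc.mul_left p))
  · intro d hd he
    interval_cases d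
    · rfl
    · rw [pow_one, Nat.mod_eq_of_lt hlt] at he
      exact absurd he hp.ne_one

end CfsgLib.Spectrum
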