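import Mathlib
import Cfsg.Agent.Lib.Spectrum.Semidirect
import Cfsg.Agent.Lib.Spectrum.PGL2

/-!
For `p` prime, a module over a field of characteristic two for `PSL(2, p)` on which the elements of
order `p` act fixed-point-freely, while both half tori have non-zero norm. It consists of the
functions on the group whose sums over all cosets of all subgroups of order `p` vanish.
-/

set_option autoImplicit false

namespace CfsgLib.Spectrum

open Matrix

variable {F : Type*} [Field F] [Fintype F] {K : Type*} [Field K]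

/-- Functions with zero sums over all cosets of subgroups of order `p`. -/
def cuspFun (F : Type*) [Field F] (K : Type*) [Field K] (p : ℕ) :
    AddSubgroup (Matrix.ProjectiveSpecialLinearGroup (Fin 2) F → K) where
  carrier := {f | ∀ u x, orderOf u = p → ∑ i ∈ Finset.range p, f (u ^ i * x) = 0}
  zero_mem' := by simp
  add_mem' {f g} hf hg := fun u x hu => by
    simp only [Pi.add_apply, Finset.sum_add_distrib, hf u x hu, hg u x hu, add_zero]
  neg_mem' {f} hf := fun u x hu => by
    simp only [Pi.neg_apply, Finset.sum_neg_distrib, hf u x hu, neg_zero]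

theorem cusp_translate_mem {p : ℕ} {f : Matrix.ProjectiveSpecialLinearGroup (Fin 2) F → K}
    (hf : f ∈ cuspFun F K p) (g : Matrix.ProjectiveSpecialLinearGroup (Fin 2) F) :
    (fun x => f (g * x)) ∈ cuspFun F K p := by
  intro u x hu
  have h := hf (g * u * g⁻¹) (g * x) (by rw [← hu]; exact MulEquiv.orderOf_eq (MulAut.conj g) u)
  rw [← h]
  refine Finset.sum_congr rfl fun i _ => ?_
  show f (g * (u ^ i * x)) = _
  rw [conj_pow]
  group

/-- Translation on `cuspFun`. -/
def cuspAct (F : Type*) [Field F] [Fintype F] (K : Type*) [Field K] (p : ℕ) :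
    Matrix.ProjectiveSpecialLinearGroup (Fin 2) F →* MulAut (Multiplicative (cuspFun F K p)) where
  toFun g := AddEquiv.toMultiplicative
    { toFun := fun f => ⟨fun x => f.1 (g⁻¹ * x), cusp_translate_mem f.2 g⁻¹⟩
      invFun := fun f => ⟨fun x => f.1 (g * x), cusp_translate_mem f.2 g⟩
      left_inv := fun f => by
        apply Subtype.ext; funext x
        show f.1 (g⁻¹ * (g * x)) = _
        rw [inv_mul_cancel_left]
      right_inv := fun f => by
        apply Subtype.ext; funext x
        show f.1 (g * (g⁻¹ * x)) = _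
        rw [mul_inv_cancel_left]
      map_add' := fun _ _ => rfl }
  map_one' := by ext f; simp
  map_mul' g h := by
    apply MulEquiv.ext; intro f
    apply Multiplicative.toAdd.injective
    apply Subtype.ext; funext x
    show f.toAdd.1 ((g * h)⁻¹ * x) = f.toAdd.1 (h⁻¹ * (g⁻¹ * x))
    rw [_root_.mul_inv_rev, mul_assoc]

theorem cuspAct_apply {p : ℕ} (g x : Matrix.ProjectiveSpecialLinearGroup (Fin 2) F)
    (f : Multiplicative (cuspFun F K p)) :
    (cuspAct F K p g f).toAdd.1 x = f.toAdd.1 (g⁻¹ * x) := rfl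

variable [CharP K 2]

theorem cusp_two (p : ℕ) (f : Multiplicative (cuspFun F K p)) : f ^ 2 = 1 := by
  apply Multiplicative.toAdd.injective
  rw [toAdd_pow, toAdd_one]
  apply Subtype.ext
  funext x
  rw [AddSubgroup.coe_nsmul, Pi.smul_apply, two_nsmul, CharTwo.add_self_eq_zero]
  rfl

/-- Elements of order `p` fix only the identity. -/
theorem cusp_fpf {p : ℕ} (hp : Odd p) {u : Matrix.ProjectiveSpecialLinearGroup (Fin 2) F}
    (hu : orderOf u = p) (f : Multiplicative (cuspFun F K p)) (hf : cuspAct F K p u f = f) :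
    f = 1 := by
  apply Multiplicative.toAdd.injective
  apply Subtype.ext
  funext x
  have h1 : ∀ y, f.toAdd.1 (u⁻¹ * y) = f.toAdd.1 y := fun y => by
    conv_rhs => rw [← hf, cuspAct_apply]
  have h2 : ∀ i : ℕ, f.toAdd.1 (u ^ i * x) = f.toAdd.1 x := by
    intro i
    induction i with
    | zero => simp
    | succ i ih =>
      rw [← h1, pow_succ', mul_assoc, inv_mul_cancel_left, ih]
  have h3 := f.toAdd.2 u x hu
  simp only [h2, Finset.sum_const, Finset.card_range, nsmul_eq_mul] at h3
  have hpK : (p : K) = 1 := by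
    obtain ⟨t, ht⟩ := hp
    simp [ht, CharTwo.two_eq_zero]
  rw [hpK, one_mul] at h3
  rw [toAdd_one, ZeroMemClass.coe_zero, Pi.zero_apply]
  exact h3

variable (ψ : AddChar F K) (M N B : F)

/-- One kernel entry. -/
def cuspKer [DecidableEq F] (A : Matrix.SpecialLinearGroup (Fin 2) F) : K :=
  if (A : Matrix (Fin 2) (Fin 2) F) 1 0 = 0 then 0
  else ψ (((A : Matrix (Fin 2) (Fin 2) F) 0 0 * M + (A : Matrix (Fin 2) (Fin 2) F) 1 1 * N - B) /
    (A : Matrix (Fin 2) (Fin 2) F) 1 0)

omit [Fintype F] [CharP K 2] in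
theorem cuspKer_neg [DecidableEq F] (A : Matrix.SpecialLinearGroup (Fin 2) F) :
    cuspKer ψ M N B (-A) = cuspKer ψ M N (-B) A := by
  simp only [cuspKer, Matrix.SpecialLinearGroup.coe_neg, Matrix.neg_apply, neg_eq_zero]
  split_ifs with h
  · rfl
  · congr 1
    field_simp
    ring

/-- The symmetrised kernel on `PSL(2)`. -/
noncomputable def cuspKerPSL [DecidableEq F] :
    Matrix.ProjectiveSpecialLinearGroup (Fin 2) F → K :=
  Quotient.lift (fun A => cuspKer ψ M N B A + cuspKer ψ M N (-B) A) (by
    intro A C h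
    have hm : A⁻¹ * C ∈ Subgroup.center (Matrix.SpecialLinearGroup (Fin 2) F) :=
      QuotientGroup.leftRel_apply.1 h
    rw [Matrix.SpecialLinearGroup.mem_center_iff] at hm
    obtain ⟨r, hr, hA⟩ := hm
    rw [Fintype.card_fin] at hr
    have hC : C = A ∨ C = -A := by
      rcases mul_self_eq_one_iff.1 ((sq r).symm.trans hr) with rfl | rfl
      · left
        have : A⁻¹ * C = 1 := Subtype.ext (by rw [← hA, map_one]; rfl)
        exact (inv_mul_eq_one.1 this).symm
      · right
        have : A⁻¹ * C = -1 := Subtype.ext (by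
          rw [← hA]; ext i j; fin_cases i <;> fin_cases j <;> simp)
        rw [← mul_inv_cancel_left A C, this, mul_neg_one]
    rcases hC with rfl | rfl
    · rfl
    · simp only [cuspKer_neg, neg_neg]
      rw [add_comm])

omit [Fintype F] [CharP K 2] in
theorem cuspKerPSL_mk [DecidableEq F] (A : Matrix.SpecialLinearGroup (Fin 2) F) :
    cuspKerPSL ψ M N B (QuotientGroup.mk A) = cuspKer ψ M N B A + cuspKer ψ M N (-B) A := rfl

variable {ψ} (hψ : ∀ x, ψ x = 1 → x = 0)

include hψ

omit [CharP K 2] in
theorem addChar_sum_zero : ∑ x, ψ x = 0 :=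
  AddChar.sum_eq_zero_of_ne_one fun h => one_ne_zero (hψ 1 (by rw [h]; rfl))

theorem addChar_sum_recip [DecidableEq F] {γ : F} (hγ : γ ≠ 0) :
    ∑ t, (if t = 0 then 0 else ψ (γ / t)) = 1 := by
  have hb : Function.Involutive (fun t : F => γ / t) := fun t => by
    by_cases ht : t = 0
    · simp [ht]
    · field_simp
  have e : ∑ t, (if t = 0 then 0 else ψ (γ / t)) = ∑ t, (if t = 0 then (0 : K) else ψ t) := by
    refine Fintype.sum_equiv hb.toPerm _ _ fun t => ?_
    show _ = if γ / t = 0 then 0 else ψ (γ / t)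
    by_cases ht : t = 0
    · simp [ht]
    · rw [if_neg ht, if_neg (div_ne_zero hγ ht)]
  have h0 := addChar_sum_zero hψ
  rw [← Finset.sum_erase_add _ _ (Finset.mem_univ (0 : F)), AddChar.map_zero_eq_one] at h0
  rw [e, ← Finset.sum_erase_add _ _ (Finset.mem_univ (0 : F)), if_pos rfl, add_zero,
    Finset.sum_congr rfl (fun t ht => if_neg (Finset.ne_of_mem_erase ht))]
  rw [eq_neg_of_add_eq_zero_left h0, CharTwo.neg_eq]

theorem addChar_sum_affine {α β : F} (hβ : β ≠ 0) : ∑ s, ψ (α + s * β) = 0 := by
  rw [← addChar_sum_zero hψ]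
  exact Fintype.sum_equiv ((Equiv.mulRight₀ β hβ).trans (Equiv.addLeft α)) _ _ fun s => rfl

/-- The sum of a symmetrised kernel over a line of `SL(2)` vanishes. -/
theorem cusp_line [DecidableEq F] (hns : ¬ IsSquare (B ^ 2 - 4 * M * N))
    (L : F → Matrix.SpecialLinearGroup (Fin 2) F) {a0 b0 c0 d0 a1 b1 c1 d1 : F}
    (ha : ∀ s, (L s : Matrix (Fin 2) (Fin 2) F) 0 0 = a0 + s * a1)
    (hc : ∀ s, (L s : Matrix (Fin 2) (Fin 2) F) 1 0 = c0 + s * c1)
    (hd : ∀ s, (L s : Matrix (Fin 2) (Fin 2) F) 1 1 = d0 + s * d1)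
    (hdet0 : a0 * d0 - b0 * c0 = 1) (hdet1 : a1 * d1 - b1 * c1 = 0)
    (hdet2 : a0 * d1 + a1 * d0 - b0 * c1 - b1 * c0 = 0)
    (hne : ¬ (a1 = 0 ∧ b1 = 0 ∧ c1 = 0 ∧ d1 = 0)) :
    ∑ s, (cuspKer ψ M N B (L s) + cuspKer ψ M N (-B) (L s)) = 0 := by
  have hM : M ≠ 0 := fun e => hns ⟨B, by rw [e]; ring⟩
  have hN : N ≠ 0 := fun e => hns ⟨B, by rw [e]; ring⟩
  simp only [cuspKer, ha, hc, hd, Finset.sum_add_distrib]
  by_cases hc1 : c1 = 0
  · subst hc1
    by_cases hc0 : c0 = 0
    · simp [hc0]
    simp only [mul_zero, add_zero, if_neg hc0]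
    have hsl : (a1 * M + d1 * N) / c0 ≠ 0 := by
      refine div_ne_zero (fun e => hne ?_) hc0
      rcases mul_eq_zero.1 (show a1 * d1 = 0 by linear_combination hdet1) with h | h
      · subst h
        have h' : d1 = 0 := by
          rcases mul_eq_zero.1 (show d1 * N = 0 by linear_combination e) with h | h
          · exact h
          · exact absurd h hN
        refine ⟨rfl, ?_, rfl, h'⟩
        rcases mul_eq_zero.1 (show b1 * c0 = 0 by rw [h'] at hdet2; linear_combination -hdet2) with h | h
        · exact h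
        · exact absurd h hc0
      · subst h
        have h' : a1 = 0 := by
          rcases mul_eq_zero.1 (show a1 * M = 0 by linear_combination e) with h | h
          · exact h
          · exact absurd h hM
        refine ⟨h', ?_, rfl, rfl⟩
        rcases mul_eq_zero.1 (show b1 * c0 = 0 by rw [h'] at hdet2; linear_combination -hdet2) with h | h
        · exact h
        · exact absurd h hc0
    have key : ∀ β : F, ∑ s, ψ (((a0 + s * a1) * M + (d0 + s * d1) * N - β) / c0) = 0 := fun β => by
      rw [← addChar_sum_affine hψ (α := (a0 * M + d0 * N - β) / c0) hsl]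
      refine Finset.sum_congr rfl fun s _ => ?_
      congr 1
      field_simp
      ring
    rw [key, key, add_zero]
  · set σ := -c0 / c1 with hσ
    have hσc : c0 + σ * c1 = 0 := by rw [hσ]; field_simp; ring
    set a := a0 + σ * a1 with hadef
    set d := d0 + σ * d1 with hddef
    have had : a * d = 1 := by
      rw [hadef, hddef]
      linear_combination hdet0 + σ * hdet2 + σ * σ * hdet1 + (b0 + σ * b1) * hσc
    have key : ∀ β : F, a * M + d * N - β ≠ 0 →
        ∑ s, (if c0 + s * c1 = 0 then 0 else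
          ψ (((a0 + s * a1) * M + (d0 + s * d1) * N - β) / (c0 + s * c1))) =
        ψ ((a1 * M + d1 * N) / c1) := by
      intro β hβ
      rw [← Equiv.sum_comp (Equiv.addLeft σ)]
      rw [← mul_one (ψ ((a1 * M + d1 * N) / c1)),
        ← addChar_sum_recip hψ (div_ne_zero hβ hc1), Finset.mul_sum]
      refine Finset.sum_congr rfl fun t _ => ?_
      have hct : c0 + (Equiv.addLeft σ) t * c1 = t * c1 := by
        rw [Equiv.coe_addLeft]; linear_combination hσc
      by_cases ht : t = 0
      · rw [if_pos ht, mul_zero, if_pos (by rw [hct, ht, zero_mul])]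
      · rw [if_neg ht, if_neg (by rw [hct]; exact mul_ne_zero ht hc1), ← AddChar.map_add_eq_mul]
        congr 1
        rw [hct, Equiv.coe_addLeft]
        rw [hadef, hddef]
        field_simp
        ring
    have hd' : d = a⁻¹ := eq_inv_of_mul_eq_one_right had
    have hroot : ∀ β, β * β = B * B → a * M + d * N - β ≠ 0 := by
      intro β hβ e
      refine hns ⟨2 * M * a - β, ?_⟩
      have ha0 : a ≠ 0 := left_ne_zero_of_mul_eq_one had
      linear_combination (-4 * M * a) * e + 4 * M * N * had - hβ
    rw [key B (hroot B rfl), key (-B) (hroot (-B) (by ring)), CharTwo.add_self_eq_zero]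

/-- The symmetrised kernel lies in `cuspFun`. -/
theorem cuspKerPSL_mem [DecidableEq F] {p : ℕ} [hp : Fact p.Prime] [CharP F p]
    (hcard : Fintype.card F = p) (h2 : (2 : F) ≠ 0) (hns : ¬ IsSquare (B ^ 2 - 4 * M * N)) :
    cuspKerPSL ψ M N B ∈ cuspFun F K p := by
  intro u x hu
  obtain ⟨A0, rfl⟩ := QuotientGroup.mk_surjective u
  obtain ⟨X, rfl⟩ := QuotientGroup.mk_surjective x
  have hp2 : Odd p := hp.out.odd_of_ne_two (by
    rintro rfl; exact h2 CharTwo.two_eq_zero)
  -- a lift of order `p`
  obtain ⟨A, hAu, hAp⟩ : ∃ A : Matrix.SpecialLinearGroup (Fin 2) F,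
      (QuotientGroup.mk A : Matrix.ProjectiveSpecialLinearGroup (Fin 2) F) = QuotientGroup.mk A0 ∧
        A ^ p = 1 := by
    have h := pow_orderOf_eq_one (QuotientGroup.mk A0 : Matrix.ProjectiveSpecialLinearGroup (Fin 2) F)
    rw [hu, psl_pow_eq_one_iff h2] at h
    rcases h with h | h
    · exact ⟨A0, rfl, h⟩
    · refine ⟨-A0, ?_, by rw [hp2.neg_pow, h, neg_neg]⟩
      rw [QuotientGroup.eq, Matrix.SpecialLinearGroup.mem_center_iff]
      refine ⟨-1, by simp, ?_⟩
      rw [show (-A0)⁻¹ * A0 = -1 by rw [show -A0 = A0 * -1 by rw [mul_neg_one], _root_.mul_inv_rev,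
        mul_assoc, inv_mul_cancel, mul_one]; exact inv_eq_of_mul_eq_one_right (by simp)]
      ext i j; fin_cases i <;> fin_cases j <;> simp
  rw [← hAu] at hu ⊢
  set Nn := (A : Matrix (Fin 2) (Fin 2) F) - 1 with hNn
  haveI : CharP (Matrix (Fin 2) (Fin 2) F) p := inferInstance
  have hNp : Nn ^ p = 0 := by
    rw [hNn, sub_pow_char_of_commute p (Commute.one_right _), one_pow,
      ← Matrix.SpecialLinearGroup.coe_pow, hAp, Matrix.SpecialLinearGroup.coe_one, sub_self]
  have hdetN : Nn.det = 0 := by
    have h := congrArg Matrix.det hNp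
    rw [Matrix.det_pow, Matrix.det_zero] at h
    exact pow_eq_zero_iff hp.out.ne_zero |>.1 h
  have hN2 : Nn * Nn = Nn.trace • Nn := by
    rw [det_fin_two] at hdetN
    ext i j
    fin_cases i <;> fin_cases j <;> simp [Matrix.mul_apply, Fin.sum_univ_two, trace_fin_two] <;>
      first | (ring; done) | linear_combination (-1 : F) * hdetN
  have hN0 : Nn ≠ 0 := by
    intro e
    have hA1 : A = 1 := Subtype.ext (by rw [hNn, sub_eq_zero] at e; exact e)
    rw [hA1, QuotientGroup.mk_one, orderOf_one] at hu
    exact hp.out.ne_one hu.symm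
  have htr : Nn.trace = 0 := by
    have hk : ∀ k, Nn ^ (k + 1) = Nn.trace ^ k • Nn := by
      intro k
      induction k with
      | zero => simp
      | succ k ih => rw [pow_succ, ih, smul_mul_assoc, hN2, smul_smul, ← pow_succ]
    have h := hk (p - 1)
    rw [Nat.sub_add_cancel hp.out.one_lt.le, hNp] at h
    rcases smul_eq_zero.1 h.symm with h' | h'
    · exact pow_eq_zero_iff (by have := hp.out.two_le; omega) |>.1 h'
    · exact absurd h' hN0
  have hNN : Nn * Nn = 0 := by rw [hN2, htr, zero_smul]
  have hpow : ∀ i : ℕ, ((A ^ i : Matrix.SpecialLinearGroup (Fin 2) F) : Matrix (Fin 2) (Fin 2) F) =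
      1 + (i : F) • Nn := by
    intro i
    induction i with
    | zero => simp
    | succ i ih =>
      rw [pow_succ, Matrix.SpecialLinearGroup.coe_mul, ih,
        show (A : Matrix (Fin 2) (Fin 2) F) = 1 + Nn by rw [hNn]; abel, add_mul, one_mul, mul_add,
        mul_one, smul_mul_assoc, hNN, smul_zero, add_zero, Nat.cast_succ, add_smul, one_smul]
      abel
  have himg : (Finset.range p).image (fun i : ℕ => (i : F)) = Finset.univ := by
    rw [← Finset.card_eq_iff_eq_univ, Finset.card_image_of_injOn, Finset.card_range, hcard]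
    rw [Finset.coe_range]
    exact CharP.natCast_injOn_Iio F p
  choose idx hidx using fun s : F =>
    (Finset.mem_image.1 (himg ▸ Finset.mem_univ s) : ∃ i ∈ Finset.range p, (i : F) = s)
  let L : F → Matrix.SpecialLinearGroup (Fin 2) F := fun s => A ^ idx s * X
  have hL : ∀ s, (L s : Matrix (Fin 2) (Fin 2) F) = X + s • (Nn * X) := fun s => by
    show ((A ^ _ * X : Matrix.SpecialLinearGroup (Fin 2) F) : Matrix (Fin 2) (Fin 2) F) = _
    rw [Matrix.SpecialLinearGroup.coe_mul, hpow, (hidx s).2, add_mul, one_mul, smul_mul_assoc]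
  have hsum : ∑ i ∈ Finset.range p, cuspKerPSL ψ M N B (QuotientGroup.mk A ^ i * QuotientGroup.mk X) =
      ∑ s, (cuspKer ψ M N B (L s) + cuspKer ψ M N (-B) (L s)) := by
    rw [← himg, Finset.sum_image (fun a ha b hb => CharP.natCast_injOn_Iio F p
      (Finset.mem_range.1 ha) (Finset.mem_range.1 hb))]
    refine Finset.sum_congr rfl fun i hi => ?_
    rw [← QuotientGroup.mk_pow, ← QuotientGroup.mk_mul, cuspKerPSL_mk]
    have e : L (i : F) = A ^ i * X := Subtype.ext (by
      rw [hL, Matrix.SpecialLinearGroup.coe_mul, hpow, add_mul, one_mul, smul_mul_assoc])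
    rw [e]
  rw [hsum]
  have hX := X.det_coe
  rw [det_fin_two] at hX
  rw [det_fin_two] at hdetN
  rw [trace_fin_two] at htr
  refine cusp_line M N B hψ hns L
    (b0 := (X : Matrix (Fin 2) (Fin 2) F) 0 1) (b1 := (Nn * (X : Matrix (Fin 2) (Fin 2) F)) 0 1)
    (fun s => by rw [hL, Matrix.add_apply, Matrix.smul_apply, smul_eq_mul])
    (fun s => by rw [hL, Matrix.add_apply, Matrix.smul_apply, smul_eq_mul])
    (fun s => by rw [hL, Matrix.add_apply, Matrix.smul_apply, smul_eq_mul]) hX ?_ ?_ ?_
  · simp only [Matrix.mul_apply, Fin.sum_univ_two]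
    linear_combination ((X : Matrix (Fin 2) (Fin 2) F) 0 0 * (X : Matrix (Fin 2) (Fin 2) F) 1 1 -
      (X : Matrix (Fin 2) (Fin 2) F) 0 1 * (X : Matrix (Fin 2) (Fin 2) F) 1 0) * hdetN
  · simp only [Matrix.mul_apply, Fin.sum_univ_two]
    linear_combination ((X : Matrix (Fin 2) (Fin 2) F) 0 0 * (X : Matrix (Fin 2) (Fin 2) F) 1 1 -
      (X : Matrix (Fin 2) (Fin 2) F) 0 1 * (X : Matrix (Fin 2) (Fin 2) F) 1 0) * htr
  · rintro ⟨h00, h01, h10, h11⟩
    apply hN0
    have h0 : Nn * (X : Matrix (Fin 2) (Fin 2) F) = 0 := by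
      ext i j; fin_cases i <;> fin_cases j <;> assumption
    have h1 := congrArg (· * ((X⁻¹ : Matrix.SpecialLinearGroup (Fin 2) F) : Matrix (Fin 2) (Fin 2) F)) h0
    simp only [Matrix.mul_assoc, ← Matrix.SpecialLinearGroup.coe_mul, mul_inv_cancel,
      Matrix.SpecialLinearGroup.coe_one, Matrix.mul_one, Matrix.zero_mul] at h1
    exact h1

/-- The sum of one kernel over a torus. -/
theorem cuspKer_torus_sum [DecidableEq F] (h2 : (2 : F) ≠ 0) {ε : F} (hε : ε ≠ 0)
    (hB : (M + N) * (M + N) ≠ B * B) (hA : M + N ≠ 0) (hB0 : B ≠ 0) [Fintype (sl2Torus ε)] :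
    ∑ A : sl2Torus ε, cuspKer ψ M N B (A : Matrix.SpecialLinearGroup (Fin 2) F) =
      ∑ k : F, if k * k = ε * ((M + N) * (M + N)) ∨
        k * k = ε * ((M + N) * (M + N) - B * B) then ψ k else 0 := by
  classical
  set S := M + N with hS
  let a : sl2Torus ε → F := fun A => ((A : Matrix.SpecialLinearGroup (Fin 2) F) : Matrix (Fin 2) (Fin 2) F) 0 0
  let b : sl2Torus ε → F := fun A => ((A : Matrix.SpecialLinearGroup (Fin 2) F) : Matrix (Fin 2) (Fin 2) F) 1 0
  have hterm : ∀ A : sl2Torus ε, cuspKer ψ M N B (A : Matrix.SpecialLinearGroup (Fin 2) F) =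
      if b A = 0 then 0 else ψ ((a A * S - B) / b A) := fun A => by
    simp only [cuspKer, a, b, A.2.1, hS]
    congr 2
    ring
  simp only [hterm]
  rw [Finset.sum_ite, Finset.sum_const_zero, zero_add,
    ← Finset.sum_fiberwise _ (fun A => (a A * S - B) / b A)]
  refine Finset.sum_congr rfl fun k _ => ?_
  rw [Finset.sum_congr rfl (fun A hA' => by rw [(Finset.mem_filter.1 hA').2]), Finset.sum_const,
    nsmul_eq_mul]
  set L := k * k - ε * (S * S) with hL
  set Q : Finset F := Finset.univ.filter fun x => L * x * x + 2 * B * k * x + (B * B - S * S) = 0 with hQ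
  have hcardfib : ((Finset.univ.filter fun A => ¬ b A = 0).filter fun A =>
      (a A * S - B) / b A = k).card = Q.card := by
    refine Finset.card_nbij' b (fun x => if h : (B + k * x) / S * ((B + k * x) / S) - ε * x * x = 1
      then torusMk h else 1) ?_ ?_ ?_ ?_
    · intro A hA'
      simp only [Finset.mem_coe, Finset.mem_filter, Finset.mem_univ, true_and] at hA' ⊢
      obtain ⟨hb0, hk⟩ := hA'
      rw [div_eq_iff hb0] at hk
      have hd := torus_det A
      simp only [hQ, Finset.mem_filter, Finset.mem_univ, true_and, hL]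
      linear_combination (-(a A * S + B + k * b A)) * hk + S * S * hd
    · intro x hx
      simp only [hQ, hL, Finset.mem_coe, Finset.mem_filter, Finset.mem_univ, true_and] at hx ⊢
      have hh : (B + k * x) / S * ((B + k * x) / S) - ε * x * x = 1 := by
        field_simp
        linear_combination hx
      have hx0 : x ≠ 0 := fun e => hB (by rw [e] at hx; linear_combination -hx)
      rw [dif_pos hh]
      refine ⟨by simpa [b, torusMk] using hx0, ?_⟩
      simp only [a, b, torusMk]
      simp
      field_simp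
      ring
    · intro A hA'
      simp only [Finset.mem_coe, Finset.mem_filter, Finset.mem_univ, true_and] at hA'
      obtain ⟨hb0, hk⟩ := hA'
      rw [div_eq_iff hb0] at hk
      have ha' : (B + k * b A) / S = a A := by field_simp; linear_combination -hk
      have hh : (B + k * b A) / S * ((B + k * b A) / S) - ε * b A * b A = 1 := by
        rw [ha']; exact torus_det A
      beta_reduce
      rw [dif_pos hh]
      refine torus_ext ?_ ?_
      · simpa [torusMk] using ha'
      · simp [torusMk, b]
    · intro x hx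
      simp only [hQ, hL, Finset.mem_coe, Finset.mem_filter, Finset.mem_univ, true_and] at hx
      have hh : (B + k * x) / S * ((B + k * x) / S) - ε * x * x = 1 := by
        field_simp
        linear_combination hx
      beta_reduce
      rw [dif_pos hh]
      simp [b, torusMk]
  rw [hcardfib]
  by_cases hL0 : L = 0
  · have hk0 : k ≠ 0 := fun e => by
      rw [hL, e, mul_zero, zero_sub, neg_eq_zero] at hL0
      exact mul_ne_zero hε (mul_ne_zero hA hA) hL0
    have : Q = {(S * S - B * B) / (2 * B * k)} := by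
      ext x
      simp only [hQ, Finset.mem_filter, Finset.mem_univ, true_and, Finset.mem_singleton, hL0,
        eq_div_iff (mul_ne_zero (mul_ne_zero h2 hB0) hk0)]
      constructor <;> intro e <;> linear_combination e
    rw [this, Finset.card_singleton, Nat.cast_one, one_mul, if_pos (Or.inl (sub_eq_zero.1 hL0))]
  · set dd := B * B * (k * k) - L * (B * B - S * S) with hdd
    have hQc : Q.card = (Finset.univ.filter fun y : F => y * y = dd).card := by
      refine Finset.card_equiv ((Equiv.mulLeft₀ L hL0).trans (Equiv.addRight (B * k))) fun x => ?_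
      simp only [hQ, Finset.mem_filter, Finset.mem_univ, true_and, Equiv.trans_apply,
        Equiv.coe_addRight, hdd]
      show _ ↔ (L * x + B * k) * (L * x + B * k) = _
      refine ⟨fun e => by linear_combination L * e, fun e => mul_left_cancel₀ hL0 ?_⟩
      rw [mul_zero]; linear_combination e
    have hddS : dd = S * S * (k * k - ε * (S * S - B * B)) := by rw [hdd, hL]; ring
    have hiff : (k * k = ε * (S * S) ∨ k * k = ε * (S * S - B * B)) ↔ dd = 0 := by
      rw [hddS, mul_eq_zero, sub_eq_zero, or_iff_right (fun e => hL0 (by rw [hL, e, sub_self])),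
        or_iff_right (mul_ne_zero hA hA)]
    rw [hQc]
    by_cases hd0 : dd = 0
    · rw [if_pos (hiff.2 hd0), hd0, show (Finset.univ.filter fun y : F => y * y = 0) = {0} by
        ext y; simp, Finset.card_singleton, Nat.cast_one, one_mul]
    · rw [if_neg (fun h => hd0 (hiff.1 h))]
      by_cases hsq : ∃ y, y * y = dd
      · obtain ⟨y, hy⟩ := hsq
        have hy0 : y ≠ -y := fun e => hd0 (by
          have : 2 * y = 0 := by linear_combination e
          rw [← hy, (mul_eq_zero.1 this).resolve_left h2, mul_zero])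
        rw [show (Finset.univ.filter fun z : F => z * z = dd) = {y, -y} by
          ext z; simp [← hy, mul_self_eq_mul_self_iff], Finset.card_pair hy0, Nat.cast_ofNat,
          CharTwo.two_eq_zero, zero_mul]
      · push_neg at hsq
        rw [Finset.filter_eq_empty_iff.2 (fun z _ => hsq z), Finset.card_empty, Nat.cast_zero,
          zero_mul]

end CfsgLib.Spectrum
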