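import Mathlib
import Cfsg.Agent.Lib.Spectrum.Semidirect

/-!
Groups `(F₃⁴)^k ⋊ (C₅ ⋊ C₈)` with the element orders of `PGL(2, 9)`.
-/

set_option autoImplicit false

namespace CfsgLib.Spectrum.Frob40

open Matrix

/-- Product of row-major `4 × 4` matrices modulo 3. -/
def mulC (A B : List ℕ) : List ℕ :=
  (List.range 16).map fun t =>
    (A.getD (4 * (t / 4)) 0 * B.getD (t % 4) 0 + A.getD (4 * (t / 4) + 1) 0 * B.getD (4 + t % 4) 0 +
     A.getD (4 * (t / 4) + 2) 0 * B.getD (8 + t % 4) 0 + A.getD (4 * (t / 4) + 3) 0 * B.getD (12 + t % 4) 0) % 3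

def oneC : List ℕ := [1,0,0,0,0,1,0,0,0,0,1,0,0,0,0,1]

/-- Multiplication by a tenth root of unity in the field with 81 elements. -/
def aC : List ℕ := [2,0,1,2,1,2,0,1,1,1,2,0,0,1,2,1]

/-- A semilinear map of order 8. -/
def bC : List ℕ := [0,1,1,1,1,0,1,0,0,0,1,2,0,1,2,2]

/-- All 40 elements. -/
def elems : List (List ℕ) :=
  [[1,0,0,0,0,1,0,0,0,0,1,0,0,0,0,1],
   [2,0,1,2,1,2,0,1,1,1,2,0,0,1,2,1],
   [0,1,1,1,1,0,1,0,0,0,1,2,0,1,2,2],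
   [2,0,2,0,1,2,0,2,2,1,2,0,0,2,0,2],
   [0,1,1,2,2,2,2,0,1,1,1,2,1,1,2,0],
   [2,1,1,2,0,1,0,2,1,0,0,2,0,0,2,0],
   [1,1,1,1,0,1,2,0,0,2,2,0,1,2,1,2],
   [0,2,0,1,1,0,2,0,1,1,0,2,2,0,1,1],
   [0,2,1,0,2,0,1,2,1,2,2,0,2,2,0,1],
   [2,2,0,0,2,0,0,0,1,2,1,2,2,1,2,0],
   [1,2,0,0,2,2,0,0,1,0,1,1,1,1,1,2],
   [0,2,2,1,1,1,1,0,2,2,2,1,2,2,1,0],
   [1,1,2,2,1,2,2,1,0,0,2,2,0,0,2,1],
   [1,1,2,1,0,1,1,1,1,0,1,2,2,1,1,0],
   [1,2,2,2,1,0,0,1,2,0,1,1,2,0,2,1],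
   [2,2,2,0,1,2,2,2,0,1,2,2,2,2,0,2],
   [0,2,2,2,2,0,2,0,0,0,2,1,0,2,1,1],
   [2,0,0,2,0,1,1,2,2,1,2,2,2,0,0,1],
   [0,1,2,0,1,0,2,1,2,1,1,0,1,1,0,2],
   [2,2,1,2,0,2,2,2,2,0,2,1,1,2,2,0],
   [2,1,0,1,2,2,1,2,0,2,1,2,1,0,1,1],
   [1,1,0,0,1,0,0,0,2,1,2,1,1,2,1,0],
   [2,1,0,0,1,1,0,0,2,0,2,2,2,2,2,1],
   [1,0,2,0,2,2,1,1,0,2,0,2,0,1,1,0],
   [2,2,1,1,2,1,1,2,0,0,1,1,0,0,1,2],
   [1,2,0,1,1,1,1,1,0,0,0,1,1,2,1,1],
   [0,2,0,0,2,1,0,0,2,2,0,2,0,0,2,2],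
   [2,0,0,0,0,2,0,0,0,0,2,0,0,0,0,2],
   [1,2,2,1,0,2,0,1,2,0,0,1,0,0,1,0],
   [2,2,2,2,0,2,1,0,0,1,1,0,2,1,2,1],
   [0,1,0,0,1,2,0,0,1,1,0,1,0,0,1,1],
   [1,0,0,1,0,2,2,1,1,2,1,1,1,0,0,2],
   [2,1,0,2,2,2,2,2,0,0,0,2,2,1,2,2],
   [2,0,1,0,1,1,2,2,0,1,0,1,0,2,2,0],
   [1,0,2,1,2,1,0,2,2,2,1,0,0,2,1,2],
   [1,2,0,2,1,1,2,1,0,1,2,1,2,0,2,2],
   [0,1,0,2,2,0,1,0,2,2,0,1,1,0,2,2],
   [2,1,1,1,2,0,0,2,1,0,2,2,1,0,1,2],
   [1,0,1,0,2,1,0,1,1,2,1,0,0,1,0,1],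
   [1,1,1,0,2,1,1,1,0,2,1,1,1,1,0,1]]

def powC (A : List ℕ) : ℕ → List ℕ
  | 0 => oneC
  | n + 1 => mulC (powC A n) A

/-- Interpretation of a code. -/
def toMat (A : List ℕ) : Matrix (Fin 4) (Fin 4) (ZMod 3) :=
  Matrix.of fun i j => (A.getD (4 * i.val + j.val) 0 : ZMod 3)

theorem toMat_mul (A B : List ℕ) : toMat (mulC A B) = toMat A * toMat B := by
  ext i j
  fin_cases i <;> fin_cases j <;> simp [toMat, mulC, Matrix.mul_apply, Fin.sum_univ_four]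

theorem toMat_one : toMat oneC = 1 := by
  ext i j; fin_cases i <;> fin_cases j <;> simp [toMat, oneC]

theorem toMat_powC (A : List ℕ) : ∀ n, toMat (powC A n) = toMat A ^ n
  | 0 => by simp [powC, toMat_one]
  | n + 1 => by rw [powC, toMat_mul, toMat_powC A n, pow_succ]

theorem cert : oneC ∈ elems ∧ (∀ A ∈ elems, mulC A aC ∈ elems) ∧ (∀ A ∈ elems, mulC A bC ∈ elems) ∧
    (∀ A ∈ elems, powC A 8 = oneC ∨ powC A 10 = oneC) := by
  decide +kernel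

theorem fpf : ∀ A ∈ elems, A = oneC ∨ ∀ v : Fin 4 → ZMod 3, toMat A *ᵥ v = v → v = 0 := by
  decide +kernel

theorem bC_pow : toMat (powC bC 8) = 1 ∧ ∀ k < 8, 0 < k → toMat (powC bC k) ≠ 1 := by
  decide +kernel

theorem aC_pow : toMat (powC aC 10) = 1 ∧ ∀ k < 10, 0 < k → toMat (powC aC k) ≠ 1 := by
  decide +kernel

def aU : GL (Fin 4) (ZMod 3) :=
  ⟨toMat aC, toMat (powC aC 9), by decide +kernel, by decide +kernel⟩

def bU : GL (Fin 4) (ZMod 3) :=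
  ⟨toMat bC, toMat (powC bC 7), by decide +kernel, by decide +kernel⟩

/-- The group `C₅ ⋊ C₈` of order 40. -/
def K : Subgroup (GL (Fin 4) (ZMod 3)) := Subgroup.closure {aU, bU}

theorem mem_elems {g : GL (Fin 4) (ZMod 3)} (hg : g ∈ K) :
    ∃ A ∈ elems, (g : Matrix (Fin 4) (Fin 4) (ZMod 3)) = toMat A := by
  rw [K, ← Subgroup.mem_toSubmonoid, Subgroup.closure_toSubmonoid_of_finite] at hg
  induction hg using Submonoid.closure_induction_right with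
  | one => exact ⟨oneC, cert.1, by simp [toMat_one]⟩
  | mul_right u _ v hv ih =>
    obtain ⟨A, hA, hA'⟩ := ih
    rcases hv with rfl | rfl
    · exact ⟨_, cert.2.1 A hA, by rw [toMat_mul, Units.val_mul, hA']; rfl⟩
    · exact ⟨_, cert.2.2.1 A hA, by rw [toMat_mul, Units.val_mul, hA']; rfl⟩

theorem orderOf_dvd (g : K) : orderOf g ∣ 8 ∨ orderOf g ∣ 10 := by
  obtain ⟨A, hA, hA'⟩ := mem_elems g.2
  have key : ∀ n, powC A n = oneC → orderOf g ∣ n := fun n h => by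
    rw [← Subgroup.orderOf_coe]
    refine orderOf_dvd_of_pow_eq_one (Units.ext ?_)
    rw [Units.val_pow_eq_pow_val, hA', ← toMat_powC, h, toMat_one, Units.val_one]
  exact (cert.2.2.2 A hA).imp (key 8) (key 10)

/-- The action on `F₃⁴`. -/
def act : K →* MulAut (Multiplicative (Fin 4 → ZMod 3)) where
  toFun g := AddEquiv.toMultiplicative
    { toFun := fun v => ((g : GL (Fin 4) (ZMod 3)) : Matrix (Fin 4) (Fin 4) (ZMod 3)) *ᵥ v
      invFun := fun v => (((g : GL (Fin 4) (ZMod 3))⁻¹ : GL (Fin 4) (ZMod 3)) : Matrix (Fin 4) (Fin 4) (ZMod 3)) *ᵥ v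
      left_inv := fun v => by
        simp only [Matrix.mulVec_mulVec]
        rw [← Units.val_mul, inv_mul_cancel, Units.val_one, one_mulVec]
      right_inv := fun v => by
        simp only [Matrix.mulVec_mulVec]
        rw [← Units.val_mul, mul_inv_cancel, Units.val_one, one_mulVec]
      map_add' := fun v w => Matrix.mulVec_add _ v w }
  map_one' := by
    apply MulEquiv.ext
    intro v
    exact congrArg Multiplicative.ofAdd (one_mulVec v.toAdd)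
  map_mul' g h := by
    apply MulEquiv.ext
    intro v
    show Multiplicative.ofAdd
        ((((g * h : K) : GL (Fin 4) (ZMod 3)) : Matrix (Fin 4) (Fin 4) (ZMod 3)) *ᵥ v.toAdd) =
      Multiplicative.ofAdd (((g : GL (Fin 4) (ZMod 3)) : Matrix (Fin 4) (Fin 4) (ZMod 3)) *ᵥ
        (((h : GL (Fin 4) (ZMod 3)) : Matrix (Fin 4) (Fin 4) (ZMod 3)) *ᵥ v.toAdd))
    rw [Matrix.mulVec_mulVec, Subgroup.coe_mul, Units.val_mul]

theorem act_fpf (g : K) (hg : g ≠ 1) (v : Multiplicative (Fin 4 → ZMod 3)) (hv : act g v = v) :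
    v = 1 := by
  obtain ⟨A, hA, hA'⟩ := mem_elems g.2
  rcases fpf A hA with rfl | h
  · exact absurd (Subtype.ext (Units.ext (by rw [hA', toMat_one]; rfl))) hg
  · have h' : ((g : GL (Fin 4) (ZMod 3)) : Matrix (Fin 4) (Fin 4) (ZMod 3)) *ᵥ v.toAdd = v.toAdd :=
      congrArg Multiplicative.toAdd hv
    rw [hA'] at h'
    exact congrArg Multiplicative.ofAdd (h _ h')

theorem exp_three (v : Multiplicative (Fin 4 → ZMod 3)) : v ^ 3 = 1 :=
  congrArg Multiplicative.ofAdd (funext fun i => ((by decide : ∀ x : ZMod 3, 3 • x = 0) (v.toAdd i)))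

/-- The witness. -/
theorem exists_large_orders (N : ℕ) :
    ∃ (H : Type) (_ : Group H) (_ : Fintype H), N < Fintype.card H ∧
      Set.range (orderOf : H → ℕ) = {d | d ∣ 3 ∨ d ∣ 8 ∨ d ∣ 10} := by
  set S := (Fin (N + 1) → Multiplicative (Fin 4 → ZMod 3)) ⋊[powAct act (N + 1)] K
  haveI : Finite (Multiplicative (Fin 4 → ZMod 3)) := inferInstanceAs (Finite (Fin 4 → ZMod 3))
  haveI : Nontrivial (Multiplicative (Fin 4 → ZMod 3)) := inferInstance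
  have inr_ord : ∀ (u : GL (Fin 4) (ZMod 3)) (_ : u ∈ K) (C : List ℕ) (n : ℕ), 0 < n →
      (u : Matrix (Fin 4) (Fin 4) (ZMod 3)) = toMat C →
      (toMat (powC C n) = 1 ∧ ∀ k < n, 0 < k → toMat (powC C k) ≠ 1) → ∀ d, d ∣ n →
      d ∈ Set.range (orderOf : S → ℕ) := by
    intro u hu C n hn huC hC d hd
    have ho : orderOf (SemidirectProduct.inr ⟨u, hu⟩ : S) = n := by
      rw [orderOf_injective _ SemidirectProduct.inr_injective, Subgroup.orderOf_mk]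
      refine (orderOf_eq_iff hn).2 ⟨Units.ext ?_, fun k hk hk0 hk1 => hC.2 k hk hk0 ?_⟩
      · rw [Units.val_pow_eq_pow_val, huC, ← toMat_powC, hC.1, Units.val_one]
      · rw [toMat_powC, ← huC, ← Units.val_pow_eq_pow_val, hk1, Units.val_one]
    refine ⟨(SemidirectProduct.inr ⟨u, hu⟩ : S) ^ (n / d), ?_⟩
    conv_lhs => rw [← ho]
    rw [orderOf_pow_orderOf_div (by omega) (by rw [ho]; exact hd)]
  have hspec : Set.range (orderOf : S → ℕ) = {d | d ∣ 3 ∨ d ∣ 8 ∨ d ∣ 10} := by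
    ext d
    constructor
    · rintro ⟨x, rfl⟩
      by_cases hx : x.right = 1
      · rcases orderOf_pow_cases Nat.prime_three exp_three x with h | ⟨h, -⟩ <;>
          rw [hx, orderOf_one] at h <;> exact Or.inl (by simp [h])
      · have h := orderOf_eq_of_fixedPointFree x (pow_fixedPointFree (act_fpf _ hx))
        rw [Set.mem_setOf_eq, h]
        exact Or.inr (orderOf_dvd _)
    · rintro (hd | hd | hd)
      · rcases (Nat.dvd_prime Nat.prime_three).1 hd with rfl | rfl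
        · exact ⟨1, orderOf_one⟩
        · haveI : Fact (Nat.Prime 3) := ⟨Nat.prime_three⟩
          obtain ⟨v, hv⟩ := exists_ne (1 : Multiplicative (Fin 4 → ZMod 3))
          refine ⟨SemidirectProduct.inl (fun _ => v), ?_⟩
          rw [orderOf_injective _ SemidirectProduct.inl_injective]
          exact orderOf_eq_prime (funext fun _ => exp_three v) fun e => hv (congrFun e 0)
      · exact inr_ord bU (Subgroup.subset_closure (by simp)) bC 8 (by norm_num) rfl bC_pow d hd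
      · exact inr_ord aU (Subgroup.subset_closure (by simp)) aC 10 (by norm_num) rfl aC_pow d hd
  obtain ⟨H, i1, i2, ⟨e⟩⟩ := exists_small_equiv S
  refine ⟨H, i1, i2, ?_, ?_⟩
  · rw [← Nat.card_eq_fintype_card, Nat.card_congr e.toEquiv]
    exact (Nat.lt_succ_self N).trans (lt_card_pow_semidirect (φ := act) (N + 1))
  · rw [range_orderOf_congr e, hspec]

end CfsgLib.Spectrum.Frob40
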