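import Mathlib
import Cfsg.Agent.Lib.Spectrum.Semidirect
import Cfsg.Agent.Lib.Spectrum.Suzuki
import Cfsg.Agent.Lib.Solvable.BurnsideHall

/-!
The binary octahedral group as a fixed-point-free subgroup of `GL(4, 13)`, by a certificate, and the
solvable group `13^4 : 2O` with element orders 1, 2, 3, 4, 6, 8, 13.
-/

set_option autoImplicit false

namespace CfsgLib.Spectrum.O48

open Matrix

local instance fact13 : Fact (Nat.Prime 13) := ⟨by norm_num⟩

/-- Product of row-major `4 × 4` matrices modulo 13. -/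
def mulC (A B : List ℕ) : List ℕ :=
  (List.range 16).map fun t =>
    (A.getD (4 * (t / 4)) 0 * B.getD (t % 4) 0 + A.getD (4 * (t / 4) + 1) 0 * B.getD (4 + t % 4) 0 +
     A.getD (4 * (t / 4) + 2) 0 * B.getD (8 + t % 4) 0 + A.getD (4 * (t / 4) + 3) 0 * B.getD (12 + t % 4) 0) % 13

def addC (A B : List ℕ) : List ℕ :=
  (List.range 16).map fun t => (A.getD t 0 + B.getD t 0) % 13

def oneC : List ℕ := [1,0,0,0,0,1,0,0,0,0,1,0,0,0,0,1]

def negOneC : List ℕ := [12,0,0,0,0,12,0,0,0,0,12,0,0,0,0,12]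

def zeroC : List ℕ := [0,0,0,0,0,0,0,0,0,0,0,0,0,0,0,0]

/-- An element of order 8. -/
def xC : List ℕ := [0,6,0,0,3,0,0,0,0,0,0,9,0,0,11,0]

/-- An element of order 6. -/
def yC : List ℕ := [3,0,3,0,0,3,0,3,2,0,11,0,0,2,0,11]

/-- All 48 elements. -/
def elems : List (List ℕ) :=
  [[1,0,0,0,0,1,0,0,0,0,1,0,0,0,0,1],
   [0,6,0,0,3,0,0,0,0,0,0,9,0,0,11,0],
   [3,0,3,0,0,3,0,3,2,0,11,0,0,2,0,11],
   [5,0,0,0,0,5,0,0,0,0,8,0,0,0,0,8],
   [0,5,0,5,9,0,9,0,0,5,0,8,9,0,4,0],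
   [0,5,0,1,9,0,7,0,0,12,0,8,6,0,4,0],
   [2,0,3,0,0,2,0,3,2,0,10,0,0,2,0,10],
   [0,4,0,0,2,0,0,0,0,0,0,7,0,0,10,0],
   [2,0,2,0,0,2,0,2,3,0,10,0,0,3,0,10],
   [0,12,0,5,6,0,9,0,0,5,0,12,9,0,6,0],
   [2,0,11,0,0,2,0,11,10,0,10,0,0,10,0,10],
   [0,12,0,1,6,0,7,0,0,12,0,12,6,0,6,0],
   [12,0,0,0,0,12,0,0,0,0,12,0,0,0,0,12],
   [0,12,0,12,6,0,6,0,0,1,0,12,7,0,6,0],
   [10,0,2,0,0,10,0,2,3,0,2,0,0,3,0,2],
   [10,0,3,0,0,10,0,3,2,0,2,0,0,2,0,2],
   [0,7,0,0,10,0,0,0,0,0,0,4,0,0,2,0],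
   [0,12,0,8,6,0,4,0,0,8,0,12,4,0,6,0],
   [2,0,10,0,0,2,0,10,11,0,10,0,0,11,0,10],
   [10,0,11,0,0,10,0,11,10,0,2,0,0,10,0,2],
   [10,0,10,0,0,10,0,10,11,0,2,0,0,11,0,2],
   [0,8,0,12,4,0,6,0,0,1,0,5,7,0,9,0],
   [0,8,0,5,4,0,9,0,0,5,0,5,9,0,9,0],
   [8,0,0,0,0,8,0,0,0,0,5,0,0,0,0,5],
   [0,8,0,1,4,0,7,0,0,12,0,5,6,0,9,0],
   [0,8,0,8,4,0,4,0,0,8,0,5,4,0,9,0],
   [0,0,0,7,0,0,10,0,0,9,0,0,11,0,0,0],
   [0,0,12,0,0,0,0,12,1,0,0,0,0,1,0,0],
   [0,0,8,0,0,0,0,8,8,0,0,0,0,8,0,0],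
   [11,0,10,0,0,11,0,10,11,0,3,0,0,11,0,3],
   [11,0,2,0,0,11,0,2,3,0,3,0,0,3,0,3],
   [0,9,0,0,11,0,0,0,0,0,0,6,0,0,3,0],
   [11,0,3,0,0,11,0,3,2,0,3,0,0,2,0,3],
   [11,0,11,0,0,11,0,11,10,0,3,0,0,10,0,3],
   [0,0,0,9,0,0,11,0,0,7,0,0,10,0,0,0],
   [0,1,0,8,7,0,4,0,0,8,0,1,4,0,7,0],
   [0,1,0,12,7,0,6,0,0,1,0,1,7,0,7,0],
   [0,0,0,4,0,0,2,0,0,6,0,0,3,0,0,0],
   [3,0,10,0,0,3,0,10,11,0,11,0,0,11,0,11],
   [0,1,0,5,7,0,9,0,0,5,0,1,9,0,7,0],
   [0,1,0,1,7,0,7,0,0,12,0,1,6,0,7,0],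
   [0,0,1,0,0,0,0,1,12,0,0,0,0,12,0,0],
   [3,0,11,0,0,3,0,11,10,0,11,0,0,10,0,11],
   [0,5,0,8,9,0,4,0,0,8,0,8,4,0,4,0],
   [3,0,2,0,0,3,0,2,3,0,11,0,0,3,0,11],
   [0,0,5,0,0,0,0,5,5,0,0,0,0,5,0,0],
   [0,5,0,12,9,0,6,0,0,1,0,8,7,0,4,0],
   [0,0,0,6,0,0,3,0,0,4,0,0,2,0,0,0]]

def powC (A : List ℕ) : ℕ → List ℕ
  | 0 => oneC
  | n + 1 => mulC (powC A n) A

/-- Conditions on one element. -/
def okElem (A : List ℕ) : Bool :=
  let A2 := mulC A A
  let A3 := mulC A2 A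
  let A4 := mulC A2 A2
  (mulC A4 A4 == oneC || mulC A3 A3 == oneC) &&
  (A == oneC || A == negOneC || A2 != oneC) &&
  (A == oneC || A3 != oneC || addC (addC oneC A) A2 == zeroC)

theorem cert : oneC ∈ elems ∧ (∀ A ∈ elems, mulC A xC ∈ elems) ∧ (∀ A ∈ elems, mulC A yC ∈ elems) ∧
    (∀ A ∈ elems, okElem A = true) := by
  decide +kernel

/-- Interpretation of a code. -/
def toMat (A : List ℕ) : Matrix (Fin 4) (Fin 4) (ZMod 13) :=
  Matrix.of fun i j => (A.getD (4 * i.val + j.val) 0 : ZMod 13)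

theorem toMat_mul (A B : List ℕ) : toMat (mulC A B) = toMat A * toMat B := by
  ext i j
  fin_cases i <;> fin_cases j <;> simp [toMat, mulC, Matrix.mul_apply, Fin.sum_univ_four]

theorem toMat_add (A B : List ℕ) : toMat (addC A B) = toMat A + toMat B := by
  ext i j
  fin_cases i <;> fin_cases j <;> simp [toMat, addC]

theorem toMat_one : toMat oneC = 1 := by
  ext i j; fin_cases i <;> fin_cases j <;> simp [toMat, oneC]

theorem toMat_negOne : toMat negOneC = -1 := by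
  ext i j; fin_cases i <;> fin_cases j <;> simp [toMat, negOneC] <;> decide

theorem toMat_zero : toMat zeroC = 0 := by
  ext i j; fin_cases i <;> fin_cases j <;> simp [toMat, zeroC]

theorem toMat_powC (A : List ℕ) : ∀ n, toMat (powC A n) = toMat A ^ n
  | 0 => by simp [powC, toMat_one]
  | n + 1 => by rw [powC, toMat_mul, toMat_powC A n, pow_succ]

theorem eq_oneC_of_toMat {A B : List ℕ} (h : toMat (mulC A B) = 1) : mulC A B = oneC := by
  have hlen : (mulC A B).length = oneC.length := by simp [mulC, oneC]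
  refine List.ext_getElem hlen fun t h1 h2 => ?_
  have ht : t < 16 := by simpa [oneC] using h2
  rw [← toMat_one] at h
  have h' := congrFun (congrFun h ⟨t / 4, by omega⟩) ⟨t % 4, by omega⟩
  simp only [toMat, Matrix.of_apply, Nat.div_add_mod, List.getD_eq_getElem _ _ h1,
    List.getD_eq_getElem _ _ h2] at h'
  rw [ZMod.natCast_eq_natCast_iff'] at h'
  have e1 : (mulC A B)[t] % 13 = (mulC A B)[t] := Nat.mod_eq_of_lt (by simp [mulC]; omega)
  have e2 : oneC[t] % 13 = oneC[t] := by interval_cases t <;> rfl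
  omega

theorem xC_pow : toMat (powC xC 8) = 1 ∧ ∀ k < 8, 0 < k → toMat (powC xC k) ≠ 1 := by
  decide +kernel

theorem yC_pow : toMat (powC yC 6) = 1 ∧ ∀ k < 6, 0 < k → toMat (powC yC k) ≠ 1 := by
  decide +kernel

def xU : GL (Fin 4) (ZMod 13) :=
  ⟨toMat xC, toMat (powC xC 7), by decide +kernel, by decide +kernel⟩

def yU : GL (Fin 4) (ZMod 13) :=
  ⟨toMat yC, toMat (powC yC 5), by decide +kernel, by decide +kernel⟩

/-- The binary octahedral group. -/
def K : Subgroup (GL (Fin 4) (ZMod 13)) := Subgroup.closure {xU, yU}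

/-- The matrix of an element of `K`. -/
def mat (g : K) : Matrix (Fin 4) (Fin 4) (ZMod 13) := ((g : GL (Fin 4) (ZMod 13)) : Matrix _ _ _)

theorem mat_pow (g : K) (n : ℕ) : mat (g ^ n) = mat g ^ n := by simp [mat]

theorem eq_one_iff (g : K) : g = 1 ↔ mat g = 1 := by
  constructor
  · rintro rfl; simp [mat]
  · intro h; exact Subtype.ext (Units.ext h)

theorem mem_elems {g : GL (Fin 4) (ZMod 13)} (hg : g ∈ K) :
    ∃ A ∈ elems, (g : Matrix (Fin 4) (Fin 4) (ZMod 13)) = toMat A := by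
  rw [K, ← Subgroup.mem_toSubmonoid, Subgroup.closure_toSubmonoid_of_finite] at hg
  induction hg using Submonoid.closure_induction_right with
  | one => exact ⟨oneC, cert.1, by simp [toMat_one]⟩
  | mul_right u _ v hv ih =>
    obtain ⟨A, hA, hA'⟩ := ih
    rcases hv with rfl | rfl
    · exact ⟨_, cert.2.1 A hA, by rw [toMat_mul, Units.val_mul, hA']; rfl⟩
    · exact ⟨_, cert.2.2.1 A hA, by rw [toMat_mul, Units.val_mul, hA']; rfl⟩

theorem elem_facts (g : K) :
    (g ^ 8 = 1 ∨ g ^ 6 = 1) ∧ (g ^ 2 = 1 → g = 1 ∨ mat g = -1) ∧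
    (g ^ 3 = 1 → g = 1 ∨ 1 + mat g + mat g ^ 2 = 0) := by
  obtain ⟨A, hA, hA'⟩ := mem_elems g.2
  have hA' : mat g = toMat A := hA'
  have h := cert.2.2.2 A hA
  simp only [okElem, Bool.and_eq_true, Bool.or_eq_true, beq_iff_eq, bne_iff_ne] at h
  obtain ⟨⟨ho, hsq⟩, hcu⟩ := h
  have h1' : A = oneC → g = 1 := fun h => (eq_one_iff g).2 (by rw [hA', h, toMat_one])
  have h2 : mat g ^ 2 = toMat (mulC A A) := by rw [toMat_mul, sq, hA']
  have h3 : mat g ^ 3 = toMat (mulC (mulC A A) A) := by rw [toMat_mul, ← h2, ← hA', ← pow_succ]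
  have h4 : mat g ^ 4 = toMat (mulC (mulC A A) (mulC A A)) := by rw [toMat_mul, ← h2, ← pow_add]
  refine ⟨?_, fun hg => ?_, fun hg => ?_⟩
  · rcases ho with h | h
    · refine Or.inl ((eq_one_iff _).2 ?_)
      rw [mat_pow, show 8 = 4 + 4 from rfl, pow_add, h4, ← toMat_mul, h, toMat_one]
    · refine Or.inr ((eq_one_iff _).2 ?_)
      rw [mat_pow, show 6 = 3 + 3 from rfl, pow_add, h3, ← toMat_mul, h, toMat_one]
  · rw [eq_one_iff, mat_pow, h2] at hg
    rcases hsq with (h | h) | h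
    · exact Or.inl (h1' h)
    · right; rw [hA', h, toMat_negOne]
    · exact absurd (eq_oneC_of_toMat hg) h
  · rw [eq_one_iff, mat_pow, h3] at hg
    rcases hcu with (h | h) | h
    · exact Or.inl (h1' h)
    · exact absurd (eq_oneC_of_toMat hg) h
    · right
      rw [h2, hA', ← toMat_one, ← toMat_add, ← toMat_add, h, toMat_zero]

theorem orderOf_mem (g : K) : orderOf g ∈ ({1, 2, 3, 4, 6, 8} : Finset ℕ) := by
  have key : ∀ n ∈ [8, 6], ∀ d < 9, d ∣ n → d ∈ ({1, 2, 3, 4, 6, 8} : Finset ℕ) := by decide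
  rcases (elem_facts g).1 with h | h
  · have hd := orderOf_dvd_of_pow_eq_one h
    exact key 8 (by simp) _ (Nat.lt_succ_of_le (Nat.le_of_dvd (by norm_num) hd)) hd
  · have hd := orderOf_dvd_of_pow_eq_one h
    exact key 6 (by simp) _ (lt_of_le_of_lt (Nat.le_of_dvd (by norm_num) hd) (by norm_num)) hd

theorem exists_orders : ∀ d ∈ ({1, 2, 3, 4, 6, 8} : Finset ℕ), ∃ g : K, orderOf g = d := by
  have hx : xU ∈ K := Subgroup.subset_closure (by simp)
  have hy : yU ∈ K := Subgroup.subset_closure (by simp)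
  have ord : ∀ (u : GL (Fin 4) (ZMod 13)) (_ : u ∈ K) (C : List ℕ) (n : ℕ), 0 < n →
      (u : Matrix (Fin 4) (Fin 4) (ZMod 13)) = toMat C →
      (toMat (powC C n) = 1 ∧ ∀ k < n, 0 < k → toMat (powC C k) ≠ 1) → ∀ e, e ∣ n →
      ∃ g : K, orderOf g = e := by
    intro u hu C n hn huC hC e he
    have ho : orderOf (⟨u, hu⟩ : K) = n := by
      rw [Subgroup.orderOf_mk]
      refine (orderOf_eq_iff hn).2 ⟨Units.ext ?_, fun k hk hk0 hk1 => hC.2 k hk hk0 ?_⟩
      · rw [Units.val_pow_eq_pow_val, huC, ← toMat_powC, hC.1, Units.val_one]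
      · rw [toMat_powC, ← huC, ← Units.val_pow_eq_pow_val, hk1, Units.val_one]
    refine ⟨(⟨u, hu⟩ : K) ^ (n / e), ?_⟩
    conv_lhs => rw [← ho]
    rw [orderOf_pow_orderOf_div (by omega) (by rw [ho]; exact he)]
  have ox := ord xU hx xC 8 (by norm_num) rfl xC_pow
  have oy := ord yU hy yC 6 (by norm_num) rfl yC_pow
  intro d hd
  simp only [Finset.mem_insert, Finset.mem_singleton] at hd
  rcases hd with rfl | rfl | rfl | rfl | rfl | rfl
  · exact ox 1 (by norm_num)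
  · exact ox 2 (by norm_num)
  · exact oy 3 (by norm_num)
  · exact ox 4 (by norm_num)
  · exact oy 6 (by norm_num)
  · exact ox 8 (by norm_num)

theorem fixed_eq_zero {g : K} (hg : g ≠ 1) {v : Fin 4 → ZMod 13} (hv : mat g *ᵥ v = v) : v = 0 := by
  set r := (orderOf g).minFac with hr
  have hne : orderOf g ≠ 1 := fun h => hg (orderOf_eq_one_iff.1 h)
  have hrp : r.Prime := Nat.minFac_prime hne
  have hrd : r ∣ orderOf g := Nat.minFac_dvd _
  set h := g ^ (orderOf g / r) with hh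
  have hho : orderOf h = r := orderOf_pow_orderOf_div (orderOf_pos g).ne' hrd
  have hh1 : h ≠ 1 := fun e => hrp.ne_one (by rw [← hho, e, orderOf_one])
  have hhr : h ^ r = 1 := hho ▸ pow_orderOf_eq_one h
  have hMv : mat h *ᵥ v = v := by
    rw [hh, mat_pow]
    generalize orderOf g / r = n
    induction n with
    | zero => simp
    | succ n ih => rw [pow_succ', ← Matrix.mulVec_mulVec, ih, hv]
  have hr23 : r = 2 ∨ r = 3 := by
    have hm := orderOf_mem g
    simp only [Finset.mem_insert, Finset.mem_singleton] at hm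
    rcases hm with e | e | e | e | e | e <;> rw [hr, e] <;> norm_num
    exact absurd e hne
  have key : ∀ a : ZMod 13, (-a = a → a = 0) ∧ (a + a + a = 0 → a = 0) := by decide
  rcases hr23 with e | e <;> rw [e] at hhr
  · have h' := ((elem_facts h).2.1 hhr).resolve_left hh1
    rw [h', neg_mulVec, one_mulVec] at hMv
    exact funext fun i => (key (v i)).1 (congrFun hMv i)
  · have h' := ((elem_facts h).2.2 hhr).resolve_left hh1
    have h2 : mat h ^ 2 *ᵥ v = v := by rw [sq, ← Matrix.mulVec_mulVec, hMv, hMv]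
    have hs := congrArg (· *ᵥ v) h'
    simp only [add_mulVec, one_mulVec, hMv, h2, zero_mulVec] at hs
    exact funext fun i => (key (v i)).2 (congrFun hs i)

theorem isSolvable_K : Group.IsSolvable K := by
  refine CfsgLib.Solvable.isSolvable_of_primeFactors_card_le_two ?_
  refine le_trans (Finset.card_le_card (t := {2, 3}) fun p hp => ?_) (by decide)
  rw [Nat.mem_primeFactors] at hp
  haveI := Fact.mk hp.1
  obtain ⟨g, hg⟩ := exists_prime_orderOf_dvd_card' p hp.2.1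
  have hm := orderOf_mem g
  rw [hg] at hm
  simp only [Finset.mem_insert, Finset.mem_singleton] at hm ⊢
  rcases hm with e | e | e | e | e | e <;> subst e <;> first | (norm_num at hp; done) | decide

/-- The natural module. -/
abbrev M := Multiplicative (Fin 4 → ZMod 13)

/-- The witness `13^4 : 2O`. -/
abbrev W := M ⋊[glVecAct K] K

theorem range_orderOf_W : Set.range (orderOf : W → ℕ) = {1, 2, 3, 4, 6, 8, 13} := by
  have hfpf : ∀ g : K, g ≠ 1 → ∀ v : M, glVecAct K g v = v → v = 1 := by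
    intro g hg v hv
    apply Multiplicative.toAdd.injective
    refine fixed_eq_zero hg ?_
    exact (glVecAct_apply g v).symm.trans (congrArg Multiplicative.toAdd hv)
  have hexp : ∀ v : M, v ^ 13 = 1 := fun v => by
    apply Multiplicative.toAdd.injective
    rw [toAdd_pow, toAdd_one]
    funext i
    simp only [Pi.smul_apply, nsmul_eq_mul, Pi.zero_apply]
    rw [show ((13 : ℕ) : ZMod 13) = 0 from rfl, zero_mul]
  ext d
  constructor
  · rintro ⟨x, rfl⟩
    by_cases hx : x.right = 1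
    · have hx' : x = SemidirectProduct.inl x.left := by ext <;> simp [hx]
      rw [hx', orderOf_injective _ SemidirectProduct.inl_injective]
      rcases (Nat.dvd_prime (by norm_num : Nat.Prime 13)).1 (orderOf_dvd_of_pow_eq_one (hexp x.left)) with h | h <;>
        simp [h]
    · rw [orderOf_eq_of_fixedPointFree x (hfpf _ hx)]
      have := orderOf_mem x.right
      simp only [Finset.mem_insert, Finset.mem_singleton] at this
      simp only [Set.mem_insert_iff, Set.mem_singleton_iff]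
      omega
  · intro hd
    by_cases h13 : d = 13
    · subst h13
      refine ⟨SemidirectProduct.inl (Multiplicative.ofAdd ![1, 0, 0, 0]), ?_⟩
      rw [orderOf_injective _ SemidirectProduct.inl_injective]
      haveI := Fact.mk (by norm_num : Nat.Prime 13)
      exact orderOf_eq_prime (hexp _) (by decide)
    · obtain ⟨g, hg⟩ := exists_orders d (by
        simp only [Set.mem_insert_iff, Set.mem_singleton_iff] at hd
        simp only [Finset.mem_insert, Finset.mem_singleton]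
        omega)
      exact ⟨SemidirectProduct.inr g, by rw [orderOf_injective _ SemidirectProduct.inr_injective, hg]⟩

theorem isSolvable_W : Group.IsSolvable W := by
  haveI := isSolvable_K
  exact Group.isSolvable_of_ker_le_range (SemidirectProduct.inl : M →* W) SemidirectProduct.rightHom
    (le_of_eq SemidirectProduct.range_inl_eq_ker_rightHom.symm)

end CfsgLib.Spectrum.O48
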