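import Mathlib
import Cfsg.Agent.Lib.Spectrum.CuspModule

/-!
For a prime `p ≥ 5` there are arbitrarily large groups with the element orders of `PGL(2, p)`.
-/

set_option autoImplicit false

namespace CfsgLib.Spectrum

open Matrix

variable {F : Type*} [Field F] [Fintype F]

theorem isSquare_mul_of_not (h2 : (2 : F) ≠ 0) {a b : F} (ha : ¬ IsSquare a) (hb : ¬ IsSquare b) :
    IsSquare (a * b) := by
  have hc : ringChar F ≠ 2 := fun e => h2 (by haveI := ringChar.of_eq e; exact CharTwo.two_eq_zero)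
  have ha0 : a ≠ 0 := fun e => ha (e ▸ IsSquare.zero)
  have hb0 : b ≠ 0 := fun e => hb (e ▸ IsSquare.zero)
  rw [FiniteField.isSquare_iff hc (mul_ne_zero ha0 hb0), mul_pow,
    (FiniteField.pow_dichotomy hc ha0).resolve_left (fun e => ha ((FiniteField.isSquare_iff hc ha0).2 e)),
    (FiniteField.pow_dichotomy hc hb0).resolve_left (fun e => hb ((FiniteField.isSquare_iff hc hb0).2 e))]
  ring

theorem exists_sq_sub_not_square {p : ℕ} [Fact p.Prime] [CharP F p] {X : F} (hX : ¬ IsSquare X) :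
    ∃ D : F, ¬ IsSquare (D * D - X) := by
  by_contra h
  push_neg at h
  have hn : ∀ n : ℕ, IsSquare (-(n : F) * X) := by
    intro n
    induction n with
    | zero => simp
    | succ n ih =>
      obtain ⟨D, hD⟩ := ih
      convert h D using 1
      rw [← hD]; push_cast; ring
  apply hX
  have h1 := hn (p - 1)
  have hp : ((p - 1 : ℕ) : F) = -1 := by
    rw [Nat.cast_sub (Fact.out : p.Prime).one_lt.le, CharP.cast_eq_zero, Nat.cast_one, zero_sub]
  rwa [hp, neg_neg, one_mul] at h1

theorem exists_cusp_params (h2 : (2 : F) ≠ 0) (h3 : (3 : F) ≠ 0) {p : ℕ} [Fact p.Prime] [CharP F p] :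
    ∃ M N B : F, ¬ IsSquare (B ^ 2 - 4 * M * N) ∧ M + N ≠ 0 ∧ B ≠ 0 ∧
      ¬ IsSquare ((M + N) * (M + N) - B * B) := by
  obtain ⟨X, hX⟩ := exists_nonsquare' h2
  obtain ⟨D, hD⟩ := exists_sq_sub_not_square (p := p) hX
  obtain ⟨s, hs0, hs⟩ : ∃ s : F, s ≠ 0 ∧ X + s * s ≠ 0 := by
    by_cases h : X + 1 * 1 = 0
    · exact ⟨2, h2, fun e => h3 (by linear_combination e - h)⟩
    · exact ⟨1, one_ne_zero, h⟩
  have e4 : (4 : F) ≠ 0 := by
    rw [show (4 : F) = 2 * 2 by norm_num]; exact mul_ne_zero h2 h2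
  refine ⟨((X / s + s) / 2 + D) / 2, ((X / s + s) / 2 - D) / 2, (X / s - s) / 2, ?_, ?_, ?_, ?_⟩
  · convert hD using 2
    field_simp
    ring
  · rw [show ((X / s + s) / 2 + D) / 2 + ((X / s + s) / 2 - D) / 2 = (X + s * s) / (2 * s) by
      field_simp; ring]
    exact div_ne_zero hs (mul_ne_zero h2 hs0)
  · intro e
    apply hX
    refine ⟨s, ?_⟩
    field_simp at e
    linear_combination e
  · convert hX using 2
    field_simp
    ring

theorem exists_addChar (p : ℕ) [hp : Fact p.Prime] (hcard : Fintype.card F = p) (hp2 : p ≠ 2) :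
    ∃ ψ : AddChar F (GaloisField 2 (p - 1)), ∀ x, ψ x = 1 → x = 0 := by
  have h1 : 1 ≤ p - 1 := by have := hp.out.two_le; omega
  haveI : Finite (GaloisField 2 (p - 1)) := inferInstance
  have hd : p ∣ 2 ^ (p - 1) - 1 := by
    rw [← Nat.modEq_iff_dvd' (Nat.one_le_two_pow)]
    have h := Nat.ModEq.pow_totient (x := 2) (n := p) ((Nat.coprime_primes Nat.prime_two hp.out).2 hp2.symm)
    rw [Nat.totient_prime hp.out] at h
    exact h.symm
  have hu : p ∣ Nat.card (GaloisField 2 (p - 1))ˣ := by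
    rw [Nat.card_units, GaloisField.card 2 (p - 1) (by omega)]
    exact hd
  obtain ⟨ζ, hζ⟩ := exists_prime_orderOf_dvd_card' p hu
  have hζ' : orderOf (ζ : GaloisField 2 (p - 1)) = p := by rw [orderOf_units, hζ]
  haveI : NeZero p := ⟨hp.out.ne_zero⟩
  haveI : CharP F p := charP_of_card_eq_prime hcard
  let e : ZMod p ≃+* F := RingEquiv.ofBijective _ (ZMod.castHom_bijective F hcard)
  have hz : (ζ : GaloisField 2 (p - 1)) ^ p = 1 :=
    (congrArg (fun n => (ζ : GaloisField 2 (p - 1)) ^ n) hζ').symm.trans (pow_orderOf_eq_one _)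
  refine ⟨(AddChar.zmodChar p hz).compAddMonoidHom
    e.symm.toAddMonoidHom, fun x hx => ?_⟩
  change AddChar.zmodChar p hz (e.symm x) = 1 at hx
  rw [AddChar.zmodChar_apply] at hx
  have hdv := orderOf_dvd_of_pow_eq_one hx
  rw [hζ'] at hdv
  have : (e.symm x).val = 0 := Nat.eq_zero_of_dvd_of_lt hdv (ZMod.val_lt _)
  rw [ZMod.val_eq_zero] at this
  exact e.symm.injective (by rw [this, map_zero])

variable {K : Type*} [Field K] [CharP K 2]

/-- The norm over a torus generator of the symmetrised kernel is non-zero. -/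
theorem cusp_norm_ne_zero [DecidableEq F] (h2 : (2 : F) ≠ 0) {ψ : AddChar F K}
    (hψ : ∀ x, ψ x = 1 → x = 0) {M N B : F} (hA : M + N ≠ 0) (hB : B ≠ 0)
    (hX : ¬ IsSquare ((M + N) * (M + N) - B * B)) {ε : F} (hε : ε = 1 ∨ ¬ IsSquare ε)
    (u : sl2Torus ε) (hu : ∀ A, A ∈ Subgroup.zpowers u) {m : ℕ} (hm : orderOf u = 2 * m)
    (hum : (u : Matrix.SpecialLinearGroup (Fin 2) F) ^ m = -1) :
    ∑ i ∈ Finset.range m, cuspKerPSL ψ M N B
      ((QuotientGroup.mk (u : Matrix.SpecialLinearGroup (Fin 2) F) :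
        Matrix.ProjectiveSpecialLinearGroup (Fin 2) F) ^ i) ≠ 0 := by
  classical
  haveI := Fintype.ofFinite (sl2Torus ε)
  have hε0 : ε ≠ 0 := by
    rintro rfl
    rcases hε with h | h
    · exact zero_ne_one h
    · exact h IsSquare.zero
  have hSB : (M + N) * (M + N) ≠ B * B := fun e => hX (by rw [e, sub_self]; exact IsSquare.zero)
  have hsum : ∑ i ∈ Finset.range m, cuspKerPSL ψ M N B
      ((QuotientGroup.mk (u : Matrix.SpecialLinearGroup (Fin 2) F) :
        Matrix.ProjectiveSpecialLinearGroup (Fin 2) F) ^ i) =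
      ∑ A : sl2Torus ε, cuspKer ψ M N B (A : Matrix.SpecialLinearGroup (Fin 2) F) := by
    have himg : (Finset.range (2 * m)).image (fun i => u ^ i) = Finset.univ := by
      rw [← Finset.card_eq_iff_eq_univ, Finset.card_image_of_injOn, Finset.card_range, ← hm,
        ← Nat.card_eq_fintype_card, orderOf_eq_card_of_forall_mem_zpowers hu]
      rw [Finset.coe_range, ← hm]
      exact pow_injOn_Iio_orderOf
    rw [← himg, Finset.sum_image (fun a ha b hb => pow_injOn_Iio_orderOf
      (by rw [hm]; exact Finset.mem_range.1 ha) (by rw [hm]; exact Finset.mem_range.1 hb)),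
      two_mul, Finset.sum_range_add, ← Finset.sum_add_distrib]
    refine Finset.sum_congr rfl fun i _ => ?_
    simp only []
    rw [← QuotientGroup.mk_pow, cuspKerPSL_mk, pow_add, Subgroup.coe_mul, Subgroup.coe_pow,
      Subgroup.coe_pow, hum, neg_one_mul, cuspKer_neg]
  rw [hsum, cuspKer_torus_sum M N B hψ h2 hε0 hSB hA hB, ← Finset.sum_filter]
  obtain ⟨r, hr0, hr⟩ : ∃ r : F, r ≠ 0 ∧ ∀ k : F,
      (k * k = ε * ((M + N) * (M + N)) ∨ k * k = ε * ((M + N) * (M + N) - B * B)) ↔ k * k = r * r := by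
    rcases hε with rfl | hεn
    · refine ⟨M + N, hA, fun k => ?_⟩
      rw [one_mul, one_mul]
      exact ⟨fun h => h.resolve_right fun e => hX ⟨k, e.symm⟩, Or.inl⟩
    · obtain ⟨r, hr⟩ := isSquare_mul_of_not h2 hεn hX
      refine ⟨r, fun e => ?_, fun k => ⟨fun h => ?_, fun h => Or.inr (h.trans hr.symm)⟩⟩
      · rw [e, mul_zero] at hr
        exact mul_ne_zero hε0 (sub_ne_zero.2 hSB) hr
      · rcases h with h | h
        · exact absurd ⟨k / (M + N), by field_simp; linear_combination -h⟩ hεn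
        · exact h.trans hr
  have hset : (Finset.univ.filter fun k : F => k * k = ε * ((M + N) * (M + N)) ∨
      k * k = ε * ((M + N) * (M + N) - B * B)) = {r, -r} := by
    ext k; simp [hr, mul_self_eq_mul_self_iff]
  have hne : r ≠ -r := fun e => by
    have : 2 * r = 0 := by linear_combination e
    exact hr0 ((mul_eq_zero.1 this).resolve_left h2)
  rw [hset, Finset.sum_pair hne]
  intro h
  have he : ψ r = ψ (-r) := CharTwo.add_eq_zero.1 h
  have h1 : ψ (r + r) = 1 := by
    rw [AddChar.map_add_eq_mul]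
    conv_lhs => arg 2; rw [he]
    rw [← AddChar.map_add_eq_mul, add_neg_cancel, AddChar.map_zero_eq_one]
  exact hne (by linear_combination hψ _ h1)

theorem toAdd_prod_val_apply {G A ι : Type*} [AddCommGroup A] {S : AddSubgroup (G → A)}
    (s : Finset ι) (f : ι → Multiplicative S) (x : G) :
    (∏ i ∈ s, f i).toAdd.1 x = ∑ i ∈ s, (f i).toAdd.1 x := by
  rw [toAdd_prod, AddSubgroup.val_finset_sum, Finset.sum_apply]

theorem left_pow_eq_prod {V G : Type*} [CommGroup V] [Group G] {φ : G →* MulAut V} (x : V ⋊[φ] G)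
    (n : ℕ) : (x ^ n).left = ∏ i ∈ Finset.range n, φ (x.right ^ i) x.left := by
  induction n with
  | zero => simp
  | succ n ih =>
    rw [pow_succ, SemidirectProduct.mul_left, ih, Finset.prod_range_succ]
    congr 2
    have := map_pow (SemidirectProduct.rightHom (φ := φ)) x n
    simp only [SemidirectProduct.rightHom_eq_right] at this
    rw [this]

/-- The witness. -/
theorem exists_large_orders_pgl2_prime (hp : (Fintype.card F).Prime) (h5 : 5 ≤ Fintype.card F) (N0 : ℕ) :
    ∃ (H : Type) (_ : Group H) (_ : Fintype H), N0 < Fintype.card H ∧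
      Set.range (orderOf : H → ℕ) = Set.range (orderOf : Matrix.GeneralLinearGroup (Fin 2) F ⧸
        Subgroup.center (Matrix.GeneralLinearGroup (Fin 2) F) → ℕ) := by
  classical
  set p := Fintype.card F with hpdef
  haveI := Fact.mk hp
  haveI : CharP F p := charP_of_card_eq_prime (by rw [hpdef])
  have hodd : Odd p := hp.odd_of_ne_two (by omega)
  have hcast : ∀ n : ℕ, 0 < n → n < p → (n : F) ≠ 0 := fun n h0 h e => by
    have := (CharP.cast_eq_zero_iff F p n).1 e
    have := Nat.le_of_dvd h0 this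
    omega
  have h2 : (2 : F) ≠ 0 := by exact_mod_cast hcast 2 two_pos (by omega)
  have h3 : (3 : F) ≠ 0 := by exact_mod_cast hcast 3 (by norm_num) (by omega)
  obtain ⟨ψ, hψ⟩ := exists_addChar (F := F) p hpdef.symm (by omega)
  obtain ⟨M, N, B, hns, hA, hB, hX⟩ := exists_cusp_params h2 h3 (p := p)
  set Kf := GaloisField 2 (p - 1)
  set f0 : cuspFun F Kf p :=
    ⟨cuspKerPSL ψ M N B, cuspKerPSL_mem M N B hψ hpdef.symm h2 hns⟩ with hf0
  set L := Matrix.ProjectiveSpecialLinearGroup (Fin 2) F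
  set V := Multiplicative (cuspFun F Kf p)
  haveI : Finite Kf := inferInstance
  haveI : Finite V := inferInstanceAs (Finite (cuspFun F Kf p))
  set φ := cuspAct F Kf p
  -- doubling of a torus generator
  have hdouble : ∀ ε : F, (ε = 1 ∨ ¬ IsSquare ε) → ∀ (u : sl2Torus ε), (∀ A, A ∈ Subgroup.zpowers u) →
      ∀ m, 0 < m → orderOf u = 2 * m → (u : Matrix.SpecialLinearGroup (Fin 2) F) ^ m = -1 →
      ∃ x : (Fin (N0 + 1) → V) ⋊[powAct φ (N0 + 1)] L, orderOf x = 2 * m := by
    intro ε hε u hu m hm0 hm hum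
    set g : L := QuotientGroup.mk (u : Matrix.SpecialLinearGroup (Fin 2) F)
    have hg : orderOf g = m := orderOf_psl_torus h2 u hm0 hm hum
    refine ⟨⟨fun _ => Multiplicative.ofAdd f0, g⁻¹⟩, ?_⟩
    set x : (Fin (N0 + 1) → V) ⋊[powAct φ (N0 + 1)] L := ⟨fun _ => Multiplicative.ofAdd f0, g⁻¹⟩
    have hxr : orderOf x.right = m := by show orderOf g⁻¹ = m; rw [orderOf_inv, hg]
    rw [orderOf_eq_right_mul x, hxr, mul_comm]
    congr 1
    haveI : Fact (Nat.Prime 2) := ⟨Nat.prime_two⟩
    refine orderOf_eq_prime (funext fun i => cusp_two p _) fun e => ?_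
    apply cusp_norm_ne_zero h2 hψ hA hB hX hε u hu hm hum
    rw [left_pow_eq_prod] at e
    have h := congrArg (fun T : Fin (N0 + 1) → V => (T 0).toAdd.1 1) e
    simp only [Finset.prod_apply, powAct_apply, Pi.one_apply] at h
    have h' : ∑ i ∈ Finset.range m, (φ (x.right ^ i) (x.left 0)).toAdd.1 1 = (0 : Kf) :=
      (toAdd_prod_val_apply _ _ _).symm.trans h
    rw [← h']
    refine Finset.sum_congr rfl fun i _ => ?_
    rw [cuspAct_apply]
    show cuspKerPSL ψ M N B (g ^ i) = cuspKerPSL ψ M N B ((g⁻¹ ^ i)⁻¹ * 1)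
    rw [inv_pow, inv_inv, mul_one]
  have hspec : Set.range (orderOf : (Fin (N0 + 1) → V) ⋊[powAct φ (N0 + 1)] L → ℕ) =
      {d | d ∣ p ∨ d ∣ Fintype.card F - 1 ∨ d ∣ Fintype.card F + 1} := by
    ext d
    constructor
    · rintro ⟨x, rfl⟩
      have hc := orderOf_psl_cases h2 (p := p) (k := 1) (by rw [pow_one]) x.right
      have hodd' := Nat.odd_iff.1 hodd
      have e1 : 2 * ((p - 1) / 2) = p - 1 := by omega
      have e2 : 2 * ((p + 1) / 2) = p + 1 := by omega
      rcases orderOf_pow_cases Nat.prime_two (cusp_two p) x with hx | ⟨hx, -⟩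
      · show _ ∨ _ ∨ _
        rw [hx]
        rcases hc with h | h | h
        · exact Or.inl h
        · exact Or.inr (Or.inl (h.trans (Dvd.intro_left 2 e1)))
        · exact Or.inr (Or.inr (h.trans (Dvd.intro_left 2 e2)))
      · show _ ∨ _ ∨ _
        rcases hc with h | h | h
        · rcases (Nat.dvd_prime hp).1 h with h1 | h1
          · rw [hx, h1, mul_one]
            exact Or.inr (Or.inl ⟨(p - 1) / 2, e1.symm⟩)
          · have := orderOf_eq_of_fixedPointFree x (pow_fixedPointFree fun v hv =>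
              cusp_fpf hodd h1 v hv)
            rw [this] at hx
            omega
        · rw [hx]; exact Or.inr (Or.inl ((Nat.mul_dvd_mul_left 2 h).trans (dvd_of_eq e1)))
        · rw [hx]; exact Or.inr (Or.inr ((Nat.mul_dvd_mul_left 2 h).trans (dvd_of_eq e2)))
    · intro hd
      have down : ∀ n : ℕ, 0 < n → (∃ x : (Fin (N0 + 1) → V) ⋊[powAct φ (N0 + 1)] L, orderOf x = n) →
          d ∣ n → d ∈ Set.range (orderOf : (Fin (N0 + 1) → V) ⋊[powAct φ (N0 + 1)] L → ℕ) := by
        intro n hn ⟨x, hx⟩ hdn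
        exact ⟨x ^ (n / d), by rw [← hx, orderOf_pow_orderOf_div (by omega) (hx ▸ hdn)]⟩
      rcases hd with hd | hd | hd
      · refine down p hp.pos ?_ hd
        let T : Matrix.SpecialLinearGroup (Fin 2) F := ⟨!![1, 1; 0, 1], by simp [det_fin_two_of]⟩
        have hpow : ∀ n : ℕ, ((T ^ n : Matrix.SpecialLinearGroup (Fin 2) F) : Matrix (Fin 2) (Fin 2) F) =
            !![1, (n : F); 0, 1] := by
          intro n
          induction n with
          | zero => simp [Matrix.one_fin_two]
          | succ n ih =>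
            rw [pow_succ, Matrix.SpecialLinearGroup.coe_mul, ih]
            ext i j
            fin_cases i <;> fin_cases j <;> simp [T, Matrix.mul_apply, Fin.sum_univ_two] <;> ring
        refine ⟨SemidirectProduct.inr (QuotientGroup.mk T), ?_⟩
        rw [orderOf_injective _ SemidirectProduct.inr_injective]
        refine orderOf_eq_prime ((psl_pow_eq_one_iff h2 _ _).2 (Or.inl (Subtype.ext (by
          rw [hpow, CharP.cast_eq_zero, Matrix.SpecialLinearGroup.coe_one, Matrix.one_fin_two])))) ?_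
        intro e
        have h' := (psl_pow_eq_one_iff h2 T 1).1 (by rw [pow_one]; exact e)
        rw [pow_one] at h'
        rcases h' with h' | h' <;>
          simpa [T] using congrArg (fun A : Matrix.SpecialLinearGroup (Fin 2) F =>
            (A : Matrix (Fin 2) (Fin 2) F) 0 1) h'
      · obtain ⟨u, hu, m, hm0, hm, hum⟩ := exists_torus_gen h2 (one_ne_zero (α := F))
        have hc := torus_card_split h2
        rw [← orderOf_eq_card_of_forall_mem_zpowers hu, hm] at hc
        refine down (2 * m) (by omega) (hdouble 1 (Or.inl rfl) u hu m hm0 hm hum) ?_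
        rwa [show 2 * m = Fintype.card F - 1 by omega]
      · obtain ⟨ε, hε⟩ := exists_nonsquare' h2
        obtain ⟨u, hu, m, hm0, hm, hum⟩ := exists_torus_gen h2 (fun e : ε = 0 => hε (e ▸ IsSquare.zero))
        have hc := torus_card_nonsplit h2 hε
        rw [← orderOf_eq_card_of_forall_mem_zpowers hu, hm] at hc
        refine down (2 * m) (by omega) (hdouble ε (Or.inr hε) u hu m hm0 hm hum) ?_
        rwa [hc]
  haveI : Nontrivial V := by
    by_contra hV
    rw [not_nontrivial_iff_subsingleton] at hV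
    obtain ⟨u, hu, m, hm0, hm, hum⟩ := exists_torus_gen h2 (one_ne_zero (α := F))
    apply cusp_norm_ne_zero h2 hψ hA hB hX (Or.inl rfl) u hu hm hum
    have h0 : f0 = 0 := congrArg Multiplicative.toAdd (Subsingleton.elim (Multiplicative.ofAdd f0 : V) 1)
    have h1 : cuspKerPSL ψ M N B = 0 := congrArg Subtype.val h0
    simp [h1]
  obtain ⟨H, i1, i2, ⟨e⟩⟩ := exists_small_equiv ((Fin (N0 + 1) → V) ⋊[powAct φ (N0 + 1)] L)
  refine ⟨H, i1, i2, ?_, ?_⟩
  · rw [← Nat.card_eq_fintype_card, Nat.card_congr e.toEquiv]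
    exact lt_of_lt_of_le (by omega : N0 < N0 + 1) (lt_card_pow_semidirect (φ := φ) (N0 + 1)).le
  · rw [range_orderOf_congr e, hspec, range_orderOf_pgl2 h2 (p := p) (k := 1) (by rw [pow_one])]

end CfsgLib.Spectrum
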