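import Mathlib
import Cfsg.Agent.Lib.KnownSimple.SpSpectrum
import Cfsg.Agent.Lib.Classical.SpSemisimpleClasses

/-!
The element orders of `PSp(4, 3)` are 1, 2, 3, 4, 5, 6, 9, 12.
-/

set_option autoImplicit false

namespace CfsgLib.Spectrum.PSp43

open Matrix Polynomial CfsgLib.KnownSimple

/-- Coefficients of `x ^ n` modulo `x⁴ + a x³ + b x² + a x + 1`. -/
def co (a b : ZMod 3) : ℕ → ZMod 3 × ZMod 3 × ZMod 3 × ZMod 3
  | 0 => (1, 0, 0, 0)
  | n + 1 =>
    let c := co a b n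
    (-c.2.2.2, c.1 - a * c.2.2.2, c.2.1 - b * c.2.2.2, c.2.2.1 - a * c.2.2.2)

theorem co_cases : ∀ a b : ZMod 3, ∃ n ∈ [5, 9, 12], co a b n = (1, 0, 0, 0) ∨ co a b n = (-1, 0, 0, 0) := by
  decide +kernel

/-- Product of row-major `4 × 4` matrices modulo 3. -/
def mulC (A B : List ℕ) : List ℕ :=
  (List.range 16).map fun t =>
    (A.getD (4 * (t / 4)) 0 * B.getD (t % 4) 0 + A.getD (4 * (t / 4) + 1) 0 * B.getD (4 + t % 4) 0 +
     A.getD (4 * (t / 4) + 2) 0 * B.getD (8 + t % 4) 0 + A.getD (4 * (t / 4) + 3) 0 * B.getD (12 + t % 4) 0) % 3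

/-- The position of an index. -/
def pos : Fin 2 ⊕ Fin 2 → ℕ := Sum.elim (fun i => i.val) fun i => 2 + i.val

/-- Interpretation of a code. -/
def toM (A : List ℕ) : Matrix (Fin 2 ⊕ Fin 2) (Fin 2 ⊕ Fin 2) (ZMod 3) :=
  Matrix.of fun i j => (A.getD (4 * pos i + pos j) 0 : ZMod 3)

set_option maxHeartbeats 1600000 in
theorem toM_mul (A B : List ℕ) : toM (mulC A B) = toM A * toM B := by
  ext i j
  rcases i with i | i <;> rcases j with j | j <;> fin_cases i <;> fin_cases j <;>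
    simp [toM, mulC, pos, Matrix.mul_apply, Fintype.sum_sum_type, Fin.sum_univ_two] <;> ring

def oneC : List ℕ := [1,0,0,0,0,1,0,0,0,0,1,0,0,0,0,1]

theorem toM_one : toM oneC = 1 := by decide +kernel

def powC (A : List ℕ) : ℕ → List ℕ
  | 0 => oneC
  | n + 1 => mulC (powC A n) A

theorem toM_powC (A : List ℕ) : ∀ n, toM (powC A n) = toM A ^ n
  | 0 => by simp [powC, toM_one]
  | n + 1 => by rw [powC, toM_mul, toM_powC A n, pow_succ]

/-- An element of order five. -/
def C5 : List ℕ := [1, 1, 2, 0, 1, 0, 0, 2, 1, 0, 0, 0, 0, 1, 0, 0]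

/-- An element of order nine. -/
def C9 : List ℕ := [0, 2, 0, 0, 0, 2, 2, 0, 2, 0, 0, 2, 1, 0, 0, 0]

/-- An element of order twelve. -/
def C12 : List ℕ := [2, 0, 1, 0, 0, 0, 0, 1, 2, 0, 0, 0, 0, 2, 0, 0]

/-- The certificate for a witness of order `n` modulo scalars. -/
def Wit (A : List ℕ) (n : ℕ) : Prop :=
  toM A * J (Fin 2) (ZMod 3) * (toM A)ᵀ = J (Fin 2) (ZMod 3) ∧
    (toM (powC A n) = 1 ∨ toM (powC A n) = -1) ∧
    ∀ k < n, 0 < k → toM (powC A k) ≠ 1 ∧ toM (powC A k) ≠ -1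

theorem wit5 : Wit C5 5 := by unfold Wit; decide +kernel

theorem wit9 : Wit C9 9 := by unfold Wit; decide +kernel

theorem wit12 : Wit C12 12 := by unfold Wit; decide +kernel

variable {F : Type*} [Field F] [Fintype F]

theorem range_orderOf (hF : Fintype.card F = 3) :
    Set.range (orderOf : Cfsg.PSp 2 F → ℕ) = {1, 2, 3, 4, 5, 6, 9, 12} := by
  classical
  haveI : Fact (Nat.Prime 3) := ⟨Nat.prime_three⟩
  haveI : CharP F 3 := charP_of_card_eq_prime hF
  let φ : ZMod 3 →+* F := ZMod.castHom dvd_rfl F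
  have hbij : Function.Bijective φ :=
    (Fintype.bijective_iff_injective_and_card φ).2 ⟨φ.injective, by rw [ZMod.card, hF]⟩
  have wit : ∀ (A : List ℕ) (n : ℕ), 0 < n → Wit A n → ∀ d, d ∣ n →
      d ∈ Set.range (orderOf : Cfsg.PSp 2 F → ℕ) := by
    intro A n hn hA d hd
    have hJ : (J (Fin 2) (ZMod 3)).map φ = J (Fin 2) F := by
      ext i j
      rcases i with i | i <;> rcases j with j | j <;>
        simp [J, Matrix.one_apply, apply_ite φ]
    have hmem : (toM A).map φ ∈ symplecticGroup (Fin 2) F := by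
      rw [SymplecticGroup.mem_iff, ← hJ, ← Matrix.transpose_map, ← Matrix.map_mul, ← Matrix.map_mul, hA.1]
    have hinj : Function.Injective fun X : Matrix (Fin 2 ⊕ Fin 2) (Fin 2 ⊕ Fin 2) (ZMod 3) => X.map φ :=
      Matrix.map_injective hbij.1
    have hpow : ∀ k, ((toM A).map φ) ^ k = (toM (powC A k)).map φ := fun k => by
      rw [toM_powC]; exact (map_pow φ.mapMatrix (toM A) k).symm
    have h1 : (1 : Matrix (Fin 2 ⊕ Fin 2) (Fin 2 ⊕ Fin 2) F) =
        (1 : Matrix (Fin 2 ⊕ Fin 2) (Fin 2 ⊕ Fin 2) (ZMod 3)).map φ := (map_one φ.mapMatrix).symm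
    have h2 : (-1 : Matrix (Fin 2 ⊕ Fin 2) (Fin 2 ⊕ Fin 2) F) =
        (-1 : Matrix (Fin 2 ⊕ Fin 2) (Fin 2 ⊕ Fin 2) (ZMod 3)).map φ :=
      ((map_neg φ.mapMatrix 1).trans (congrArg Neg.neg (map_one φ.mapMatrix))).symm
    have ho : orderOf (spMk (⟨_, hmem⟩ : symplecticGroup (Fin 2) F)) = n := by
      refine (orderOf_eq_iff hn).2 ⟨(spMk_pow_eq_one_iff _ _).2 ?_, fun k hk hk0 hk1 => ?_⟩
      · show ((toM A).map φ) ^ n = 1 ∨ ((toM A).map φ) ^ n = -1
        rw [hpow, h2, h1]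
        exact hA.2.1.imp (fun e => by rw [e]) (fun e => by rw [e])
      · have := (spMk_pow_eq_one_iff _ _).1 hk1
        change ((toM A).map φ) ^ k = 1 ∨ ((toM A).map φ) ^ k = -1 at this
        rw [hpow, h2, h1] at this
        rcases this with e | e
        · exact (hA.2.2 k hk hk0).1 (hinj e)
        · exact (hA.2.2 k hk hk0).2 (hinj e)
    refine ⟨spMk (⟨_, hmem⟩ : symplecticGroup (Fin 2) F) ^ (n / d), ?_⟩
    conv_lhs => rw [← ho]
    exact orderOf_pow_orderOf_div (by rw [ho]; omega) (by rw [ho]; exact hd)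
  ext d
  constructor
  · rintro ⟨x, rfl⟩
    obtain ⟨g, rfl⟩ : ∃ g, spMk (n := 2) (F := F) g = x := QuotientGroup.mk'_surjective _ x
    set M : Matrix (Fin 2 ⊕ Fin 2) (Fin 2 ⊕ Fin 2) F := g.1 with hM
    have hdet : M.det = 1 := SymplecticGroup.det_eq_one g.2
    set P := M.charpoly with hP
    have hdeg : P.natDegree = 4 := by rw [hP, Matrix.charpoly_natDegree_eq_dim]; simp
    have hcard : Fintype.card (Fin 2 ⊕ Fin 2) = 4 := by simp
    have hinv : M⁻¹.charpoly = P := by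
      have hJu : IsUnit (J (Fin 2) F) := (Matrix.isUnit_iff_isUnit_det _).2 (isUnit_det_J (Fin 2) F)
      have hJi : (J (Fin 2) F)⁻¹ = -J (Fin 2) F :=
        Matrix.inv_eq_left_inv (by rw [neg_mul, J_squared, neg_neg])
      have e : M⁻¹ = (hJu.unit : Matrix _ _ F)⁻¹ * Mᵀ * (hJu.unit : Matrix _ _ F) := by
        rw [Matrix.inv_eq_left_inv (mem_sp_iff_spAdj.1 g.2), IsUnit.unit_spec, hJi]
        simp only [spAdj, neg_mul]
        rfl
      rw [e, Matrix.charpoly_units_conj', Matrix.charpoly_transpose]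
    have hrev : P = P.reverse := by
      have h := Matrix.charpoly_inv M ((Matrix.isUnit_iff_isUnit_det M).2 (by rw [hdet]; exact isUnit_one))
      rw [hinv, hcard, hdet, Ring.inverse_one, map_one, mul_one, ← Matrix.reverse_charpoly, ← hP] at h
      simpa [show ((-1 : F[X]) ^ 4) = 1 by ring] using h
    have h0 : P.coeff 0 = 1 := by
      have h := Matrix.det_eq_sign_charpoly_coeff M
      rw [hdet, hcard, ← hP] at h
      rw [h]; ring
    have h13 : P.coeff 1 = P.coeff 3 := by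
      conv_lhs => rw [hrev, Polynomial.coeff_reverse, hdeg]
      rw [show Polynomial.revAt 4 1 = 3 from Polynomial.revAt_le (by norm_num)]
    obtain ⟨a, ha⟩ := hbij.2 (P.coeff 3)
    obtain ⟨b, hb⟩ := hbij.2 (P.coeff 2)
    have h4 : M ^ 4 = -(1 : Matrix (Fin 2 ⊕ Fin 2) (Fin 2 ⊕ Fin 2) F) - φ a • M - φ b • M ^ 2 - φ a • M ^ 3 := by
      have h := Matrix.aeval_self_charpoly M
      rw [← hP, Polynomial.aeval_eq_sum_range' (n := 5) (by omega)] at h
      simp only [Finset.sum_range_succ, Finset.sum_range_zero, zero_add, pow_zero, pow_one, h0, h13,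
        ← ha, ← hb, one_smul] at h
      rw [show P.coeff 4 = 1 from hdeg ▸ (Matrix.charpoly_monic M).coeff_natDegree, one_smul] at h
      rw [← sub_eq_zero, ← h]
      abel
    have hpow : ∀ n, M ^ n = φ (co a b n).1 • (1 : Matrix (Fin 2 ⊕ Fin 2) (Fin 2 ⊕ Fin 2) F) +
        φ (co a b n).2.1 • M + φ (co a b n).2.2.1 • M ^ 2 + φ (co a b n).2.2.2 • M ^ 3 := by
      intro n
      induction n with
      | zero => simp [co]
      | succ n ih =>
        rw [pow_succ, ih]
        simp only [co, add_mul, Matrix.smul_mul, one_mul, ← pow_succ, ← pow_two, map_neg, map_sub, map_mul,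
          h4, smul_sub, smul_neg, smul_smul, sub_smul, neg_smul]
        rw [mul_comm (φ (co a b n).2.2.2) (φ a), mul_comm (φ (co a b n).2.2.2) (φ b)]
        abel
    obtain ⟨n, hn, hco⟩ := co_cases a b
    have hg : spMk g ^ n = 1 := by
      refine (spMk_pow_eq_one_iff g n).2 ?_
      rw [← hM, hpow]
      rcases hco with e | e <;> rw [e] <;> simp
    have hd := orderOf_dvd_of_pow_eq_one hg
    have key : ∀ n ∈ [5, 9, 12], ∀ d < 13, d ∣ n → d ∈ [1, 2, 3, 4, 5, 6, 9, 12] := by decide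
    have hn0 : n < 13 ∧ 0 < n := by simp at hn; omega
    simpa using key n hn _ (lt_of_le_of_lt (Nat.le_of_dvd hn0.2 hd) hn0.1) hd
  · intro hd
    simp only [Set.mem_insert_iff, Set.mem_singleton_iff] at hd
    rcases hd with rfl | rfl | rfl | rfl | rfl | rfl | rfl | rfl
    · exact wit C5 5 (by norm_num) wit5 1 (by norm_num)
    · exact wit C12 12 (by norm_num) wit12 2 (by norm_num)
    · exact wit C12 12 (by norm_num) wit12 3 (by norm_num)
    · exact wit C12 12 (by norm_num) wit12 4 (by norm_num)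
    · exact wit C5 5 (by norm_num) wit5 5 (by norm_num)
    · exact wit C12 12 (by norm_num) wit12 6 (by norm_num)
    · exact wit C9 9 (by norm_num) wit9 9 (by norm_num)
    · exact wit C12 12 (by norm_num) wit12 12 (by norm_num)

end CfsgLib.Spectrum.PSp43
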