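import Cfsg.Agent.Lib.KnownSimple.Spectra.BCPrimeGraph

/-!
The prime graph of `PSp(6, 3)`: vertices 2, 3, 5, 7, 13 and edges 2-3, 2-5, 2-7, 3-5.
-/

set_option autoImplicit false

namespace CfsgLib.Spectrum.PSp63

open CfsgLib.Spectra CfsgLib.KnownSimple

/-- The edge relation. -/
def Edge (r s : ℕ) : Prop :=
  (r, s) ∈ [(2, 3), (3, 2), (2, 5), (5, 2), (2, 7), (7, 2), (3, 5), (5, 3)]

/-- A relation on pairs of primes is the edge relation if it is right on the ten unordered pairs. -/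
theorem iff_edge (R : ℕ → Prop)
    (h6 : R 6) (h10 : R 10) (h14 : R 14) (h15 : R 15)
    (h26 : ¬ R 26) (h21 : ¬ R 21) (h39 : ¬ R 39) (h35 : ¬ R 35) (h65 : ¬ R 65) (h91 : ¬ R 91)
    {r s : ℕ} (hr : r = 2 ∨ r = 3 ∨ r = 5 ∨ r = 7 ∨ r = 13)
    (hs : s = 2 ∨ s = 3 ∨ s = 5 ∨ s = 7 ∨ s = 13) (hrs : r ≠ s) : R (r * s) ↔ Edge r s := by
  rcases hr with rfl | rfl | rfl | rfl | rfl <;> rcases hs with rfl | rfl | rfl | rfl | rfl <;>
    first | exact absurd rfl hrs | (norm_num [Edge]; assumption)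

variable {F : Type*} [Field F] [Fintype F] (hF : Fintype.card F = 3)

include hF in
theorem eta_vals : etaOf (Fintype.card F) 5 = 2 ∧ etaOf (Fintype.card F) 7 = 3 ∧
    etaOf (Fintype.card F) 13 = 3 ∧ orderOf ((Fintype.card F : ℕ) : ZMod 5) = 4 ∧
    orderOf ((Fintype.card F : ℕ) : ZMod 7) = 6 ∧ orderOf ((Fintype.card F : ℕ) : ZMod 13) = 3 := by
  rw [hF]
  have h5 : orderOf ((3 : ℕ) : ZMod 5) = 4 := (orderOf_eq_iff (by norm_num)).2 ⟨by decide, by decide⟩
  have h7 : orderOf ((3 : ℕ) : ZMod 7) = 6 := (orderOf_eq_iff (by norm_num)).2 ⟨by decide, by decide⟩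
  have h13 : orderOf ((3 : ℕ) : ZMod 13) = 3 := (orderOf_eq_iff (by norm_num)).2 ⟨by decide, by decide⟩
  refine ⟨?_, ?_, ?_, h5, h7, h13⟩
  · rcases etaOf_spec 3 5 with ⟨h, -⟩ | ⟨-, h⟩
    · rw [h5] at h; exact absurd h (by decide)
    · omega
  · rcases etaOf_spec 3 7 with ⟨h, -⟩ | ⟨-, h⟩
    · rw [h7] at h; exact absurd h (by decide)
    · omega
  · rcases etaOf_spec 3 13 with ⟨-, h⟩ | ⟨h, -⟩
    · omega
    · rw [h13] at h; exact absurd h (by decide)

include hF in
theorem primes_of_dvd {r : ℕ} (hr : r.Prime) (h : r ∣ Nat.card (Cfsg.PSp 3 F)) :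
    r = 2 ∨ r = 3 ∨ r = 5 ∨ r = 7 ∨ r = 13 := by
  have h1 : r ∣ Nat.card (Matrix.symplecticGroup (Fin 3) F) :=
    h.trans (Subgroup.card_quotient_dvd_card _)
  rw [CfsgLib.Classical.card_sp 3, hF] at h1
  norm_num [Finset.prod_range_succ] at h1
  rw [show 9170703360 = 2 ^ 10 * (3 ^ 9 * (5 * (7 * 13))) by norm_num] at h1
  have key : ∀ {a k : ℕ}, a.Prime → r ∣ a ^ k → r = a := fun ha hd =>
    (Nat.prime_dvd_prime_iff_eq hr ha).1 (hr.dvd_of_dvd_pow hd)
  have key' : ∀ {a : ℕ}, a.Prime → r ∣ a → r = a := fun ha hd =>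
    (Nat.prime_dvd_prime_iff_eq hr ha).1 hd
  rcases hr.dvd_mul.1 h1 with h | h
  · exact Or.inl (key Nat.prime_two h)
  rcases hr.dvd_mul.1 h with h | h
  · exact Or.inr (Or.inl (key Nat.prime_three h))
  rcases hr.dvd_mul.1 h with h | h
  · exact Or.inr (Or.inr (Or.inl (key' Nat.prime_five h)))
  rcases hr.dvd_mul.1 h with h | h
  · exact Or.inr (Or.inr (Or.inr (Or.inl (key' (by norm_num) h))))
  · exact Or.inr (Or.inr (Or.inr (Or.inr (key' (by norm_num) h))))

variable [CharP F 3]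

include hF in
theorem edge_facts :
    (∀ m ∈ [6, 10, 14, 15], m ∈ Set.range (orderOf : Cfsg.PSp 3 F → ℕ)) ∧
    (∀ m ∈ [26, 21, 39, 35, 65, 91], m ∉ Set.range (orderOf : Cfsg.PSp 3 F → ℕ)) := by
  haveI : Fact (Nat.Prime 3) := ⟨Nat.prime_three⟩
  obtain ⟨e5, e7, e13, o5, o7, o13⟩ := eta_vals hF
  have h2 : (2 : F) ≠ 0 := by
    intro h
    have := (CharP.cast_eq_zero_iff F 3 2).1 (by exact_mod_cast h)
    norm_num at this
  have p5 : Nat.Prime 5 := Nat.prime_five
  have p7 : Nat.Prime 7 := by norm_num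
  have p13 : Nat.Prime 13 := by norm_num
  have hq7 : QuarterTurn (Fintype.card F) 7 := by
    refine Or.inr ⟨by rw [o7]; decide, ?_⟩
    rw [e7, hF]; norm_num
  have hq13 : ¬ QuarterTurn (Fintype.card F) 13 := by
    rintro (⟨-, h⟩ | ⟨h, -⟩)
    · rw [e13, hF] at h; norm_num at h
    · rw [o13] at h; exact absurd h (by decide)
  refine ⟨?_, ?_⟩
  · simp only [List.mem_cons, List.not_mem_nil, or_false]
    rintro m (rfl | rfl | rfl | rfl)
    · exact psp_two_char (p := 3) h2 (by norm_num)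
    · exact (psp_two_odd (p := 3) (n := 3) (r := 5) h2 (by norm_num) p5 (by norm_num) (by norm_num)).2
        (Or.inl (by rw [e5]))
    · exact (psp_two_odd (p := 3) (n := 3) (r := 7) h2 (by norm_num) p7 (by norm_num) (by norm_num)).2
        (Or.inr ⟨e7, hq7⟩)
    · exact (psp_order_mul_char_iff (p := 3) (n := 3) (r := 5) (by norm_num) p5 (by norm_num)
        (by norm_num) rfl (etaOf_spec _ 5)).2 (by rw [e5])
  · simp only [List.mem_cons, List.not_mem_nil, or_false]
    rintro m (rfl | rfl | rfl | rfl | rfl | rfl) h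
    · rcases (psp_two_odd (p := 3) (n := 3) (r := 13) h2 (by norm_num) p13 (by norm_num)
        (by norm_num)).1 h with h | ⟨-, h⟩
      · omega
      · exact hq13 h
    · have := (psp_order_mul_char_iff (p := 3) (n := 3) (r := 7) (by norm_num) p7 (by norm_num)
        (by norm_num) rfl (etaOf_spec _ 7)).1 h
      omega
    · have := (psp_order_mul_char_iff (p := 3) (n := 3) (r := 13) (by norm_num) p13 (by norm_num)
        (by norm_num) rfl (etaOf_spec _ 13)).1 h
      omega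
    · rcases (psp_odd_odd (p := 3) (n := 3) (r := 5) (s := 7) (by norm_num) p5 p7 (by norm_num)
        (by norm_num) (by norm_num) (by norm_num) (by norm_num) (by omega)).1 h with h | ⟨-, t, -, h⟩
      · omega
      · rw [o5, o7] at h; omega
    · rcases (psp_odd_odd (p := 3) (n := 3) (r := 5) (s := 13) (by norm_num) p5 p13 (by norm_num)
        (by norm_num) (by norm_num) (by norm_num) (by norm_num) (by omega)).1 h with h | ⟨-, t, -, h⟩
      · omega
      · rw [o5, o13] at h; omega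
    · rcases (psp_odd_odd (p := 3) (n := 3) (r := 7) (s := 13) (by norm_num) p7 p13 (by norm_num)
        (by norm_num) (by norm_num) (by norm_num) (by norm_num) (by omega)).1 h with h | ⟨-, t, -, h⟩
      · omega
      · rw [o7, o13] at h; omega

include hF in
/-- The primes dividing the order. -/
theorem dvd_card_iff {r : ℕ} (hr : r.Prime) :
    r ∣ Nat.card (Cfsg.PSp 3 F) ↔ r = 2 ∨ r = 3 ∨ r = 5 ∨ r = 7 ∨ r = 13 := by
  refine ⟨primes_of_dvd hF hr, fun h => ?_⟩
  haveI : Fact (Nat.Prime 3) := ⟨Nat.prime_three⟩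
  obtain ⟨e, -⟩ := edge_facts hF
  have key : ∀ m ∈ [6, 10, 14, 15], m ∣ Nat.card (Cfsg.PSp 3 F) := fun m hm => by
    obtain ⟨g, rfl⟩ := e m hm
    exact orderOf_dvd_natCard g
  have k13 : 13 ∣ Nat.card (Cfsg.PSp 3 F) := by
    obtain ⟨Y, hY⟩ := exists_sp_of_dvd (F := F) (η := 3) (N := 13) (by norm_num)
      (Or.inl (by rw [hF]; norm_num))
    have := orderOf_dvd_natCard (spMk Y)
    rwa [exists_psp_of_sp (by norm_num) Y (Or.inl (by rw [hY]; decide)), hY] at this
  rcases h with rfl | rfl | rfl | rfl | rfl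
  · exact (show 2 ∣ 6 by norm_num).trans (key 6 (by simp))
  · exact (show 3 ∣ 6 by norm_num).trans (key 6 (by simp))
  · exact (show 5 ∣ 10 by norm_num).trans (key 10 (by simp))
  · exact (show 7 ∣ 14 by norm_num).trans (key 14 (by simp))
  · exact k13

include hF in
/-- The joined pairs. -/
theorem edge_iff {r s : ℕ} (hr : r.Prime) (hs : s.Prime) (hrs : r ≠ s) :
    (∃ g : Cfsg.PSp 3 F, orderOf g = r * s) ↔ Edge r s := by
  obtain ⟨e, n⟩ := edge_facts hF
  constructor
  · rintro ⟨g, hg⟩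
    have h := hg ▸ orderOf_dvd_natCard g
    exact (iff_edge (fun m => m ∈ Set.range (orderOf : Cfsg.PSp 3 F → ℕ)) (e 6 (by simp))
      (e 10 (by simp)) (e 14 (by simp)) (e 15 (by simp)) (n 26 (by simp)) (n 21 (by simp))
      (n 39 (by simp)) (n 35 (by simp)) (n 65 (by simp)) (n 91 (by simp))
      (primes_of_dvd hF hr ((dvd_mul_right r s).trans h))
      (primes_of_dvd hF hs ((dvd_mul_left s r).trans h)) hrs).1 ⟨g, hg⟩
  · intro h
    have hh : r * s ∈ [6, 10, 14, 15] := by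
      simp only [Edge, List.mem_cons, Prod.mk.injEq, List.not_mem_nil, or_false] at h
      rcases h with h | h | h | h | h | h | h | h <;> simp [h.1, h.2]
    exact e _ hh

end CfsgLib.Spectrum.PSp63
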