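import Cfsg.Agent.Lib.Spectrum.PGL2
import Cfsg.Agent.Lib.Spectrum.Semidirect

/-!
A twisted tensor module for `{±1} × PSL(2,q)`, `q` an odd power of 3, and the element orders of the
semidirect products with copies of it: divisors of 6, 9, q − 1 and (q + 1)/2, all four occurring.
-/

set_option autoImplicit false

namespace CfsgLib.Spectrum.ReeTwin

open Matrix

variable {K : Type*} [Field K] [Fintype K] [CharP K 3]

local notation "SL2" => Matrix.SpecialLinearGroup (Fin 2) K
local notation "M2" => Matrix (Fin 2) (Fin 2) K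
local notation "PSL2" => Matrix.ProjectiveSpecialLinearGroup (Fin 2) K

instance factThree : Fact (Nat.Prime 3) := ⟨Nat.prime_three⟩

theorem three_zero : (3 : K) = 0 := by exact_mod_cast CharP.cast_eq_zero K 3

theorem two_ne : (2 : K) ≠ 0 := fun h => one_ne_zero (α := K) (by linear_combination (three_zero (K := K)) - h)

/-- The right factor: the transpose of the image under the Frobenius. -/
noncomputable def twA (g : SL2) : M2 := ((frobenius K 3).mapMatrix g.val)ᵀ

theorem twA_one : twA (1 : SL2) = 1 := by
  rw [twA, Matrix.SpecialLinearGroup.coe_one, map_one, transpose_one]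

theorem twA_mul (g h : SL2) : twA (g * h) = twA h * twA g := by
  rw [twA, Matrix.SpecialLinearGroup.coe_mul, map_mul, transpose_mul]; rfl

theorem twA_neg (g : SL2) : twA (-g) = -twA g := by
  rw [twA, Matrix.SpecialLinearGroup.coe_neg, map_neg, transpose_neg]; rfl

/-- The action of SL(2,q) on matrices. -/
noncomputable def actSL : SL2 →* MulAut (Multiplicative M2) where
  toFun g :=
    { toFun := fun v => Multiplicative.ofAdd (g.val * v.toAdd * twA g)
      invFun := fun v => Multiplicative.ofAdd ((g⁻¹).val * v.toAdd * twA g⁻¹)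
      left_inv := fun v => by
        refine Multiplicative.toAdd.injective ?_
        rw [toAdd_ofAdd, toAdd_ofAdd, show (g⁻¹).val * (g.val * v.toAdd * twA g) * twA g⁻¹ =
          ((g⁻¹).val * g.val) * v.toAdd * (twA g * twA g⁻¹) by simp only [mul_assoc],
          ← Matrix.SpecialLinearGroup.coe_mul, ← twA_mul, inv_mul_cancel,
          Matrix.SpecialLinearGroup.coe_one, twA_one, one_mul, mul_one]
      right_inv := fun v => by
        refine Multiplicative.toAdd.injective ?_
        rw [toAdd_ofAdd, toAdd_ofAdd, show g.val * ((g⁻¹).val * v.toAdd * twA g⁻¹) * twA g =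
          (g.val * (g⁻¹).val) * v.toAdd * (twA g⁻¹ * twA g) by simp only [mul_assoc],
          ← Matrix.SpecialLinearGroup.coe_mul, ← twA_mul, mul_inv_cancel,
          Matrix.SpecialLinearGroup.coe_one, twA_one, one_mul, mul_one]
      map_mul' := fun v w => by rw [toAdd_mul, mul_add, add_mul, ofAdd_add] }
  map_one' := MulEquiv.ext fun v => by simp [twA_one]
  map_mul' g h := MulEquiv.ext fun v => by
    show Multiplicative.ofAdd ((g * h).val * v.toAdd * twA (g * h)) =
      Multiplicative.ofAdd (g.val * (h.val * v.toAdd * twA h) * twA g)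
    rw [Matrix.SpecialLinearGroup.coe_mul, twA_mul]
    simp only [mul_assoc]

theorem actSL_apply (g : SL2) (v : Multiplicative M2) :
    actSL g v = Multiplicative.ofAdd (g.val * v.toAdd * twA g) := rfl

theorem actSL_neg_one : actSL (-1 : SL2) = 1 := MulEquiv.ext fun v => by
  rw [actSL_apply, twA_neg, twA_one, Matrix.SpecialLinearGroup.coe_neg,
    Matrix.SpecialLinearGroup.coe_one]
  simp

theorem center_le : Subgroup.center SL2 ≤ MonoidHom.ker (actSL : SL2 →* MulAut (Multiplicative M2)) := by
  intro z hz
  have h : (QuotientGroup.mk z : PSL2) ^ 1 = 1 := by rw [pow_one]; exact (QuotientGroup.eq_one_iff z).2 hz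
  rcases (psl_pow_eq_one_iff two_ne z 1).1 h with e | e <;> rw [pow_one] at e <;> rw [MonoidHom.mem_ker, e]
  · exact map_one _
  · exact actSL_neg_one

/-- The acting group. -/
abbrev Act (K : Type*) [Field K] : Type _ :=
  ℤˣ × Matrix.ProjectiveSpecialLinearGroup (Fin 2) K

/-- The sign as an automorphism. -/
noncomputable def signAct : ℤˣ →* MulAut (Multiplicative M2) where
  toFun e :=
    { toFun := fun v => Multiplicative.ofAdd ((e : ℤ) • v.toAdd)
      invFun := fun v => Multiplicative.ofAdd ((e : ℤ) • v.toAdd)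
      left_inv := fun v => by rcases Int.units_eq_one_or e with rfl | rfl <;> simp
      right_inv := fun v => by rcases Int.units_eq_one_or e with rfl | rfl <;> simp
      map_mul' := fun v w => by rw [toAdd_mul, smul_add, ofAdd_add] }
  map_one' := MulEquiv.ext fun v => by simp
  map_mul' a b := MulEquiv.ext fun v => by
    show Multiplicative.ofAdd (((a * b : ℤˣ) : ℤ) • v.toAdd) = Multiplicative.ofAdd ((a : ℤ) • ((b : ℤ) • v.toAdd))
    rw [Units.val_mul, mul_smul]

/-- The action of `{±1} × PSL(2,q)`. -/
noncomputable def act : Act K →* MulAut (Multiplicative M2) :=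
  MonoidHom.noncommCoprod signAct (QuotientGroup.lift _ actSL center_le) fun e p => by
    induction p using QuotientGroup.induction_on with
    | H g =>
      refine MulEquiv.ext fun v => ?_
      show Multiplicative.ofAdd ((e : ℤ) • (g.val * v.toAdd * twA g)) =
        Multiplicative.ofAdd (g.val * ((e : ℤ) • v.toAdd) * twA g)
      rw [mul_smul_comm, smul_mul_assoc]

theorem act_mk (e : ℤˣ) (g : SL2) (v : Multiplicative M2) :
    act (e, (QuotientGroup.mk g : PSL2)) v = Multiplicative.ofAdd ((e : ℤ) • (g.val * v.toAdd * twA g)) := rfl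

theorem sl2_square (h : SL2) : h.val * h.val = h.val.trace • h.val - 1 := by
  have hd := h.2
  rw [Matrix.det_fin_two] at hd
  ext i j
  fin_cases i <;> fin_cases j <;>
    simp [Matrix.mul_apply, Matrix.trace_fin_two, Fin.sum_univ_two] <;>
    first
      | linear_combination -hd
      | ring

theorem twA_det (h : SL2) : (twA h).det = 1 := by
  rw [twA, Matrix.det_transpose, ← RingHom.map_det, h.2, map_one]

theorem twA_trace (h : SL2) : (twA h).trace = (h.val.trace) ^ 3 := by
  rw [twA, Matrix.trace_transpose, Matrix.trace_fin_two, Matrix.trace_fin_two, RingHom.mapMatrix_apply,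
    Matrix.map_apply, Matrix.map_apply, ← map_add]
  rfl

/-- A fixed matrix makes the trace invariant under the Frobenius. -/
theorem trace_cube_of_fixed (h : SL2) {X : M2} (hX : X ≠ 0) (hfix : h.val * X * twA h = X) :
    h.val.trace ^ 3 = h.val.trace := by
  set A := twA h with hA
  have hAsq : A * A = A.trace • A - 1 := sl2_square ⟨A, twA_det h⟩
  set t := h.val.trace with ht
  set s := A.trace with hs
  have h1 : h.val * X = s • X - X * A := by
    calc h.val * X = h.val * X * (s • A - A * A) := by rw [hAsq]; simp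
      _ = h.val * X * A * (s • (1 : M2) - A) := by
          rw [mul_sub, mul_sub]; simp only [Matrix.mul_smul, mul_one, mul_assoc]
      _ = s • X - X * A := by rw [hfix, mul_sub, Matrix.mul_smul, mul_one]
  have h2 : t • (h.val * X) = s • (h.val * X) := by
    have e := congrArg (h.val * ·) h1
    simp only [mul_sub, Matrix.mul_smul, ← mul_assoc, sl2_square h, sub_mul, Matrix.smul_mul, one_mul,
      hfix, ← ht] at e
    linear_combination (norm := abel) e
  have h3 : h.val * X ≠ 0 := by
    intro e
    rw [e, zero_mul] at hfix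
    exact hX hfix.symm
  have hts : t = s := by
    by_contra hne
    exact h3 ((smul_eq_zero.1 (show (t - s) • (h.val * X) = 0 by rw [sub_smul, h2, sub_self])).resolve_left
      (sub_ne_zero.2 hne))
  have hs3 : s = t ^ 3 := twA_trace h
  exact hs3.symm.trans hts.symm

variable {m : ℕ} (hK : Fintype.card K = 3 ^ (2 * m + 1))

include hK in
theorem not_square_neg_one : ¬ IsSquare (-1 : K) := by
  rw [FiniteField.isSquare_neg_one_iff, not_not, hK, pow_succ, pow_mul]
  rw [Nat.mul_mod, Nat.pow_mod]
  norm_num

include hK in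
/-- The only elements of order prime to 3 whose square fixes a nonzero matrix have order at most 2. -/
theorem sq_eq_one_of_fixed (g : SL2) (h3 : ¬ 3 ∣ orderOf (QuotientGroup.mk g : PSL2)) {X : M2} (hX : X ≠ 0)
    (hfix : (g * g).val * X * twA (g * g) = X) : (QuotientGroup.mk g : PSL2) ^ 2 = 1 := by
  have ht := trace_cube_of_fixed (g * g) hX hfix
  set t := (g * g).val.trace with htd
  have h30 := three_zero (K := K)
  have hsq := sl2_square (g * g)
  rw [← htd] at hsq
  have hcases : t = 0 ∨ t = 1 ∨ t = -1 := by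
    have : t * ((t - 1) * (t + 1)) = 0 := by linear_combination ht
    rcases mul_eq_zero.1 this with e | e
    · exact Or.inl e
    · rcases mul_eq_zero.1 e with e | e
      · exact Or.inr (Or.inl (sub_eq_zero.1 e))
      · exact Or.inr (Or.inr (eq_neg_of_add_eq_zero_left e))
  rcases hcases with e | e | e
  · exfalso
    apply not_square_neg_one hK
    have hg : t = g.val.trace ^ 2 - 2 := by
      have hd := g.2
      rw [Matrix.det_fin_two] at hd
      rw [htd, Matrix.SpecialLinearGroup.coe_mul, Matrix.trace_fin_two, Matrix.trace_fin_two]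
      simp only [Matrix.mul_apply, Fin.sum_univ_two]
      linear_combination (-2 : K) * hd
    exact ⟨g.val.trace, by linear_combination hg - e - h30⟩
  all_goals
    have hh : (g * g) ^ 3 = 1 ∨ (g * g) ^ 3 = -1 := by
      rw [e] at hsq
      first
        | refine Or.inl (Subtype.ext ?_)
          rw [Matrix.SpecialLinearGroup.coe_pow, pow_succ, pow_two, hsq, sub_mul, Matrix.smul_mul, hsq,
            Matrix.SpecialLinearGroup.coe_one]
          ext i j; fin_cases i <;> fin_cases j <;> simp <;> linear_combination (0 : K) * h30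
        | refine Or.inr (Subtype.ext ?_)
          rw [Matrix.SpecialLinearGroup.coe_pow, pow_succ, pow_two, hsq, sub_mul, Matrix.smul_mul, hsq,
            Matrix.SpecialLinearGroup.coe_neg, Matrix.SpecialLinearGroup.coe_one]
          ext i j; fin_cases i <;> fin_cases j <;> simp <;> linear_combination (0 : K) * h30
    have hp : ((QuotientGroup.mk g : PSL2) ^ 2) ^ 3 = 1 := by
      rw [pow_two, ← QuotientGroup.mk_mul]
      exact (psl_pow_eq_one_iff two_ne (g * g) 3).2 hh
    rw [← pow_mul] at hp
    exact orderOf_dvd_iff_pow_eq_one.1 (((Nat.prime_three.coprime_iff_not_dvd.2 h3).symm).dvd_of_dvd_mul_right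
      (orderOf_dvd_of_pow_eq_one hp))

/-- The bound on orders. -/
def Good (q d : ℕ) : Prop := d ∣ 6 ∨ d ∣ 9 ∨ d ∣ q - 1 ∨ d ∣ (q + 1) / 2

theorem units_order (e : ℤˣ) : orderOf e ∣ 2 := orderOf_dvd_of_pow_eq_one (Int.units_sq e)

include hK in
theorem orders_upper {k : ℕ} (x : (Fin k → Multiplicative M2) ⋊[powAct act k] Act K) :
    Good (3 ^ (2 * m + 1)) (orderOf x) := by
  classical
  obtain ⟨y, hy⟩ : ∃ y, x.right = y := ⟨_, rfl⟩
  obtain ⟨e, p⟩ := y
  obtain ⟨g, rfl⟩ := QuotientGroup.mk_surjective p
  have hor : orderOf (e, (QuotientGroup.mk g : PSL2)) = Nat.lcm (orderOf e) (orderOf (QuotientGroup.mk g : PSL2)) :=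
    Prod.orderOf _
  have hexp : ∀ v : Multiplicative M2, v ^ 3 = 1 := fun v => by
    refine Multiplicative.toAdd.injective ?_
    rw [toAdd_pow, toAdd_one]
    ext i j
    rw [Matrix.smul_apply, Matrix.zero_apply, nsmul_eq_mul, Nat.cast_ofNat, three_zero, zero_mul]
  have hmul : orderOf x ∣ 3 * orderOf x.right := by
    rcases orderOf_pow_cases Nat.prime_three hexp x with h | ⟨h, -⟩ <;> rw [h]
    exact dvd_mul_left _ _
  have h2 := units_order e
  rw [hy, hor] at hmul
  set o := orderOf (QuotientGroup.mk g : PSL2) with ho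
  by_cases hsmall : o ∣ 2
  · left
    refine hmul.trans ?_
    exact mul_dvd_mul (dvd_refl 3) (Nat.lcm_dvd h2 hsmall)
  by_cases h3 : o = 3
  · rcases Int.units_eq_one_or e with rfl | rfl
    · right; left
      rw [h3, orderOf_one, Nat.lcm_one_left] at hmul
      exact hmul
    · left
      have hfree : ∀ v : Multiplicative M2, act ((-1 : ℤˣ), (QuotientGroup.mk g : PSL2)) v = v → v = 1 := by
        intro v hv
        set y : Act K := ((-1 : ℤˣ), (QuotientGroup.mk g : PSL2))
        have hy3 : y ^ 3 = ((-1 : ℤˣ), 1) := by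
          show (((-1 : ℤˣ)) ^ 3, (QuotientGroup.mk g : PSL2) ^ 3) = _
          rw [← h3, ho, pow_orderOf_eq_one, ← ho, h3]
          simp
          decide
        have h : act (y ^ 3) v = v := by
          rw [map_pow, pow_succ, pow_two, MulAut.mul_apply, MulAut.mul_apply, hv, hv, hv]
        rw [hy3, show (1 : PSL2) = QuotientGroup.mk (1 : SL2) from rfl, act_mk] at h
        refine Multiplicative.toAdd.injective ?_
        have h' := congrArg Multiplicative.toAdd h
        simp [twA_one] at h'
        rw [toAdd_one]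
        ext i j
        have := congrFun (congrFun h' i) j
        simp at this
        exact (mul_eq_zero.1 (show (2 : K) * Multiplicative.toAdd v i j = 0 by linear_combination -this)).resolve_left two_ne
      rw [orderOf_eq_of_fixedPointFree x (hy ▸ pow_fixedPointFree hfree), hy, hor, h3]
      exact Nat.lcm_dvd (h2.trans (by norm_num)) (by norm_num)
  · -- semisimple
    have hcases := orderOf_psl_cases (two_ne (K := K)) hK (QuotientGroup.mk g : PSL2)
    rw [← ho, hK] at hcases
    have hq3 : 3 ∣ 3 ^ (2 * m + 1) := dvd_pow_self 3 (by omega)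
    have hodd : 3 ^ (2 * m + 1) % 4 = 3 := by
      rw [pow_succ, pow_mul, Nat.mul_mod, Nat.pow_mod]; norm_num
    have hn3 : ¬ 3 ∣ o := by
      intro hd
      rcases hcases with h | h | h
      · rcases (Nat.dvd_prime Nat.prime_three).1 h with h' | h'
        · exact hsmall (h' ▸ one_dvd 2)
        · exact h3 h'
      · have := hd.trans h; omega
      · have := hd.trans h; omega
    have hfree : ∀ v : Multiplicative M2, act (e, (QuotientGroup.mk g : PSL2)) v = v → v = 1 := by
      intro v hv
      by_contra hne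
      have hX : Multiplicative.toAdd v ≠ 0 := fun h => hne (Multiplicative.toAdd.injective (h.trans toAdd_one.symm))
      have h : act ((e, (QuotientGroup.mk g : PSL2)) * (e, (QuotientGroup.mk g : PSL2))) v = v := by
        rw [map_mul, MulAut.mul_apply, hv, hv]
      rw [Prod.mk_mul_mk, Int.units_mul_self, ← QuotientGroup.mk_mul, act_mk] at h
      have h' := congrArg Multiplicative.toAdd h
      simp at h'
      exact hsmall (orderOf_dvd_of_pow_eq_one (sq_eq_one_of_fixed hK g (ho ▸ hn3) hX (by simpa [mul_assoc] using h')))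
    rw [Good, orderOf_eq_of_fixedPointFree x (hy ▸ pow_fixedPointFree hfree), hy, hor]
    rcases hcases with h | h | h
    · rcases (Nat.dvd_prime Nat.prime_three).1 h with h' | h'
      · exact absurd (h' ▸ one_dvd 2) hsmall
      · exact absurd h' h3
    · refine Or.inr (Or.inr (Or.inl (Nat.lcm_dvd (h2.trans ?_) (h.trans ?_))))
      · omega
      · exact ⟨2, by omega⟩
    · exact Or.inr (Or.inr (Or.inr (Nat.lcm_dvd (h2.trans (by omega)) h)))

include hK in
theorem orders_lower {k : ℕ} (hk : 1 ≤ k) {d : ℕ} (hd : Good (3 ^ (2 * m + 1)) d) (hm : 1 ≤ m) :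
    ∃ x : (Fin k → Multiplicative M2) ⋊[powAct act k] Act K, orderOf x = d := by
  have h27 : 27 ≤ 3 ^ (2 * m + 1) := by
    calc (27 : ℕ) = 3 ^ 3 := rfl
      _ ≤ _ := Nat.pow_le_pow_right (by norm_num) (by omega)
  have hodd : 3 ^ (2 * m + 1) % 4 = 3 := by
    rw [pow_succ, pow_mul, Nat.mul_mod, Nat.pow_mod]; norm_num
  suffices h : ∃ x : (Fin k → Multiplicative M2) ⋊[powAct act k] Act K, d ∣ orderOf x by
    obtain ⟨x, hx⟩ := h
    exact ⟨x ^ (orderOf x / d), orderOf_pow_orderOf_div (orderOf_pos x).ne' hx⟩
  have hneg : orderOf (-1 : ℤˣ) = 2 := orderOf_eq_prime (by simp) (by decide)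
  have hinr : ∀ y : Act K, orderOf (SemidirectProduct.inr y : (Fin k → Multiplicative M2) ⋊[powAct act k] Act K) = orderOf y :=
    fun y => orderOf_injective _ SemidirectProduct.inr_injective y
  let u : SL2 := ⟨!![1, 1; 0, 1], by simp [Matrix.det_fin_two]⟩
  have hu : orderOf (QuotientGroup.mk u : PSL2) = 3 := by
    refine orderOf_eq_prime ((psl_pow_eq_one_iff two_ne u 3).2 (Or.inl (Subtype.ext ?_))) fun h => ?_
    · ext i j
      rw [Matrix.SpecialLinearGroup.coe_pow, Matrix.SpecialLinearGroup.coe_one, pow_succ, pow_two]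
      fin_cases i <;> fin_cases j <;> simp [u, Matrix.mul_apply, Fin.sum_univ_two] <;>
        linear_combination (three_zero (K := K))
    · rcases (psl_pow_eq_one_iff two_ne u 1).1 (by rw [pow_one]; exact h) with e | e <;>
        · rw [pow_one] at e
          have := congrFun (congrFun (congrArg Subtype.val e) 0) 1
          simp [u] at this
  have hq : Fintype.card K = 3 ^ (2 * m + 1) := hK
  have hspec : ∀ n, n = (3 ^ (2 * m + 1) - 1) / 2 ∨ n = (3 ^ (2 * m + 1) + 1) / 2 → ∃ p : PSL2, orderOf p = n := by
    rintro n (rfl | rfl)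
    · obtain ⟨v, hv, j, hj, hvj, hneg'⟩ := exists_torus_gen (two_ne (K := K)) (one_ne_zero (α := K))
      have hc := torus_card_split (two_ne (K := K))
      rw [← orderOf_eq_card_of_forall_mem_zpowers hv, hvj, hq] at hc
      exact ⟨_, (orderOf_psl_torus two_ne v hj hvj hneg').trans (by omega)⟩
    · obtain ⟨ε, hε⟩ := exists_nonsquare' (two_ne (K := K))
      obtain ⟨v, hv, j, hj, hvj, hneg'⟩ :=
        exists_torus_gen (two_ne (K := K)) (fun e => hε (e ▸ IsSquare.zero) : ε ≠ 0)
      have hc := torus_card_nonsplit (two_ne (K := K)) hε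
      rw [← orderOf_eq_card_of_forall_mem_zpowers hv, hvj, hq] at hc
      exact ⟨_, (orderOf_psl_torus two_ne v hj hvj hneg').trans (by omega)⟩
  rcases hd with h | h | h | h
  · refine ⟨SemidirectProduct.inr ((-1 : ℤˣ), (QuotientGroup.mk u : PSL2)), h.trans ?_⟩
    rw [hinr, Prod.orderOf, hneg, hu]
    norm_num
  · let y : Act K := (1, (QuotientGroup.mk u : PSL2))
    let x : (Fin k → Multiplicative M2) ⋊[powAct act k] Act K :=
      ⟨fun _ => Multiplicative.ofAdd !![0, 0; 0, 1], y⟩
    have hy : orderOf y = 3 := by rw [Prod.orderOf, orderOf_one, hu, Nat.lcm_one_left]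
    refine ⟨x, h.trans (dvd_of_eq ?_)⟩
    rw [orderOf_eq_right_mul x, hy]
    suffices hne : (x ^ 3).left ≠ 1 by
      rw [orderOf_eq_prime (p := 3) ?_ hne]
      funext i
      refine Multiplicative.toAdd.injective ?_
      rw [Pi.pow_apply, toAdd_pow, Pi.one_apply, toAdd_one]
      ext a b
      rw [Matrix.smul_apply, Matrix.zero_apply, nsmul_eq_mul, Nat.cast_ofNat, three_zero, zero_mul]
    intro hz
    have h0 := congrArg Multiplicative.toAdd (congrFun hz ⟨0, hk⟩)
    rw [pow_succ, pow_two] at h0
    simp only [SemidirectProduct.mul_left, SemidirectProduct.mul_right, x, Pi.mul_apply, powAct_apply,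
      toAdd_mul, act_mk, toAdd_ofAdd, y, Prod.mk_mul_mk, one_mul, ← QuotientGroup.mk_mul,
      Pi.one_apply, toAdd_one] at h0
    have huu : (u * u).val = !![1, 2; 0, 1] := by
      rw [Matrix.SpecialLinearGroup.coe_mul]
      ext a b
      fin_cases a <;> fin_cases b <;> simp [u, Matrix.mul_apply, Fin.sum_univ_two] <;> ring
    simp only [twA, huu] at h0
    have h00 := congrFun (congrFun h0 0) 0
    simp [u, Matrix.mul_apply, Matrix.transpose_apply, Matrix.map_apply,
      Matrix.vecMul, dotProduct, Matrix.vecHead, Fin.sum_univ_two, frobenius_def] at h00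
    exact two_ne (K := K) (by linear_combination h00 - 5 * three_zero (K := K))
  · obtain ⟨p, hp⟩ := hspec _ (Or.inl rfl)
    refine ⟨SemidirectProduct.inr ((-1 : ℤˣ), p), h.trans (dvd_of_eq ?_)⟩
    rw [hinr, Prod.orderOf, hneg, hp, Nat.Coprime.lcm_eq_mul ((Nat.Prime.coprime_iff_not_dvd Nat.prime_two).2 (by omega))]
    omega
  · obtain ⟨p, hp⟩ := hspec _ (Or.inr rfl)
    refine ⟨SemidirectProduct.inr (1, p), h.trans (dvd_of_eq ?_)⟩
    rw [hinr, Prod.orderOf, orderOf_one, hp, Nat.lcm_one_left]

end CfsgLib.Spectrum.ReeTwin
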