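import Mathlib
import Cfsg.Agent.Lib.Spectrum.Semidirect

/-!
A solvable group with element orders 1, 2, 3, 4, 5, 6, 9, 12.

`A` is a subdirect combination of two unitriangular groups over the field with 81 elements whose cube map is
`a²⁷ b c³ - a³ b c²⁷`; it vanishes on the points of the subfield with 9 elements. A group of order 20 (fifth
roots of unity extended by the Galois group) acts so that the elements of order 5 have no fixed points.
-/

set_option autoImplicit false

namespace CfsgLib.Spectrum.Sp43Solvable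

noncomputable section

/-- The field. -/
abbrev L : Type := GaloisField 3 4

instance instFiniteL : Finite L :=
  Nat.finite_of_card_ne_zero (by rw [GaloisField.card 3 4 (by norm_num)]; norm_num)

theorem card_L : Nat.card L = 81 := by rw [GaloisField.card 3 4 (by norm_num)]; norm_num

theorem three_eq_zero : (3 : L) = 0 := by exact_mod_cast CharP.cast_eq_zero L 3

/-- The cube. -/
def t1 : L →+* L := frobenius L 3

/-- The power 27. -/
def t3 : L →+* L := t1.comp (t1.comp t1)

theorem t1_apply (x : L) : t1 x = x ^ 3 := frobenius_def 3 x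

theorem t3_apply (x : L) : t3 x = x ^ 27 := by
  simp only [t3, RingHom.comp_apply, t1_apply]
  ring

/-- The 3-group. -/
@[ext] structure A where
  a : L
  b : L
  c : L
  p : L
  q : L
  r : L
  s : L
  z : L

instance instMulA : Mul A := ⟨fun x y =>
  ⟨x.a + y.a, x.b + y.b, x.c + y.c, x.p + y.p + t3 x.a * y.b, x.q + y.q + x.b * t1 y.c,
    x.r + y.r + t1 x.a * y.b, x.s + y.s + x.b * t3 y.c,
    x.z + y.z + (t3 x.a * y.q + x.p * t1 y.c - t1 x.a * y.s - x.r * t3 y.c)⟩⟩

instance instOneA : One A := ⟨⟨0, 0, 0, 0, 0, 0, 0, 0⟩⟩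

instance instInvA : Inv A := ⟨fun x =>
  ⟨-x.a, -x.b, -x.c, -x.p + t3 x.a * x.b, -x.q + x.b * t1 x.c, -x.r + t1 x.a * x.b,
    -x.s + x.b * t3 x.c,
    -x.z - (t3 x.a * (-x.q) + (-x.p + t3 x.a * x.b) * t1 x.c - t1 x.a * (-x.s)
      - (-x.r + t1 x.a * x.b) * t3 x.c)⟩⟩

theorem mul_def (x y : A) : x * y =
  ⟨x.a + y.a, x.b + y.b, x.c + y.c, x.p + y.p + t3 x.a * y.b, x.q + y.q + x.b * t1 y.c,
    x.r + y.r + t1 x.a * y.b, x.s + y.s + x.b * t3 y.c,
    x.z + y.z + (t3 x.a * y.q + x.p * t1 y.c - t1 x.a * y.s - x.r * t3 y.c)⟩ := rfl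

theorem one_def : (1 : A) = ⟨0, 0, 0, 0, 0, 0, 0, 0⟩ := rfl

theorem inv_def (x : A) : x⁻¹ =
  ⟨-x.a, -x.b, -x.c, -x.p + t3 x.a * x.b, -x.q + x.b * t1 x.c, -x.r + t1 x.a * x.b,
    -x.s + x.b * t3 x.c,
    -x.z - (t3 x.a * (-x.q) + (-x.p + t3 x.a * x.b) * t1 x.c - t1 x.a * (-x.s)
      - (-x.r + t1 x.a * x.b) * t3 x.c)⟩ := rfl

instance instGroupA : Group A where
  mul_assoc x y w := by ext <;> simp only [mul_def, map_add] <;> ring
  one_mul x := by ext <;> simp [mul_def, one_def]
  mul_one x := by ext <;> simp [mul_def, one_def]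
  inv_mul_cancel x := by ext <;> simp only [mul_def, inv_def, one_def, map_neg] <;> ring

/-- Coordinates. -/
def coords : A ≃ (Fin 8 → L) where
  toFun x := ![x.a, x.b, x.c, x.p, x.q, x.r, x.s, x.z]
  invFun f := ⟨f 0, f 1, f 2, f 3, f 4, f 5, f 6, f 7⟩
  left_inv x := rfl
  right_inv f := by funext i; fin_cases i <;> rfl

instance instFiniteA : Finite A := Finite.of_equiv _ coords.symm

theorem card_A : Nat.card A = 3 ^ 32 := by
  rw [Nat.card_congr coords, Nat.card_fun, card_L, Nat.card_eq_fintype_card, Fintype.card_fin]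
  norm_num

/-- The cube map. -/
theorem cube_eq (x : A) : x ^ 3 =
    ⟨0, 0, 0, 0, 0, 0, 0, t3 x.a * x.b * t1 x.c - t1 x.a * x.b * t3 x.c⟩ := by
  have h3 := three_eq_zero
  rw [pow_succ, pow_two]
  ext <;> simp only [mul_def, map_add]
  · linear_combination x.a * h3
  · linear_combination x.b * h3
  · linear_combination x.c * h3
  · linear_combination (x.p + t3 x.a * x.b) * h3
  · linear_combination (x.q + x.b * t1 x.c) * h3
  · linear_combination (x.r + t1 x.a * x.b) * h3
  · linear_combination (x.s + x.b * t3 x.c) * h3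
  · linear_combination (x.z + t3 x.a * x.q + x.p * t1 x.c - t1 x.a * x.s - x.r * t3 x.c) * h3

theorem pow_nine (x : A) : x ^ 9 = 1 := by
  rw [show (9 : ℕ) = 3 * 3 from rfl, pow_mul, cube_eq, cube_eq, one_def]
  ext <;> simp

/-- Scalar maps. -/
def scaleMap (u : L) (x : A) : A :=
  ⟨u * x.a, u * x.b, u * x.c, u ^ 3 * x.p, u ^ 4 * x.q, u ^ 4 * x.r, u ^ 3 * x.s, u * x.z⟩

theorem scaleMap_scaleMap (u v : L) (x : A) : scaleMap u (scaleMap v x) = scaleMap (u * v) x := by
  ext <;> simp only [scaleMap, mul_pow] <;> ring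

theorem scaleMap_one (x : A) : scaleMap 1 x = x := by
  ext <;> simp [scaleMap]

theorem scaleMap_mul {u : L} (hu : u ^ 5 = 1) (x y : A) :
    scaleMap u (x * y) = scaleMap u x * scaleMap u y := by
  have h27 : t3 u = u ^ 2 := by
    rw [t3_apply, show 27 = 5 * 5 + 2 from rfl, pow_add, pow_mul, hu, one_pow, one_mul]
  ext <;> simp only [scaleMap, mul_def, map_mul, h27, t1_apply u] <;> try ring
  linear_combination (-(u * (t3 x.a * y.q + x.p * t1 y.c - t1 x.a * y.s - x.r * t3 y.c))) * hu

theorem root_pow (u : rootsOfUnity 5 L) : ((u : Lˣ) : L) ^ 5 = 1 := by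
  rw [← Units.val_pow_eq_pow_val, (mem_rootsOfUnity 5 (u : Lˣ)).mp u.2, Units.val_one]

/-- The action of the fifth roots of unity. -/
def scale : rootsOfUnity 5 L →* MulAut A where
  toFun u :=
    { toFun := scaleMap ((u : Lˣ) : L)
      invFun := scaleMap ((u⁻¹ : rootsOfUnity 5 L) : Lˣ)
      left_inv := fun x => by
        rw [scaleMap_scaleMap, ← Units.val_mul, ← Subgroup.coe_mul, inv_mul_cancel]; exact scaleMap_one x
      right_inv := fun x => by
        rw [scaleMap_scaleMap, ← Units.val_mul, ← Subgroup.coe_mul, mul_inv_cancel]; exact scaleMap_one x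
      map_mul' := scaleMap_mul (root_pow u) }
  map_one' := MulEquiv.ext fun x => scaleMap_one x
  map_mul' u v := MulEquiv.ext fun x => (scaleMap_scaleMap _ _ x).symm

/-- Coordinatewise field automorphisms. -/
def semi (τ : RingAut L) (x : A) : A :=
  ⟨τ x.a, τ x.b, τ x.c, τ x.p, τ x.q, τ x.r, τ x.s, τ x.z⟩

theorem semi_mul (τ : RingAut L) (x y : A) : semi τ (x * y) = semi τ x * semi τ y := by
  have h1 : ∀ w : L, t1 (τ w) = τ (t1 w) := fun w => by rw [t1_apply, t1_apply, map_pow]
  have h3 : ∀ w : L, t3 (τ w) = τ (t3 w) := fun w => by rw [t3_apply, t3_apply, map_pow]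
  ext <;> simp only [semi, mul_def, map_add, map_sub, map_mul, h1, h3]

/-- The Frobenius automorphism. -/
def fr : RingAut L := frobeniusEquiv L 3

theorem fr_pow_apply (j : ℕ) (x : L) : (fr ^ j) x = x ^ 3 ^ j := by
  induction j generalizing x with
  | zero => simp [RingAut.one_apply]
  | succ j ih =>
    rw [pow_succ, RingAut.mul_apply, ih, show fr x = x ^ 3 from frobeniusEquiv_def L 3 x, ← pow_mul,
      ← pow_succ']

theorem pow_81 (x : L) : x ^ 81 = x := by
  letI := Fintype.ofFinite L
  have h := FiniteField.pow_card x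
  rwa [← Nat.card_eq_fintype_card, card_L] at h

theorem fr_pow_four : fr ^ 4 = 1 := RingEquiv.ext fun x => by
  rw [fr_pow_apply, RingAut.one_apply]
  exact pow_81 x

theorem exists_not_fixed : ∃ x : L, x ^ 9 ≠ x := by
  by_contra h
  push Not at h
  letI := Fintype.ofFinite L
  classical
  have hne : (Polynomial.X ^ 9 - Polynomial.X : Polynomial L) ≠ 0 :=
    FiniteField.X_pow_card_sub_X_ne_zero L (by norm_num)
  have hdeg : (Polynomial.X ^ 9 - Polynomial.X : Polynomial L).natDegree = 9 :=
    FiniteField.X_pow_card_sub_X_natDegree_eq L (by norm_num)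
  have h0 : (Polynomial.X ^ 9 - Polynomial.X : Polynomial L) = 0 :=
    Polynomial.eq_zero_of_natDegree_lt_card_of_eval_eq_zero _ (Function.injective_id (α := L))
      (fun x => by simp [h x]) (by rw [hdeg, ← Nat.card_eq_fintype_card, card_L]; norm_num)
  exact hne h0

/-- The Galois group. -/
abbrev Gal : Subgroup (RingAut L) := Subgroup.zpowers fr

theorem finOrder_fr : IsOfFinOrder fr :=
  isOfFinOrder_iff_pow_eq_one.mpr ⟨4, by norm_num, fr_pow_four⟩

theorem gal_cases (τ : Gal) : ∃ j < 4, (τ : RingAut L) = fr ^ j := by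
  obtain ⟨j, hj⟩ := finOrder_fr.mem_powers_iff_mem_zpowers.mpr τ.2
  refine ⟨j % 4, Nat.mod_lt _ (by norm_num), ?_⟩
  rw [← hj]
  show fr ^ j = _
  conv_lhs => rw [← Nat.mod_add_div j 4, pow_add, pow_mul, fr_pow_four, one_pow, mul_one]

/-- The Galois group on the roots of unity. -/
def galRoots : Gal →* MulAut (rootsOfUnity 5 L) where
  toFun τ := (τ : RingAut L).restrictRootsOfUnity 5
  map_one' := MulEquiv.ext fun u => Subtype.ext (Units.ext (by rfl))
  map_mul' σ τ := MulEquiv.ext fun u => Subtype.ext (Units.ext (by rfl))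

/-- The group of order 20. -/
abbrev H := rootsOfUnity 5 L ⋊[galRoots] Gal

instance instFiniteGal : Finite Gal :=
  Finite.of_injective (fun τ : Gal => ((τ : RingAut L) : L → L))
    fun σ τ h => Subtype.ext (RingEquiv.ext (congrFun h))

/-- The Galois group on `A`. -/
def galA : Gal →* MulAut A where
  toFun τ :=
    { toFun := semi (τ : RingAut L)
      invFun := semi (τ : RingAut L).symm
      left_inv := fun x => by ext <;> simp [semi]
      right_inv := fun x => by ext <;> simp [semi]
      map_mul' := semi_mul _ }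
  map_one' := MulEquiv.ext fun x => by ext <;> rfl
  map_mul' σ τ := MulEquiv.ext fun x => by ext <;> rfl

/-- The action. -/
def act : H →* MulAut A :=
  SemidirectProduct.lift scale galA fun τ => MonoidHom.ext fun u => by
    refine MulEquiv.ext fun x => ?_
    show scaleMap ((((galRoots τ) u : rootsOfUnity 5 L) : Lˣ) : L) x = galA τ (scale u ((galA τ)⁻¹ x))
    have e : ((((galRoots τ) u : rootsOfUnity 5 L) : Lˣ) : L) = (τ : RingAut L) ((u : Lˣ) : L) := rfl
    rw [e]
    show _ = semi (τ : RingAut L) (scaleMap ((u : Lˣ) : L) (semi (τ : RingAut L).symm x))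
    ext <;> simp [semi, scaleMap]

theorem act_inr (τ : Gal) (x : A) : act (SemidirectProduct.inr τ) x = semi (τ : RingAut L) x := by
  rw [act, SemidirectProduct.lift_inr]; rfl

theorem act_inl (u : rootsOfUnity 5 L) (x : A) :
    act (SemidirectProduct.inl u) x = scaleMap ((u : Lˣ) : L) x := by
  rw [act, SemidirectProduct.lift_inl]; rfl

theorem root_pow_ne {u : rootsOfUnity 5 L} (hu : u ≠ 1) {k : ℕ} (hk : ¬ 5 ∣ k) :
    ((u : Lˣ) : L) ^ k ≠ 1 := by
  intro h
  have h1 : u ^ k = 1 := Subtype.ext (Units.ext (by simpa using h))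
  have h5 : u ^ 5 = 1 := Subtype.ext (Units.ext (by simpa using root_pow u))
  have := (pow_gcd_eq_one (a := u) (m := k) (n := 5)).mpr ⟨h1, h5⟩
  rw [show k.gcd 5 = 1 from ((Nat.Prime.coprime_iff_not_dvd (by norm_num)).mpr hk).symm, pow_one] at this
  exact hu this

theorem scale_fixed {u : rootsOfUnity 5 L} (hu : u ≠ 1) {x : A} (hx : scaleMap ((u : Lˣ) : L) x = x) :
    x = 1 := by
  have key : ∀ (k : ℕ) (w : L), ¬ 5 ∣ k → ((u : Lˣ) : L) ^ k * w = w → w = 0 := fun k w hk h => by
    by_contra hw
    exact root_pow_ne hu hk ((mul_eq_right₀ hw).mp h)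
  simp only [scaleMap] at hx
  ext
  · exact key 1 _ (by norm_num) (by rw [pow_one]; exact congrArg A.a hx)
  · exact key 1 _ (by norm_num) (by rw [pow_one]; exact congrArg A.b hx)
  · exact key 1 _ (by norm_num) (by rw [pow_one]; exact congrArg A.c hx)
  · exact key 3 _ (by norm_num) (congrArg A.p hx)
  · exact key 4 _ (by norm_num) (congrArg A.q hx)
  · exact key 4 _ (by norm_num) (congrArg A.r hx)
  · exact key 3 _ (by norm_num) (congrArg A.s hx)
  · exact key 1 _ (by norm_num) (by rw [pow_one]; exact congrArg A.z hx)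

theorem orderOf_root {u : rootsOfUnity 5 L} (hu : u ≠ 1) : orderOf u = 5 := by
  haveI : Fact (Nat.Prime 5) := ⟨by norm_num⟩
  exact orderOf_eq_prime (Subtype.ext (Units.ext (by simpa using root_pow u))) hu

theorem galRoots_fixed {τ : Gal} (hτ : τ ≠ 1) {u : rootsOfUnity 5 L} (h : galRoots τ u = u) : u = 1 := by
  by_contra hu
  obtain ⟨j, hj, hτj⟩ := gal_cases τ
  have h' : (τ : RingAut L) ((u : Lˣ) : L) = ((u : Lˣ) : L) :=
    congrArg (fun v : rootsOfUnity 5 L => ((v : Lˣ) : L)) h
  rw [hτj, fr_pow_apply] at h'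
  have hj0 : j ≠ 0 := fun e => hτ (Subtype.ext (by rw [hτj, e, pow_zero]; rfl))
  have h0 : ((u : Lˣ) : L) ≠ 0 := Units.ne_zero _
  have h1 : ((u : Lˣ) : L) ^ (3 ^ j - 1) = 1 := by
    refine mul_right_cancel₀ h0 ?_
    rw [one_mul, ← pow_succ, Nat.sub_add_cancel (Nat.one_le_pow j 3 (by norm_num)), h']
  refine root_pow_ne hu ?_ h1
  interval_cases j <;> first | omega | norm_num

theorem pow_four_of_right_ne {h : H} (hh : h.right ≠ 1) : h ^ 4 = 1 := by
  have h4 : h.right ^ 4 = 1 := Subtype.ext (by
    obtain ⟨j, -, hj⟩ := gal_cases h.right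
    rw [Subgroup.coe_pow, hj, ← pow_mul, mul_comm, pow_mul, fr_pow_four, one_pow]; rfl)
  have hright : (h ^ 4).right = 1 := by
    have := map_pow (SemidirectProduct.rightHom (φ := galRoots)) h 4
    simpa [h4] using this
  have hinl : h ^ 4 = SemidirectProduct.inl (h ^ 4).left := by ext <;> simp [hright]
  have hc : h * h ^ 4 = h ^ 4 * h := (Commute.self_pow h 4).eq
  rw [hinl] at hc
  have hc' := congrArg SemidirectProduct.left hc
  simp only [SemidirectProduct.mul_left, SemidirectProduct.left_inl, SemidirectProduct.right_inl,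
    map_one, MulAut.one_apply] at hc'
  have := galRoots_fixed hh (mul_left_cancel (hc'.trans (mul_comm _ _)))
  rw [hinl, this, map_one]

theorem act_fixed {h : H} (hh : h.right = 1) (hne : h ≠ 1) {x : A} (hx : act h x = x) : x = 1 := by
  have e : h = SemidirectProduct.inl h.left := by ext <;> simp [hh]
  have hu : h.left ≠ 1 := fun e' => hne (by rw [e, e', map_one])
  rw [e, act_inl] at hx
  exact scale_fixed hu hx

/-- The square of the Frobenius automorphism. -/
def fr2 : Gal := ⟨fr ^ 2, pow_mem (Subgroup.mem_zpowers fr) 2⟩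

theorem involution_right {h : H} (h2 : h ^ 2 = 1) (hne : h ≠ 1) : h.right = fr2 := by
  obtain ⟨j, hj, hτ⟩ := gal_cases h.right
  have hr : h.right ^ 2 = 1 := by
    have := map_pow (SemidirectProduct.rightHom (φ := galRoots)) h 2
    simpa [h2] using this.symm
  have hr' : fr ^ (j * 2) = 1 := by
    rw [pow_mul, ← hτ]
    exact congrArg Subtype.val hr
  have hfr2 : fr ^ 2 ≠ 1 := fun e => by
    obtain ⟨x, hx⟩ := exists_not_fixed
    refine hx ?_
    have := fr_pow_apply 2 x
    rw [e, RingAut.one_apply] at this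
    exact this.symm
  interval_cases j
  · exfalso
    have hr0 : h.right = 1 := Subtype.ext (by rw [hτ, pow_zero]; rfl)
    have e : h = SemidirectProduct.inl h.left := by ext <;> simp [hr0]
    have hu : h.left ≠ 1 := fun e' => hne (by rw [e, e', map_one])
    rw [e, ← map_pow, ← map_one (SemidirectProduct.inl (φ := galRoots))] at h2
    have h5 := orderOf_dvd_of_pow_eq_one (SemidirectProduct.inl_injective h2)
    rw [orderOf_root hu] at h5
    norm_num at h5
  · exact absurd hr' hfr2
  · exact Subtype.ext hτ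
  · exfalso
    refine hfr2 ?_
    have := fr_pow_four
    rw [show fr ^ (3 * 2) = fr ^ 4 * fr ^ 2 by rw [← pow_add], this, one_mul] at hr'
    exact hr'

theorem cube_of_fixed {h : H} (h2 : h ^ 2 = 1) (hne : h ≠ 1) {x : A} (hx : act h x = x) : x ^ 3 = 1 := by
  have hr := involution_right h2 hne
  set u := h.left with hu
  set w : rootsOfUnity 5 L := u ^ 3 with hw
  have hfw : ∀ v : rootsOfUnity 5 L, galRoots fr2 v = v⁻¹ := fun v => by
    refine eq_inv_of_mul_eq_one_left (Subtype.ext (Units.ext ?_))
    show (fr ^ 2) ((v : Lˣ) : L) * ((v : Lˣ) : L) = 1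
    rw [fr_pow_apply, ← pow_succ, show 3 ^ 2 + 1 = 5 * 2 from rfl, pow_mul, root_pow, one_pow]
  have hconj : h = SemidirectProduct.inl w * SemidirectProduct.inr fr2 *
      (SemidirectProduct.inl w)⁻¹ := by
    rw [mul_assoc, ← map_inv]
    ext1
    · simp only [SemidirectProduct.mul_left, SemidirectProduct.left_inl, SemidirectProduct.right_inl,
        SemidirectProduct.left_inr, SemidirectProduct.right_inr, map_one, MulAut.one_apply, one_mul]
      rw [hfw, inv_inv, hw, ← pow_add, ← hu]
      have : u ^ 5 = 1 := Subtype.ext (Units.ext (by simpa using root_pow u))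
      rw [show 3 + 3 = 5 + 1 from rfl, pow_add, this, one_mul, pow_one]
    · simp [hr]
  set y := (act (SemidirectProduct.inl w))⁻¹ x with hy
  have hy2 : semi (fr ^ 2) y = y := by
    rw [hconj, map_mul, map_mul, map_inv, MulAut.mul_apply, MulAut.mul_apply, ← hy, act_inr] at hx
    refine (act (SemidirectProduct.inl w)).injective (hx.trans ?_)
    rw [hy, MulAut.apply_inv_self]
  have h9 : ∀ v : L, (fr ^ 2) v = v → v ^ 9 = v := fun v hv => by
    rw [fr_pow_apply] at hv; exact hv
  have ha := h9 _ (congrArg A.a hy2)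
  have hc := h9 _ (congrArg A.c hy2)
  have hy3 : y ^ 3 = 1 := by
    rw [cube_eq, one_def]
    ext <;> simp only
    have e1 : ∀ v : L, v ^ 9 = v → t3 v = t1 v := fun v hv => by
      rw [t3_apply, t1_apply, show 27 = 9 * 3 from rfl, pow_mul, hv]
    rw [e1 _ ha, e1 _ hc, sub_self]
  have := congrArg (act (SemidirectProduct.inl w)) hy3
  rw [map_pow, map_one, hy, MulAut.apply_inv_self] at this
  exact this

/-- The witness. -/
abbrev W := A ⋊[act] H

instance instFiniteH : Finite H := Finite.of_equiv _ SemidirectProduct.equivProd.symm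

instance instFiniteW : Finite W := Finite.of_equiv _ SemidirectProduct.equivProd.symm

theorem odd_card_A : Odd (Nat.card A) := by rw [card_A]; exact (by decide : Odd 3).pow

theorem orderOf_W (g : W) :
    orderOf g ∈ ({1, 2, 3, 4, 5, 6, 9, 12} : Set ℕ) := by
  by_cases h1 : g.right = 1
  · have e : g = SemidirectProduct.inl g.left := by ext <;> simp [h1]
    rw [e, orderOf_injective _ SemidirectProduct.inl_injective]
    obtain ⟨i, hi, hd⟩ := (Nat.dvd_prime_pow Nat.prime_three).mp
      (show orderOf g.left ∣ 3 ^ 2 from orderOf_dvd_of_pow_eq_one (pow_nine _))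
    interval_cases i <;> simp [hd]
  by_cases h2 : g.right.right = 1
  · -- order five
    have hfpf : Function.Surjective fun y : A => y * act g.right y⁻¹ := by
      refine (Finite.injective_iff_surjective).mp fun y y' h => ?_
      have h' : y'⁻¹ * y = act g.right (y'⁻¹ * y) := by
        simp only [map_inv, map_mul] at h ⊢
        have := congrArg (fun v => y'⁻¹ * v * act g.right y) h
        simpa [mul_assoc] using this
      exact (inv_mul_eq_one.mp (act_fixed h2 h1 h'.symm)).symm
    obtain ⟨y, hy⟩ := hfpf g.left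
    have e : g = SemidirectProduct.inl y * SemidirectProduct.inr g.right *
        (SemidirectProduct.inl y)⁻¹ := by
      rw [mul_assoc, ← map_inv]
      ext1
      · simp only [SemidirectProduct.mul_left, SemidirectProduct.left_inl, SemidirectProduct.right_inl,
          SemidirectProduct.left_inr, SemidirectProduct.right_inr, map_one, MulAut.one_apply, one_mul]
        exact hy.symm
      · simp
    rw [e, ← MulAut.conj_apply, MulEquiv.orderOf_eq,
      orderOf_injective _ SemidirectProduct.inr_injective]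
    have e2 : g.right = SemidirectProduct.inl g.right.left := by ext <;> simp [h2]
    rw [e2, orderOf_injective _ SemidirectProduct.inl_injective,
      orderOf_root fun e' => h1 (by rw [e2, e', map_one])]
    simp
  -- even order
  set n := orderOf g.right with hn
  have hn4 : n ∣ 4 := orderOf_dvd_of_pow_eq_one (pow_four_of_right_ne h2)
  have hn1 : n ≠ 1 := fun e => h1 (orderOf_eq_one_iff.mp e)
  have hne : n = 2 ∨ n = 4 := by
    obtain ⟨i, hi, hd⟩ := (Nat.dvd_prime_pow Nat.prime_two).mp (show n ∣ 2 ^ 2 from hn4)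
    interval_cases i
    · exact absurd hd hn1
    · exact Or.inl hd
    · exact Or.inr hd
  set k := g ^ (9 * (n / 2)) with hk
  have hkr : k.right = g.right ^ (9 * (n / 2)) := map_pow (SemidirectProduct.rightHom (φ := act)) g _
  have hkr1 : k.right ≠ 1 := by
    rw [hkr]
    intro e
    have := orderOf_dvd_of_pow_eq_one e
    rw [← hn] at this
    rcases hne with e' | e' <;> rw [e'] at this <;> norm_num at this
  have hkr2 : k.right ^ 2 = 1 := by
    rw [hkr, ← pow_mul]
    refine orderOf_dvd_iff_pow_eq_one.mp ?_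
    rw [← hn]
    rcases hne with e | e <;> rw [e] <;> norm_num
  have hgn : (g ^ n).right = 1 := by
    have := map_pow (SemidirectProduct.rightHom (φ := act)) g n
    rw [hn] at this ⊢
    simpa [pow_orderOf_eq_one] using this
  have hk2 : k ^ 2 = 1 := by
    have e : g ^ n = SemidirectProduct.inl (g ^ n).left := by ext <;> simp [hgn]
    rw [hk, ← pow_mul, show 9 * (n / 2) * 2 = n * 9 by rcases hne with e | e <;> rw [e], pow_mul, e,
      ← map_pow, pow_nine, map_one]
  -- conjugate the involution into the complement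
  have hxx : k.left * act k.right k.left = 1 := by
    have := congrArg SemidirectProduct.left hk2
    simpa [pow_two] using this
  obtain ⟨r, hr2, hr⟩ : ∃ r : A, r ^ 2 = k.left ∧ act k.right r = r⁻¹ := by
    obtain ⟨i, hi⟩ := odd_card_A
    have h1' : k.left ^ (2 * i + 1) = 1 := hi ▸ pow_card_eq_one'
    refine ⟨k.left ^ (i + 1), by rw [← pow_mul, show (i + 1) * 2 = (2 * i + 1) + 1 by ring, pow_add, h1',
      one_mul, pow_one], ?_⟩
    rw [map_pow, eq_inv_of_mul_eq_one_right hxx, inv_pow]
  set c : W := SemidirectProduct.inl r with hc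
  have hkc : c⁻¹ * k * c = SemidirectProduct.inr k.right := by
    rw [hc, ← map_inv]
    ext1
    · simp only [SemidirectProduct.mul_left, SemidirectProduct.left_inl, SemidirectProduct.right_inl,
        SemidirectProduct.left_inr, map_one, MulAut.one_apply, SemidirectProduct.mul_right, one_mul]
      rw [hr, ← hr2]
      group
    · simp
  set g' := c⁻¹ * g * c with hg'
  have hg'r : g'.right = g.right := by simp [hg', hc]
  have hcomm : g' * SemidirectProduct.inr k.right = SemidirectProduct.inr k.right * g' := by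
    have : g * k = k * g := (Commute.self_pow g _).eq
    rw [← hkc, hg']
    calc c⁻¹ * g * c * (c⁻¹ * k * c) = c⁻¹ * (g * k) * c := by group
      _ = c⁻¹ * (k * g) * c := by rw [this]
      _ = _ := by group
  have hfix : act k.right g'.left = g'.left := by
    have := congrArg SemidirectProduct.left hcomm
    simpa [SemidirectProduct.mul_left] using this.symm
  have hrcomm : k.right * g.right = g.right * k.right := by
    rw [hkr]; exact (Commute.pow_self g.right _).eq
  have hfixpow : ∀ m : ℕ, act k.right (g' ^ m).left = (g' ^ m).left := by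
    intro m
    induction m with
    | zero => simp
    | succ m ih =>
      have hpr : (g' ^ m).right = g.right ^ m := by
        have := map_pow (SemidirectProduct.rightHom (φ := act)) g' m
        simpa [hg'r] using this
      rw [pow_succ, SemidirectProduct.mul_left, map_mul, ih, ← MulAut.mul_apply, ← map_mul, hpr,
        (Commute.pow_right hrcomm m).eq, map_mul, MulAut.mul_apply, hfix]
  have hg3 : g ^ (n * 3) = 1 := by
    have h3 := cube_of_fixed hkr2 hkr1 (hfixpow n)
    have e : g' ^ n = SemidirectProduct.inl (g' ^ n).left := by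
      have := map_pow (SemidirectProduct.rightHom (φ := act)) g' n
      rw [SemidirectProduct.rightHom_eq_right] at this
      simp only [hg'r, hn, pow_orderOf_eq_one] at this
      ext1
      · simp
      · simpa [hn] using this
    have h4 : g' ^ (n * 3) = 1 := by rw [pow_mul, e, ← map_pow, h3, map_one]
    have h5 : c⁻¹ * g ^ (n * 3) * c = 1 := by
      rw [← h4, hg']
      simpa using (conj_pow (a := c⁻¹) (b := g) (i := n * 3)).symm
    exact (conj_eq_one_iff (a := c⁻¹)).mp (by simpa using h5)
  have hd := orderOf_dvd_of_pow_eq_one hg3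
  have hdn : n ∣ orderOf g := by rw [hn]; exact orderOf_map_dvd (SemidirectProduct.rightHom (φ := act)) g
  have key : ∀ d < 13, ∀ n ∈ [2, 4], n ∣ d → d ∣ n * 3 → d ∈ [2, 4, 6, 12] := by decide
  have hlt : orderOf g < 13 := by
    have := Nat.le_of_dvd (by rcases hne with e | e <;> rw [e] <;> norm_num) hd
    rcases hne with e | e <;> rw [e] at this <;> omega
  have hm := key _ hlt n (by rcases hne with e | e <;> simp [e]) hdn hd
  simp only [List.mem_cons, List.not_mem_nil, or_false] at hm
  rcases hm with e | e | e | e <;> simp [e]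

theorem range_orderOf_W : Set.range (orderOf : W → ℕ) = {1, 2, 3, 4, 5, 6, 9, 12} := by
  refine Set.Subset.antisymm (fun d => by rintro ⟨g, rfl⟩; exact orderOf_W g) ?_
  haveI : Fact (Nat.Prime 3) := ⟨Nat.prime_three⟩
  have hdiv : ∀ (g : W) (d : ℕ), d ∣ orderOf g → d ∈ Set.range (orderOf : W → ℕ) := fun g d hd =>
    ⟨g ^ (orderOf g / d), orderOf_pow_orderOf_div (orderOf_pos g).ne' hd⟩
  -- order nine
  obtain ⟨a, ha⟩ := exists_not_fixed
  let y : A := ⟨a, 1, 1, 0, 0, 0, 0, 0⟩
  have hy : orderOf y = 9 := by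
    refine orderOf_eq_prime_pow (p := 3) (n := 1) (fun h => ha ?_) (pow_nine y)
    rw [pow_one, cube_eq, one_def] at h
    have h0 := congrArg A.z h
    simp only [y, map_one, mul_one] at h0
    rw [t3_apply, t1_apply] at h0
    refine sub_eq_zero.mp (eq_zero_of_pow_eq_zero (n := 3) ?_)
    rw [← t1_apply, map_sub, t1_apply, t1_apply, ← pow_mul]
    exact h0
  -- order five
  obtain ⟨v, hv⟩ : ∃ v : Lˣ, orderOf v = 5 := by
    haveI : Fact (Nat.Prime 5) := ⟨by norm_num⟩
    refine exists_prime_orderOf_dvd_card' 5 ?_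
    rw [Nat.card_units, card_L]; norm_num
  let u : rootsOfUnity 5 L := ⟨v, (mem_rootsOfUnity 5 v).mpr (hv ▸ pow_orderOf_eq_one v)⟩
  -- order twelve
  let τ : Gal := ⟨fr, Subgroup.mem_zpowers fr⟩
  have hτ : orderOf τ = 4 := by
    rw [← Subgroup.orderOf_coe]
    refine orderOf_eq_prime_pow (p := 2) (n := 1) (fun e => ?_) fr_pow_four
    rw [pow_one] at e
    obtain ⟨x, hx⟩ := exists_not_fixed
    refine hx ?_
    have := fr_pow_apply 2 x
    rw [e, RingAut.one_apply] at this
    exact this.symm
  let f : A := ⟨1, 0, 0, 0, 0, 0, 0, 0⟩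
  have hf : orderOf f = 3 := by
    refine orderOf_eq_prime ?_ fun e => one_ne_zero (congrArg A.a e : (1 : L) = 0)
    rw [cube_eq, one_def]
    ext <;> simp [f]
  have h12 : 12 ∈ Set.range (orderOf : W → ℕ) := by
    let g : W := SemidirectProduct.inl f * SemidirectProduct.inr (SemidirectProduct.inr τ)
    have hc : Commute (SemidirectProduct.inl f : W)
        (SemidirectProduct.inr (SemidirectProduct.inr τ)) := by
      ext1
      · simp only [SemidirectProduct.mul_left, SemidirectProduct.left_inl, SemidirectProduct.right_inl,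
          SemidirectProduct.left_inr, SemidirectProduct.right_inr, map_one, MulAut.one_apply, mul_one,
          one_mul, act_inr]
        ext <;> simp [semi, f]
      · simp
    refine ⟨g, ?_⟩
    rw [hc.orderOf_mul_eq_mul_orderOf_of_coprime] <;>
      rw [orderOf_injective _ SemidirectProduct.inl_injective,
        orderOf_injective _ SemidirectProduct.inr_injective,
        orderOf_injective _ SemidirectProduct.inr_injective, hf, hτ]
    norm_num
  obtain ⟨g12, hg12⟩ := h12
  intro d hd
  simp only [Set.mem_insert_iff, Set.mem_singleton_iff] at hd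
  rcases hd with rfl | rfl | rfl | rfl | rfl | rfl | rfl | rfl
  · exact ⟨1, orderOf_one⟩
  · exact hdiv g12 2 (by rw [hg12]; norm_num)
  · exact hdiv g12 3 (by rw [hg12]; norm_num)
  · exact hdiv g12 4 (by rw [hg12]; norm_num)
  · refine ⟨SemidirectProduct.inr (SemidirectProduct.inl u), ?_⟩
    rw [orderOf_injective _ SemidirectProduct.inr_injective,
      orderOf_injective _ SemidirectProduct.inl_injective, ← Subgroup.orderOf_coe]
    exact hv
  · exact hdiv g12 6 (by rw [hg12]; norm_num)
  · exact ⟨SemidirectProduct.inl y, by rw [orderOf_injective _ SemidirectProduct.inl_injective, hy]⟩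
  · exact ⟨g12, hg12⟩

theorem isSolvable_W : Group.IsSolvable W := by
  haveI : Fact (Nat.Prime 3) := ⟨Nat.prime_three⟩
  have : Group.IsNilpotent A := (IsPGroup.of_card card_A).isNilpotent
  have hA : Group.IsSolvable A := inferInstance
  have hH : Group.IsSolvable H :=
    Group.isSolvable_of_ker_le_range (SemidirectProduct.inl : rootsOfUnity 5 L →* H)
      SemidirectProduct.rightHom (le_of_eq SemidirectProduct.range_inl_eq_ker_rightHom.symm)
  exact Group.isSolvable_of_ker_le_range (SemidirectProduct.inl : A →* W) SemidirectProduct.rightHom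
    (le_of_eq SemidirectProduct.range_inl_eq_ker_rightHom.symm)

end

end CfsgLib.Spectrum.Sp43Solvable
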