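import Cfsg.Agent.Lib.Suzuki.Count
import Cfsg.Agent.Lib.Spectrum.Semidirect
import Cfsg.Agent.Lib.MathieuOut.Abstract

/-!
The group `(M₄(8)ᵏ) ⋊ (Sz(8) : 3)`: element orders that are products of two primes.
-/

set_option autoImplicit false
set_option linter.unusedSectionVars false

namespace CfsgLib.Spectrum.SzEight

open Matrix Cfsg.Lie CfsgLib.Suzuki CfsgLib.SuzukiLaws Polynomial

noncomputable section

variable {K : Type} [Field K] [Fintype K] [CharP K 2]

/-- The Suzuki group over `K`, with the exponent for eight elements. -/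
abbrev S (K : Type) [Field K] : Subgroup (GL (Fin 4) K) := Sz K (2 ^ (1 + 1))

/-- The field automorphism of order three. -/
abbrev C3 (K : Type) [Field K] [Fintype K] [CharP K 2] : Subgroup (RingAut K) :=
  Subgroup.zpowers (frobeniusEquiv K 2 : RingAut K)

/-- The twist of the second factor. -/
def σ : K →+* K := iterateFrobenius K 2 (1 + 1)

theorem σ_apply (x : K) : σ x = x ^ 2 ^ (1 + 1) := iterateFrobenius_def 2 _ x

/-- A field endomorphism applied to the entries. -/
def mapGL (τ : K →+* K) : GL (Fin 4) K →* GL (Fin 4) K := Units.map (τ.mapMatrix : Matrix (Fin 4) (Fin 4) K →+* Matrix (Fin 4) (Fin 4) K).toMonoidHom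

theorem mapGL_val (τ : K →+* K) (g : GL (Fin 4) K) :
    (mapGL τ g).1 = (g.1 : Matrix (Fin 4) (Fin 4) K).map τ := rfl

theorem mem_mapGL (τ : K →+* K) {g : GL (Fin 4) K} (hg : g ∈ S K) : mapGL τ g ∈ S K := by
  obtain ⟨hsp, hst⟩ := sz_mem hg
  refine Subgroup.subset_closure ⟨fun u v => ?_, ?_⟩
  · have hJ : (antiJ : Matrix (Fin 4) (Fin 4) K).map τ = antiJ := by
      ext i j; fin_cases i <;> fin_cases j <;> simp [antiJ]
    have hM : ((mapGL τ g).1)ᵀ * antiJ * (mapGL τ g).1 = antiJ := by
      rw [mapGL_val, ← hJ, ← Matrix.transpose_map, ← Matrix.map_mul, ← Matrix.map_mul, sp4_col hsp]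
    have halt : ∀ a b : Fin 4 → K, altForm4 a b = a ⬝ᵥ (antiJ *ᵥ b) := fun a b => by
      simp [altForm4, antiJ, dotProduct, Matrix.mulVec, Fin.sum_univ_four]
    rw [Units.coeHom_apply, halt, halt]
    conv_rhs => rw [← hM]
    rw [← Matrix.mulVec_mulVec, ← Matrix.mulVec_mulVec, Matrix.dotProduct_mulVec u,
      Matrix.vecMul_transpose]
  · ext p r
    have h := congrArg τ (congrFun (congrFun hst p) r)
    simp only [star4, Matrix.of_apply, Matrix.map_apply, map_sub, map_mul, map_pow] at h
    simpa [star4, mapGL_val] using h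

/-- The action of the field automorphisms on the Suzuki group. -/
def actS (K : Type) [Field K] [Fintype K] [CharP K 2] : C3 K →* MulAut (S K) where
  toFun τ :=
    { toFun := fun g => ⟨mapGL (τ : RingAut K).toRingHom g.1, mem_mapGL _ g.2⟩
      invFun := fun g => ⟨mapGL (τ : RingAut K).symm.toRingHom g.1, mem_mapGL _ g.2⟩
      left_inv := fun g => by
        refine Subtype.ext (Units.ext (Matrix.ext fun i j => ?_))
        exact (τ : RingAut K).symm_apply_apply _
      right_inv := fun g => by
        refine Subtype.ext (Units.ext (Matrix.ext fun i j => ?_))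
        exact (τ : RingAut K).apply_symm_apply _
      map_mul' := fun g h => Subtype.ext (map_mul _ _ _) }
  map_one' := MulEquiv.ext fun _ => Subtype.ext (Units.ext (Matrix.ext fun _ _ => rfl))
  map_mul' _ _ := MulEquiv.ext fun _ => Subtype.ext (Units.ext (Matrix.ext fun _ _ => rfl))

/-- `Sz(8) : 3`. -/
abbrev Q (K : Type) [Field K] [Fintype K] [CharP K 2] : Type := S K ⋊[actS K] C3 K

instance instFiniteQ : Finite (Q K) := by
  haveI : Finite (RingAut K) :=
    Finite.of_injective (fun e : RingAut K => (e : K → K)) DFunLike.coe_injective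
  haveI : Finite (GL (Fin 4) K) := inferInstance
  exact Finite.of_equiv _ SemidirectProduct.equivProd.symm

/-- The matrix of the Suzuki part. -/
def lm (q : Q K) : Matrix (Fin 4) (Fin 4) K := q.left.1.1

/-- The semilinear action on matrices. -/
def act (q : Q K) (X : Matrix (Fin 4) (Fin 4) K) : Matrix (Fin 4) (Fin 4) K :=
  lm q * X.map (q.right : RingAut K) * ((lm q).map σ)ᵀ

theorem act_mul (p q : Q K) (X : Matrix (Fin 4) (Fin 4) K) : act (p * q) X = act p (act q X) := by
  have h1 : lm (p * q) = lm p * (lm q).map (p.right : RingAut K) := rfl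
  have h2 : X.map ((p * q).right : RingAut K) =
      (X.map (q.right : RingAut K)).map (p.right : RingAut K) := rfl
  have h3 : ((lm q).map (p.right : RingAut K)).map σ = ((lm q).map σ).map (p.right : RingAut K) := by
    ext i j
    simp [σ_apply]
  simp only [act, h1, h2, Matrix.map_mul, h3, Matrix.transpose_mul, Matrix.transpose_map]
  simp only [Matrix.mul_assoc]

theorem act_one (X : Matrix (Fin 4) (Fin 4) K) : act (1 : Q K) X = X := by
  have h1 : lm (1 : Q K) = 1 := rfl
  have h2 : X.map ((1 : Q K).right : RingAut K) = X := rfl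
  simp [act, h1, h2]

theorem act_add (q : Q K) (X Y : Matrix (Fin 4) (Fin 4) K) : act q (X + Y) = act q X + act q Y := by
  simp only [act]
  rw [Matrix.map_add _ (map_add _), mul_add, add_mul]

/-- The action as a homomorphism. -/
def actV (K : Type) [Field K] [Fintype K] [CharP K 2] :
    Q K →* MulAut (Multiplicative (Matrix (Fin 4) (Fin 4) K)) where
  toFun q := AddEquiv.toMultiplicative
    { toFun := act q
      invFun := act q⁻¹
      left_inv := fun X => by rw [← act_mul, inv_mul_cancel, act_one]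
      right_inv := fun X => by rw [← act_mul, mul_inv_cancel, act_one]
      map_add' := act_add q }
  map_one' := MulEquiv.ext fun v => congrArg Multiplicative.ofAdd (act_one v.toAdd)
  map_mul' p q := MulEquiv.ext fun v => congrArg Multiplicative.ofAdd (act_mul p q v.toAdd)

theorem two_torsion (v : Multiplicative (Matrix (Fin 4) (Fin 4) K)) : v ^ 2 = 1 := by
  refine Multiplicative.toAdd.injective ?_
  ext i j
  show (2 • Multiplicative.toAdd v) i j = 0
  rw [two_nsmul, Matrix.add_apply, CharTwo.add_self_eq_zero]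

variable (hK : Fintype.card K = 2 ^ (2 * 1 + 1))

include hK in
theorem pow_eight (x : K) : x ^ 8 = x := by
  have h := FiniteField.pow_card x
  rwa [hK, show 2 ^ (2 * 1 + 1) = 8 by norm_num] at h

include hK in
theorem card_C3 : Nat.card (C3 K) = 3 := by
  haveI : Fact (Nat.Prime 3) := ⟨Nat.prime_three⟩
  rw [Nat.card_zpowers]
  refine orderOf_eq_prime (RingEquiv.ext fun x => ?_) fun h => ?_
  · show frobeniusEquiv K 2 (frobeniusEquiv K 2 (frobeniusEquiv K 2 x)) = x
    simp only [frobeniusEquiv_apply, frobenius_def, ← pow_mul]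
    exact pow_eight hK x
  · classical
    have hsub : (Finset.univ : Finset K) ⊆ {0, 1} := fun x _ => by
      have e : x ^ 2 = x := by
        have := congrArg (fun f : RingAut K => f x) h
        simpa [frobeniusEquiv_apply, frobenius_def] using this
      rcases eq_or_ne x 0 with rfl | hx
      · simp
      · simp [(mul_eq_left₀ hx).1 (by rwa [← pow_two])]
    have := (Finset.card_le_card hsub).trans Finset.card_le_two
    rw [Finset.card_univ, hK] at this
    norm_num at this

include hK in
theorem card_Q : Nat.card (Q K) = 87360 := by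
  rw [SemidirectProduct.card, card_group hK le_rfl, card_C3 hK]
  norm_num

include hK in
theorem eq_inl {x : Q K} {n : ℕ} (h : x ^ n = 1) (hn : Nat.Coprime n 3) :
    x = SemidirectProduct.inl x.left := by
  have h1 : x.right ^ n = 1 := by
    exact (map_pow (SemidirectProduct.rightHom (φ := actS K)) x n).symm.trans (by rw [h, map_one])
  have h2 : x.right ^ 3 = 1 := by rw [← card_C3 hK, pow_card_eq_one']
  have h3 : x.right = 1 := by
    rw [← orderOf_eq_one_iff]
    exact Nat.eq_one_of_dvd_coprimes hn (orderOf_dvd_of_pow_eq_one h1) (orderOf_dvd_of_pow_eq_one h2)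
  ext1
  · simp
  · simp [h3]

include hK in
theorem exists_S {n : ℕ} (hn : Nat.Coprime n 3) {x : Q K} (hx : orderOf x = n) :
    ∃ g : S K, orderOf g = n := by
  refine ⟨x.left, ?_⟩
  rw [← orderOf_injective _ (SemidirectProduct.inl_injective (φ := actS K)) x.left,
    ← eq_inl hK (hx ▸ pow_orderOf_eq_one x) hn, hx]

include hK in
theorem no_order_26 (g : S K) : orderOf g ≠ 26 := by
  intro h
  have h2 : orderOf (g ^ 2) = 13 := by
    rw [orderOf_pow_of_dvd two_ne_zero (by rw [h]; norm_num), h]
  have h1 := orderOf_dvd_of_pow_eq_one (mem_centralizer_pow hK (y := g ^ 2) (p := 13) (by norm_num)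
    (by rw [hK]; norm_num) h2 ((Commute.refl g).pow_right 2))
  rw [h, hK] at h1
  norm_num at h1

include hK in
theorem no_order_seven_mul {a : ℕ} (ha : a = 5 ∨ a = 13) (g : S K) : orderOf g ≠ a * 7 := by
  intro h
  have ha0 : a ≠ 0 := by rcases ha with rfl | rfl <;> norm_num
  have hw : orderOf (g ^ a) = 7 := by
    rw [orderOf_pow_of_dvd ha0 (by rw [h]; exact dvd_mul_right a 7), h,
      Nat.mul_div_cancel_left _ (Nat.pos_of_ne_zero ha0)]
  obtain ⟨p, hp⟩ := exists_fix_of_prime hK (r := 7) (by norm_num) hw (by rw [hK]; norm_num)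
  have h1 : g ^ a ≠ 1 := fun e => by rw [e, orderOf_one] at hw; norm_num at hw
  have h2 := orderOf_dvd_of_fix hK le_rfl (fix_of_commute hK h1 ((Commute.refl g).pow_right a) hp)
  rw [h, hK] at h2
  rcases ha with rfl | rfl <;> norm_num at h2

include hK in
theorem no_order_65 (g : S K) : orderOf g ≠ 65 := by
  intro h
  haveI : Fact (Nat.Prime 13) := ⟨by norm_num⟩
  have hy : orderOf (g ^ 5) = 13 := by
    rw [orderOf_pow_of_dvd (by norm_num) (by rw [h]; norm_num), h]
  obtain ⟨A, -, hA, hcent, -⟩ := exists_tori hK le_rfl 13 (by norm_num)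
  obtain ⟨u, hu⟩ := exists_prime_orderOf_dvd_card' (G := A) 13 (by rw [hA])
  have hu' : orderOf (u : S K) = 13 := by rw [Subgroup.orderOf_coe, hu]
  obtain ⟨k, j, -, hk⟩ := CfsgLib.MathieuOut.exists_conj_zpowers (p := 13)
    (by rw [card_group hK le_rfl]; norm_num) hu' hy
  have hmem : k * g ^ 5 * k⁻¹ ∈ A := hk ▸ A.pow_mem u.2 j
  have hne : k * g ^ 5 * k⁻¹ ≠ 1 := fun e => by
    rw [conj_eq_one_iff] at e
    rw [e, orderOf_one] at hy
    norm_num at hy
  have hg : k * g * k⁻¹ ∈ A := by
    rw [← hcent _ hmem hne, Subgroup.mem_centralizer_singleton_iff, ← conj_pow]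
    exact (Commute.pow_right (Commute.refl _) 5).eq
  have h1 := A.orderOf_dvd_natCard hg
  rw [hA, orderOf_conj_eq g k, h] at h1
  norm_num at h1
where
  orderOf_conj_eq (g k : S K) : orderOf (k * g * k⁻¹) = orderOf g :=
    orderOf_injective (MulAut.conj k).toMonoidHom (MulAut.conj k).injective g

include hK in
/-- The entries of an element fixed by the field automorphism lie in the prime field. -/
theorem sq_eq_self_of_commute {B : S K}
    (h : Commute (SemidirectProduct.inl B : Q K)
      (SemidirectProduct.inr ⟨frobeniusEquiv K 2, Subgroup.mem_zpowers _⟩)) (i j : Fin 4) :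
    B.1.1 i j ^ 2 = B.1.1 i j := by
  have h' := congrArg SemidirectProduct.left h.eq
  simp only [SemidirectProduct.mul_left, SemidirectProduct.left_inl, SemidirectProduct.left_inr,
    SemidirectProduct.right_inl, SemidirectProduct.right_inr, map_one, mul_one, one_mul] at h'
  have h'' := congrArg (fun b : S K => b.1.1 i j) h'
  exact (h''.trans (frobenius_def 2 (B.1.1 i j))).symm

include hK in
theorem not_conj_torus_fixed {B : S K} (hB : orderOf B = 7)
    (hF : ∀ i j, B.1.1 i j ^ 2 = B.1.1 i j) : False := by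
  haveI : Fact (Nat.Prime 7) := ⟨by norm_num⟩
  classical
  obtain ⟨u, hu⟩ := exists_prime_orderOf_dvd_card' (G := Kˣ) 7
    (by rw [Nat.card_units, Nat.card_eq_fintype_card, hK]; norm_num)
  have hTu : orderOf (T hK u) = 7 := by
    rw [← hu]
    exact orderOf_injective (MonoidHom.mk' (T hK) fun a b => (T_mul hK a b).symm) (T_injective hK) u
  obtain ⟨k, j, hj, hk⟩ := CfsgLib.MathieuOut.exists_conj_zpowers (p := 7)
    (by rw [card_group hK le_rfl]; norm_num) hTu hB
  have hpow : T hK u ^ j = T hK (u ^ j) :=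
    (map_pow (MonoidHom.mk' (T hK) fun a b => (T_mul hK a b).symm) u j).symm
  rw [hpow] at hk
  set s : K := ((u ^ j : Kˣ) : K) with hs
  have hs0 : s ≠ 0 := (u ^ j).ne_zero
  have hs7 : s ^ 7 = 1 := by
    rw [hs, ← Units.val_pow_eq_pow_val, ← pow_mul, mul_comm, pow_mul, ← hu, pow_orderOf_eq_one,
      one_pow, Units.val_one]
  have hs1 : s ≠ 1 := fun e => hj (hu ▸ orderOf_dvd_of_pow_eq_one (Units.ext (e.trans Units.val_one.symm)))
  have hinv : ((u ^ j : Kˣ)⁻¹ : Kˣ).1 = s ^ 6 := by
    rw [Units.val_inv_eq_inv_val, ← hs]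
    exact inv_eq_of_mul_eq_one_right (by rw [← hs7]; ring)
  have htr : (T hK (u ^ j)).1.1.trace = B.1.1.trace := by
    rw [← hk]
    show (k.1.1 * B.1.1 * (k.1⁻¹).1).trace = _
    exact Matrix.trace_units_conj k.1 B.1.1
  have htsq : B.1.1.trace ^ 2 = B.1.1.trace := by
    simp only [Matrix.trace, Matrix.diag]
    rw [← frobenius_def, map_sum]
    exact Finset.sum_congr rfl fun i _ => by rw [frobenius_def]; exact hF i i
  have hval : (T hK (u ^ j)).1.1.trace = s ^ 5 + s + s ^ 6 + s ^ 2 := by
    simp [T, torus, Matrix.trace, Fin.sum_univ_four, ← hs, hinv, -Units.val_pow_eq_pow_val]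
    linear_combination (s ^ 23 + s ^ 16 + s ^ 9 + s ^ 2) * hs7
  rw [← htr, hval] at htsq
  have h2 : (2 : K) = 0 := CharTwo.two_eq_zero
  have hsum : 1 + s + s ^ 2 + s ^ 3 + s ^ 4 + s ^ 5 + s ^ 6 = 0 := by
    have : (s - 1) * (1 + s + s ^ 2 + s ^ 3 + s ^ 4 + s ^ 5 + s ^ 6) = 0 := by
      linear_combination hs7
    exact (mul_eq_zero.1 this).resolve_left (sub_ne_zero.2 hs1)
  -- `e = s³ + s⁴` lies in the prime field
  have he : (s ^ 3 + s ^ 4) ^ 2 = s ^ 3 + s ^ 4 := by
    rw [show s ^ 5 + s + s ^ 6 + s ^ 2 = -(1 + (s ^ 3 + s ^ 4)) by linear_combination hsum] at htsq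
    linear_combination htsq - (1 + 2 * (s ^ 3 + s ^ 4)) * h2
  rcases eq_or_ne (s ^ 3 + s ^ 4) 0 with h | h
  · have : s ^ 3 * (1 + s) = 0 := by linear_combination h
    exact hs1 (by linear_combination ((mul_eq_zero.1 this).resolve_left (pow_ne_zero _ hs0)) - h2)
  · have h1 : s ^ 3 + s ^ 4 = 1 := (mul_eq_left₀ h).1 (by rw [← pow_two]; exact he)
    have e6 : (s ^ 3) ^ 2 + s ^ 3 + 1 = 0 := by
      linear_combination s ^ 3 * h1 - hs7 + (s ^ 3) * h2
    have e3 : (s ^ 3) ^ 3 = 1 := by linear_combination (s ^ 3 - 1) * e6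
    have e7 : (s ^ 3) ^ 7 = 1 := by rw [← pow_mul, mul_comm, pow_mul, hs7, one_pow]
    have : s ^ 3 = 1 := by
      rw [show (7 : ℕ) = 3 * 2 + 1 from rfl, pow_succ, pow_mul, e3, one_pow, one_mul] at e7
      exact e7
    rw [this] at e6
    exact one_ne_zero (by linear_combination e6 - h2 : (1 : K) = 0)

theorem no_thirteen_fixed {B : S K} (hB : orderOf B = 13)
    (hF : ∀ i j, B.1.1 i j ^ 2 = B.1.1 i j) : False := by
  haveI : Fact (Nat.Prime 13) := ⟨by norm_num⟩
  classical
  let c : ZMod 2 →+* K := ZMod.castHom dvd_rfl K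
  let N : Matrix (Fin 4) (Fin 4) (ZMod 2) := Matrix.of fun i j => if B.1.1 i j = 0 then 0 else 1
  have hN : c.mapMatrix N = B.1.1 := by
    ext i j
    by_cases h : B.1.1 i j = 0
    · simp [N, h, c]
    · simp [N, h, c, (mul_eq_left₀ h).1 (by rw [← pow_two]; exact hF i j)]
  have hinj : Function.Injective c.mapMatrix (α := Matrix (Fin 4) (Fin 4) (ZMod 2)) :=
    Matrix.map_injective c.injective
  have hoN : orderOf N = 13 := by
    rw [← orderOf_injective (c.mapMatrix (m := Fin 4)).toMonoidHom hinj N]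
    show orderOf (c.mapMatrix N) = 13
    rw [hN, ← hB]
    exact orderOf_injective mat mat_injective B
  have h1 : N ^ 13 = 1 := hoN ▸ pow_orderOf_eq_one N
  let u : GL (Fin 4) (ZMod 2) := Units.ofPowEqOne N 13 h1 (by norm_num)
  have h2 : orderOf u ∣ Nat.card (GL (Fin 4) (ZMod 2)) := orderOf_dvd_natCard u
  rw [← orderOf_units, show (u : Matrix (Fin 4) (Fin 4) (ZMod 2)) = N from rfl, hoN,
    Matrix.card_GL_field] at h2
  norm_num [Fin.prod_univ_four, ZMod.card] at h2

include hK in
theorem no_order_three_mul {a : ℕ} (ha : a = 7 ∨ a = 13) (x : Q K) : orderOf x ≠ 3 * a := by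
  intro hx
  haveI : Fact (Nat.Prime 3) := ⟨Nat.prime_three⟩
  have ha0 : 0 < a := by rcases ha with rfl | rfl <;> norm_num
  have hu : orderOf (x ^ a) = 3 := by
    rw [orderOf_pow_of_dvd ha0.ne' (by rw [hx]; exact dvd_mul_left a 3), hx,
      Nat.mul_div_cancel _ ha0]
  have hw : orderOf (x ^ 3) = a := by
    rw [orderOf_pow_of_dvd (by norm_num) (by rw [hx]; exact dvd_mul_right 3 a), hx,
      Nat.mul_div_cancel_left _ (by norm_num)]
  set φ : Q K := SemidirectProduct.inr ⟨frobeniusEquiv K 2, Subgroup.mem_zpowers _⟩ with hφd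
  have hφ : orderOf φ = 3 := by
    rw [hφd, orderOf_injective _ SemidirectProduct.inr_injective, Subgroup.orderOf_mk,
      ← Nat.card_zpowers, card_C3 hK]
  obtain ⟨g, j, -, hg⟩ := CfsgLib.MathieuOut.exists_conj_zpowers (p := 3)
    (by rw [card_Q hK]; norm_num) hu hφ
  -- a conjugate of `φ` is a power of `x ^ a`, hence commutes with `x ^ 3`
  have hc : Commute (g * φ * g⁻¹) (x ^ 3) :=
    hg ▸ ((((Commute.refl x).pow_pow a 3)).pow_left j)
  set w : Q K := g⁻¹ * x ^ 3 * g with hwd
  have hcw : Commute w φ := by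
    have := hc.map (MulAut.conj g⁻¹).toMonoidHom
    simp only [MulEquiv.toMonoidHom_eq_coe, MonoidHom.coe_coe, MulAut.conj_apply, inv_inv] at this
    rw [show g⁻¹ * (g * φ * g⁻¹) * g = φ by group, ← hwd] at this
    exact this.symm
  have hwo : orderOf w = a := by
    rw [hwd, ← hw]
    conv_lhs => rw [show g⁻¹ * x ^ 3 * g = g⁻¹ * x ^ 3 * g⁻¹⁻¹ by rw [inv_inv]]
    exact orderOf_injective (MulAut.conj g⁻¹).toMonoidHom (MulAut.conj g⁻¹).injective _
  have hcop : a.Coprime 3 := by rcases ha with rfl | rfl <;> norm_num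
  have hl : w = SemidirectProduct.inl w.left := eq_inl hK (hwo ▸ pow_orderOf_eq_one w) hcop
  rw [hl] at hcw
  have hF := sq_eq_self_of_commute hK hcw
  have hB : orderOf w.left = a := by
    rw [← orderOf_injective _ (SemidirectProduct.inl_injective (φ := actS K)), ← hl, hwo]
  rcases ha with rfl | rfl
  · exact not_conj_torus_fixed hK hB hF
  · exact no_thirteen_fixed hB hF

/-! ### Elements of order 13 fix no matrix -/

theorem aeval_intertwine {A B Y : Matrix (Fin 4) (Fin 4) K} (h : A * Y = Y * B) (P : K[X]) :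
    aeval A P * Y = Y * aeval B P := by
  induction P using Polynomial.induction_on with
  | C c => rw [aeval_C, aeval_C]; exact (Algebra.commutes c Y)
  | add p q hp hq => rw [map_add, map_add, add_mul, mul_add, hp, hq]
  | monomial n c ih =>
    rw [pow_succ, ← mul_assoc, map_mul, map_mul (aeval B) (C c * X ^ n), aeval_X, aeval_X, mul_assoc,
      h, ← mul_assoc, ih, mul_assoc]

include hK in
theorem minpoly_twist_ne {g : S K} (hg : orderOf g = 13) :
    (minpoly K (mat g)).map σ ≠ minpoly K (mat g) := by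
  classical
  intro he
  obtain ⟨hirr, hdeg⟩ := minpoly_facts hK (y := g) (p := 13) (by norm_num) (by rw [hK]; norm_num) hg
  set μ := minpoly K (mat g) with hμ
  have hfix : μ.map (frobenius K 2) = μ := by
    ext n
    have h4 := congrArg (fun P : K[X] => P.coeff n) he
    simp only [coeff_map, σ_apply] at h4
    rw [coeff_map, frobenius_def]
    calc μ.coeff n ^ 2 = (μ.coeff n ^ 8) ^ 2 := by rw [pow_eight hK]
      _ = ((μ.coeff n ^ 2 ^ (1 + 1)) ^ 2 ^ (1 + 1)) := by rw [← pow_mul, ← pow_mul]; norm_num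
      _ = μ.coeff n := by rw [h4, h4]
  have hexp : expand K 2 μ = μ ^ 2 := by
    conv_lhs => rw [← hfix, ← Polynomial.map_expand]
    exact Polynomial.map_frobenius_expand (p := 2) μ
  haveI := Fact.mk hirr
  set ζ := AdjoinRoot.root μ with hζ
  have hroot : ∀ i : ℕ, aeval (ζ ^ 2 ^ i) μ = 0 := by
    intro i
    induction i with
    | zero =>
      rw [pow_zero, pow_one, hζ, AdjoinRoot.aeval_eq, AdjoinRoot.mk_self]
    | succ i ih =>
      rw [pow_succ, pow_mul, ← Polynomial.expand_aeval, hexp, map_pow, ih, zero_pow two_ne_zero]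
  have ho : orderOf ζ = 13 := by
    have h := orderOf_injective (Irred.fieldHom (mat g)).toMonoidHom
      (Irred.injective (mat g) hirr (by norm_num)) ζ
    rw [← h]
    show orderOf (Irred.fieldHom (mat g) (AdjoinRoot.root (minpoly K (mat g)))) = 13
    rw [Irred.fieldHom_root, ← hg]
    exact orderOf_injective (mat (F := K) (m := 1)) mat_injective g
  set R := (μ.map (algebraMap K (AdjoinRoot μ))).roots.toFinset with hR
  have hcard : R.card ≤ 4 := by
    refine (Multiset.toFinset_card_le _).trans ((Polynomial.card_roots' _).trans ?_)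
    rw [Polynomial.natDegree_map, hdeg]
  have hsub : (Finset.range 5).image (fun i => ζ ^ 2 ^ i) ⊆ R := by
    intro y hy
    obtain ⟨i, -, rfl⟩ := Finset.mem_image.1 hy
    rw [hR, Multiset.mem_toFinset,
      Polynomial.mem_roots (Polynomial.map_ne_zero hirr.ne_zero), Polynomial.IsRoot.def,
      Polynomial.eval_map, ← Polynomial.aeval_def]
    exact hroot i
  have hinj : Set.InjOn (fun i => ζ ^ 2 ^ i) (Finset.range 5 : Set ℕ) := by
    intro i hi j hj h
    simp only [Finset.coe_range, Set.mem_Iio] at hi hj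
    have hfin : IsOfFinOrder ζ := orderOf_pos_iff.1 (by rw [ho]; norm_num)
    have h' := hfin.pow_eq_pow_iff_modEq.1 h
    rw [ho] at h'
    interval_cases i <;> interval_cases j <;> simp_all [Nat.ModEq]
  have := Finset.card_le_card hsub
  rw [Finset.card_image_of_injOn hinj, Finset.card_range] at this
  omega

theorem intertwine_of_fixed (g : S K) {X : Matrix (Fin 4) (Fin 4) K}
    (hX : act (SemidirectProduct.inl g : Q K) X = X) :
    mat g * (X * antiJ) = (X * antiJ) * (mat g).map σ := by
  have h1 : lm (SemidirectProduct.inl g : Q K) = mat g := rfl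
  have h2 : ((SemidirectProduct.inl g : Q K).right : RingAut K) = 1 := by simp
  have hX' : mat g * X * ((mat g).map σ)ᵀ = X := by
    have h3 : X.map ((1 : RingAut K) : K → K) = X := rfl
    rwa [act, h1, h2, h3] at hX
  have hcol : ((mat g).map σ)ᵀ * antiJ * (mat g).map σ = antiJ := by
    have h := sp4_col (sz_mem (mem_mapGL σ g.2)).1
    rw [mapGL_val] at h
    exact h
  generalize mat g = A at hX' hcol ⊢
  generalize A.map σ = B at hX' hcol ⊢
  calc A * (X * antiJ) = A * X * (Bᵀ * antiJ * B) := by rw [hcol, mul_assoc]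
    _ = (A * X * Bᵀ) * antiJ * B := by simp only [mul_assoc]
    _ = X * antiJ * B := by rw [hX']

include hK in
theorem fpf_thirteen {q : Q K} (hq : orderOf q = 13) {X : Matrix (Fin 4) (Fin 4) K}
    (hX : act q X = X) : X = 0 := by
  classical
  have hl := eq_inl hK (hq ▸ pow_orderOf_eq_one q) (by norm_num : Nat.Coprime 13 3)
  have hg : orderOf q.left = 13 := by
    rw [← orderOf_injective _ (SemidirectProduct.inl_injective (φ := actS K)), ← hl, hq]
  set A := mat q.left with hA
  set B : Matrix (Fin 4) (Fin 4) K := A.map σ with hB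
  have hAY := intertwine_of_fixed q.left (X := X) (by rw [hl] at hX; exact hX)
  set Y := X * antiJ with hY
  obtain ⟨hirr, hdeg⟩ := minpoly_facts hK (y := q.left) (p := 13) (by norm_num) (by rw [hK]; norm_num) hg
  set μ := minpoly K A with hμ
  have hmon : μ.Monic := minpoly.monic (Matrix.isIntegral A)
  have hBroot : aeval B (μ.map σ) = 0 := by
    have key : ∀ P : K[X], aeval B (P.map σ) = (aeval A P).map σ := by
      intro P
      induction P using Polynomial.induction_on with
      | C c =>
        simp [Matrix.algebraMap_eq_diagonal, Matrix.diagonal_map, Function.comp_def]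
      | add p r hp hr =>
        rw [Polynomial.map_add, map_add, map_add, hp, hr, Matrix.map_add _ (map_add _)]
      | monomial n c ih =>
        rw [pow_succ, ← mul_assoc, Polynomial.map_mul, map_mul, map_mul, ih, Polynomial.map_X, aeval_X,
          aeval_X, Matrix.map_mul]
    rw [key, hμ, minpoly.aeval, Matrix.map_zero _ (map_zero _)]
  have hne := minpoly_twist_ne hK hg
  rw [← hA, ← hμ] at hne
  have hcop : IsCoprime μ (μ.map σ) := by
    refine (hirr.coprime_iff_not_dvd).2 fun h => hne ?_
    exact eq_of_monic_of_dvd_of_natDegree_le hmon (hmon.map σ) h (by rw [Polynomial.natDegree_map])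
  obtain ⟨a, b, hab⟩ := hcop
  have h1 : aeval B μ * aeval B a = 1 := by
    have := congrArg (aeval B) hab
    rw [map_add, map_mul, map_mul, map_one, hBroot, mul_zero, add_zero] at this
    rw [← this, ← map_mul, ← map_mul, mul_comm]
  have hY0 : Y = 0 := by
    calc Y = Y * aeval B μ * aeval B a := by rw [mul_assoc, h1, mul_one]
      _ = 0 := by rw [← aeval_intertwine hAY, hμ, minpoly.aeval, zero_mul, zero_mul]
  calc X = X * (antiJ * antiJ) := by rw [antiJ_mul_self, mul_one]
    _ = 0 := by rw [← mul_assoc, ← hY, hY0, zero_mul]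

/-! ### Witnesses -/

/-- The prime field matrix of an element of order five. -/
def M5 : Matrix (Fin 4) (Fin 4) (ZMod 2) := !![1, 1, 0, 1; 1, 0, 1, 0; 0, 1, 0, 0; 1, 0, 0, 0]

include hK in
theorem five_val : (U hK 0 1 * W hK).1.1 = (ZMod.castHom dvd_rfl K).mapMatrix M5 := by
  show (uMat 1 (0 : K) 1) * antiJ = _
  ext i j
  fin_cases i <;> fin_cases j <;> simp [uMat, antiJ, M5, Matrix.mul_apply, Fin.sum_univ_four, zero_pow]

include hK in
theorem orderOf_five : orderOf (U hK 0 1 * W hK) = 5 := by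
  haveI : Fact (Nat.Prime 5) := ⟨Nat.prime_five⟩
  have hinj : Function.Injective (ZMod.castHom (dvd_refl 2) K).mapMatrix
      (α := Matrix (Fin 4) (Fin 4) (ZMod 2)) :=
    Matrix.map_injective (ZMod.castHom (dvd_refl 2) K).injective
  rw [← orderOf_injective mat mat_injective, show mat (U hK 0 1 * W hK) = _ from five_val hK]
  refine (orderOf_injective ((ZMod.castHom (dvd_refl 2) K).mapMatrix (m := Fin 4)).toMonoidHom hinj M5).trans ?_
  exact orderOf_eq_prime (by decide +kernel) (by decide +kernel)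

include hK in
theorem five_fixed (τ : K →+* K) : (U hK 0 1 * W hK).1.1.map τ = (U hK 0 1 * W hK).1.1 := by
  rw [five_val hK]
  ext i j
  simp only [RingHom.mapMatrix_apply, Matrix.map_apply]
  exact RingHom.congr_fun (Subsingleton.elim (τ.comp (ZMod.castHom dvd_rfl K)) (ZMod.castHom dvd_rfl K)) _

include hK in
theorem witness_six : ∃ q : Q K, orderOf q = 3 ∧ act q 1 = 1 := by
  refine ⟨SemidirectProduct.inr ⟨frobeniusEquiv K 2, Subgroup.mem_zpowers _⟩, ?_, ?_⟩
  · rw [orderOf_injective _ SemidirectProduct.inr_injective, Subgroup.orderOf_mk, ← Nat.card_zpowers,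
      card_C3 hK]
  · have h1 : lm (SemidirectProduct.inr ⟨frobeniusEquiv K 2, Subgroup.mem_zpowers _⟩ : Q K) = 1 := rfl
    simp [act, h1]

include hK in
theorem witness_ten : ∃ q : Q K, orderOf q = 5 ∧ act q antiJ = antiJ := by
  refine ⟨SemidirectProduct.inl (U hK 0 1 * W hK), ?_, ?_⟩
  · rw [orderOf_injective _ SemidirectProduct.inl_injective, orderOf_five hK]
  · show (U hK 0 1 * W hK).1.1 * (antiJ : Matrix (Fin 4) (Fin 4) K).map id *
      ((U hK 0 1 * W hK).1.1.map σ)ᵀ = antiJ
    rw [five_fixed hK σ, Matrix.map_id]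
    exact sp4_row (sz_mem (U hK 0 1 * W hK).2).1

include hK in
theorem witness_fifteen : ∃ q : Q K, orderOf q = 15 := by
  set a : Q K := SemidirectProduct.inl (U hK 0 1 * W hK) with ha
  set b : Q K := SemidirectProduct.inr ⟨frobeniusEquiv K 2, Subgroup.mem_zpowers _⟩ with hb
  have hc : Commute a b := by
    show a * b = b * a
    ext1
    · refine Subtype.ext (Units.ext ?_)
      simp only [ha, hb, SemidirectProduct.mul_left, SemidirectProduct.left_inl,
        SemidirectProduct.left_inr, SemidirectProduct.right_inl, SemidirectProduct.right_inr, map_one,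
        mul_one, one_mul, MulAut.one_apply]
      exact (five_fixed hK _).symm
    · simp [ha, hb]
  refine ⟨a * b, ?_⟩
  have h5 : orderOf a = 5 := by
    rw [ha, orderOf_injective _ SemidirectProduct.inl_injective, orderOf_five hK]
  have h3 : orderOf b = 3 := by
    rw [hb, orderOf_injective _ SemidirectProduct.inr_injective, Subgroup.orderOf_mk,
      ← Nat.card_zpowers, card_C3 hK]
  rw [hc.orderOf_mul_eq_mul_orderOf_of_coprime (by rw [h5, h3]; norm_num), h5, h3]

include hK in
theorem witness_fourteen :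
    ∃ q : Q K, orderOf q = 7 ∧ act q (Matrix.single 1 0 1) = Matrix.single 1 0 1 := by
  haveI : Fact (Nat.Prime 7) := ⟨by norm_num⟩
  obtain ⟨u, hu⟩ := exists_prime_orderOf_dvd_card' (G := Kˣ) 7
    (by rw [Nat.card_units, Nat.card_eq_fintype_card, hK]; norm_num)
  refine ⟨SemidirectProduct.inl (T hK u), ?_, ?_⟩
  · rw [orderOf_injective _ SemidirectProduct.inl_injective, ← hu]
    exact orderOf_injective (MonoidHom.mk' (T hK) fun a b => (T_mul hK a b).symm) (T_injective hK) u
  · have h7 : (u : K) ^ 7 = 1 := by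
      rw [← Units.val_pow_eq_pow_val, ← hu, pow_orderOf_eq_one, Units.val_one]
    show (torus (2 ^ (1 + 1)) u).1 * (Matrix.single 1 0 (1 : K)).map id *
      ((torus (2 ^ (1 + 1)) u).1.map σ)ᵀ = Matrix.single 1 0 1
    simp only [torus, Matrix.diagonal_map (map_zero σ), Matrix.diagonal_transpose, Matrix.map_id]
    ext i j
    rw [Matrix.mul_diagonal, Matrix.diagonal_mul]
    by_cases h : i = 1 ∧ j = 0
    · obtain ⟨rfl, rfl⟩ := h
      simp [σ_apply]
      linear_combination ((u : K) ^ 14 + (u : K) ^ 7 + 1) * h7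
    · rw [Matrix.single_apply_of_ne _ _ _ _ _ (fun e => h ⟨e.1.symm, e.2.symm⟩)]
      simp

/-! ### The prime graph of `Vᵏ ⋊ Q` -/

/-- The group with `k` copies of the module. -/
abbrev H (K : Type) [Field K] [Fintype K] [CharP K 2] (k : ℕ) : Type :=
  (Fin k → Multiplicative (Matrix (Fin 4) (Fin 4) K)) ⋊[powAct (actV K) k] Q K

theorem orderOf_const {q : Q K} {X : Matrix (Fin 4) (Fin 4) K} (hX : act q X = X) (h0 : X ≠ 0)
    {k : ℕ} (hk : 0 < k) (hodd : ¬ 2 ∣ orderOf q) : ∃ x : H K k, orderOf x = 2 * orderOf q := by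
  haveI : Fact (Nat.Prime 2) := ⟨Nat.prime_two⟩
  set v : Fin k → Multiplicative (Matrix (Fin 4) (Fin 4) K) := fun _ => Multiplicative.ofAdd X with hv
  have hfix : powAct (actV K) k q v = v := funext fun _ => congrArg Multiplicative.ofAdd hX
  have hv2 : orderOf v = 2 := orderOf_eq_prime (funext fun _ => two_torsion _) fun h =>
    h0 (congrArg Multiplicative.toAdd (congrFun h ⟨0, hk⟩))
  refine ⟨⟨v, q⟩, ?_⟩
  rw [orderOf_mk_of_fixed hfix, hv2]
  exact (Nat.Prime.coprime_iff_not_dvd Nat.prime_two).2 hodd |>.lcm_eq_mul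

include hK in
theorem edge_facts {k : ℕ} (hk : 0 < k) :
    (∀ m ∈ [6, 10, 14, 15], m ∈ Set.range (orderOf : H K k → ℕ)) ∧
    (∀ m ∈ [26, 21, 39, 35, 65, 91], m ∉ Set.range (orderOf : H K k → ℕ)) := by
  classical
  constructor
  · simp only [List.mem_cons, List.not_mem_nil, or_false]
    rintro m (rfl | rfl | rfl | rfl)
    · obtain ⟨q, hq, hX⟩ := witness_six hK
      obtain ⟨x, hx⟩ := orderOf_const hX one_ne_zero hk (by rw [hq]; norm_num)
      exact ⟨x, by rw [hx, hq]⟩
    · obtain ⟨q, hq, hX⟩ := witness_ten hK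
      have h0 : (antiJ : Matrix (Fin 4) (Fin 4) K) ≠ 0 := fun e => by
        simpa [antiJ] using congrFun (congrFun e 0) 3
      obtain ⟨x, hx⟩ := orderOf_const hX h0 hk (by rw [hq]; norm_num)
      exact ⟨x, by rw [hx, hq]⟩
    · obtain ⟨q, hq, hX⟩ := witness_fourteen hK
      have h0 : (Matrix.single 1 0 (1 : K) : Matrix (Fin 4) (Fin 4) K) ≠ 0 := fun e => by
        simpa using congrFun (congrFun e 1) 0
      obtain ⟨x, hx⟩ := orderOf_const hX h0 hk (by rw [hq]; norm_num)
      exact ⟨x, by rw [hx, hq]⟩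
    · obtain ⟨q, hq⟩ := witness_fifteen hK
      exact ⟨SemidirectProduct.inr q, by rw [orderOf_injective _ SemidirectProduct.inr_injective, hq]⟩
  · have hfpf : ∀ x : H K k, orderOf x.right = 13 → orderOf x = 13 := fun x hx => by
      rw [orderOf_eq_of_fixedPointFree x (pow_fixedPointFree fun v hv =>
        congrArg Multiplicative.ofAdd (fpf_thirteen hK hx (congrArg Multiplicative.toAdd hv))), hx]
    have hodd : ∀ (x : H K k) {m : ℕ}, orderOf x = m → ¬ 2 ∣ m → orderOf x.right = m := by
      intro x m hx hm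
      rcases orderOf_pow_cases Nat.prime_two two_torsion x with h | ⟨h, -⟩
      · omega
      · exact absurd ⟨_, hx ▸ h⟩ hm
    simp only [List.mem_cons, List.not_mem_nil, or_false]
    rintro m (rfl | rfl | rfl | rfl | rfl | rfl) ⟨x, hx⟩
    · rcases orderOf_pow_cases Nat.prime_two two_torsion x with h | ⟨h, -⟩
      · obtain ⟨g, hg⟩ := exists_S hK (n := 26) (by norm_num) (x := x.right) (by omega)
        exact no_order_26 hK g hg
      · have := hfpf x (by omega)
        omega
    · exact no_order_three_mul hK (Or.inl rfl) x.right (hodd x hx (by norm_num))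
    · exact no_order_three_mul hK (Or.inr rfl) x.right (hodd x hx (by norm_num))
    · obtain ⟨g, hg⟩ := exists_S hK (n := 35) (by norm_num) (hodd x hx (by norm_num))
      exact no_order_seven_mul hK (a := 5) (Or.inl rfl) g hg
    · obtain ⟨g, hg⟩ := exists_S hK (n := 65) (by norm_num) (hodd x hx (by norm_num))
      exact no_order_65 hK g hg
    · obtain ⟨g, hg⟩ := exists_S hK (n := 91) (by norm_num) (hodd x hx (by norm_num))
      exact no_order_seven_mul hK (a := 13) (Or.inr rfl) g hg

include hK in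
theorem dvd_card_iff (k : ℕ) {r : ℕ} (hr : r.Prime) :
    r ∣ Nat.card (H K k) ↔ r = 2 ∨ r = 3 ∨ r = 5 ∨ r = 7 ∨ r = 13 := by
  have hcard : Nat.card (H K k) = (8 ^ 16) ^ k * 87360 := by
    have hV : Nat.card (Multiplicative (Matrix (Fin 4) (Fin 4) K)) = 8 ^ 16 := by
      rw [Nat.card_congr (Multiplicative.toAdd : _ ≃ Matrix (Fin 4) (Fin 4) K),
        Nat.card_congr (Matrix.of.symm : _ ≃ (Fin 4 → Fin 4 → K)), Nat.card_fun, Nat.card_fun,
        Nat.card_eq_fintype_card, hK, Nat.card_fin]
      norm_num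
    rw [card_pow_semidirect, hV, card_Q hK]
  rw [hcard]
  constructor
  · intro h
    have h' : r ∣ (2 * (3 * (5 * (7 * 13)))) ^ 100 * 2 ^ (48 * k) := by
      refine h.trans ⟨(2 * (3 * (5 * (7 * 13)))) ^ 100 / 87360, ?_⟩
      rw [show (8 : ℕ) = 2 ^ 3 from rfl, ← pow_mul, ← pow_mul, mul_assoc (2 ^ _), Nat.mul_div_cancel'
        (by norm_num), mul_comm]
      congr 2
      ring
    have key : ∀ {a : ℕ}, a.Prime → r ∣ a → r = a := fun ha hd =>
      (Nat.prime_dvd_prime_iff_eq hr ha).1 hd
    rcases hr.dvd_mul.1 h' with h' | h'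
    · have h' := hr.dvd_of_dvd_pow h'
      rcases hr.dvd_mul.1 h' with h | h
      · exact Or.inl (key Nat.prime_two h)
      rcases hr.dvd_mul.1 h with h | h
      · exact Or.inr (Or.inl (key Nat.prime_three h))
      rcases hr.dvd_mul.1 h with h | h
      · exact Or.inr (Or.inr (Or.inl (key Nat.prime_five h)))
      rcases hr.dvd_mul.1 h with h | h
      · exact Or.inr (Or.inr (Or.inr (Or.inl (key (by norm_num) h))))
      · exact Or.inr (Or.inr (Or.inr (Or.inr (key (by norm_num) h))))
    · exact Or.inl (key Nat.prime_two (hr.dvd_of_dvd_pow h'))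
  · intro h
    refine Dvd.dvd.mul_left ?_ _
    rcases h with rfl | rfl | rfl | rfl | rfl <;> norm_num

end

end CfsgLib.Spectrum.SzEight
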