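import Mathlib

/-!
For `n ≥ 6` there are two primes in `(n, 2n]`: Erdős' proof of Bertrand's postulate with one
exceptional prime allowed.
-/

set_option autoImplicit false

namespace CfsgLib.Spectrum

open Real in
theorem two_primes_real_inequality {x : ℝ} (x_large : (512 : ℝ) ≤ x) :
    2 * x * x * (2 * x) ^ √(2 * x) * 4 ^ (2 * x / 3) ≤ 4 ^ x := by
  let f : ℝ → ℝ := fun x => (log 2 + log x + log x) + √(2 * x) * log (2 * x) - log 4 / 3 * x
  have hf' : ∀ x, 0 < x → 0 < 2 * x * x * (2 * x) ^ √(2 * x) / 4 ^ (x / 3) := fun x h => by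
    positivity
  have hf : ∀ x, 0 < x → f x = log (2 * x * x * (2 * x) ^ √(2 * x) / 4 ^ (x / 3)) := by
    intro x h5
    have h6 := mul_pos (zero_lt_two' ℝ) h5
    have h7 := rpow_pos_of_pos h6 (√(2 * x))
    rw [log_div (mul_pos (mul_pos h6 h5) h7).ne' (rpow_pos_of_pos four_pos _).ne',
      log_mul (mul_pos h6 h5).ne' h7.ne', log_mul h6.ne' h5.ne', log_mul two_ne_zero h5.ne',
      log_rpow h6, log_rpow zero_lt_four]
    simp only [f, log_mul two_ne_zero h5.ne']
    ring
  have h5 : 0 < x := lt_of_lt_of_le (by norm_num1) x_large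
  rw [← div_le_one (rpow_pos_of_pos four_pos x), ← div_div_eq_mul_div, ← rpow_sub four_pos, ←
    mul_div 2 x, mul_div_left_comm, ← mul_one_sub, (by norm_num1 : (1 : ℝ) - 2 / 3 = 1 / 3),
    mul_one_div, ← log_nonpos_iff (hf' x h5).le, ← hf x h5]
  have h : ConcaveOn ℝ (Set.Ioi 0.5) f := by
    apply ConcaveOn.sub
    · apply ConcaveOn.add
      · have hl : ConcaveOn ℝ (Set.Ioi (0.5 : ℝ)) log := strictConcaveOn_log_Ioi.concaveOn.subset
          (Set.Ioi_subset_Ioi (by norm_num)) (convex_Ioi 0.5)
        exact ((concaveOn_const _ (convex_Ioi _)).add hl).add hl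
      convert!
        ((strictConcaveOn_sqrt_mul_log_Ioi.concaveOn.comp_linearMap ((2 : ℝ) • LinearMap.id)))
        using 1
      ext x
      simp only [Set.mem_Ioi, Set.mem_preimage, LinearMap.smul_apply,
        LinearMap.id_coe, id_eq, smul_eq_mul]
      rw [← mul_lt_mul_iff_right₀ (two_pos)]
      norm_num1
      rfl
    apply ConvexOn.smul
    · refine div_nonneg (log_nonneg (by norm_num1)) (by norm_num1)
    · exact convexOn_id (convex_Ioi (0.5 : ℝ))
  suffices ∃ x1 x2, 0.5 < x1 ∧ x1 < x2 ∧ x2 ≤ x ∧ 0 ≤ f x1 ∧ f x2 ≤ 0 by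
    obtain ⟨x1, x2, h1, h2, h0, h3, h4⟩ := this
    exact (h.right_le_of_le_left'' h1 ((h1.trans h2).trans_le h0) h2 h0 (h4.trans h3)).trans h4
  refine ⟨18, 512, by norm_num1, by norm_num1, x_large, ?_, ?_⟩
  · have : √(2 * 18 : ℝ) = 6 := (sqrt_eq_iff_mul_self_eq_of_pos (by norm_num1)).mpr (by norm_num1)
    rw [hf _ (by norm_num1), log_nonneg_iff (by positivity), this, one_le_div (by norm_num1)]
    norm_num1
  · have : √(2 * 512) = 32 :=
      (sqrt_eq_iff_mul_self_eq_of_pos (by norm_num1)).mpr (by norm_num1)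
    rw [hf _ (by norm_num1), log_nonpos_iff (hf' _ (by norm_num1)).le, this,
        div_le_one (by positivity)]
    conv in 2 * 512 * 512 => equals 2 ^ 19 => norm_num1
    conv in 2 * 512 => equals 2 ^ 10 => norm_num1
    conv in 32 => rw [← Nat.cast_ofNat]
    rw [rpow_natCast, ← pow_mul, ← pow_add]
    conv in 4 => equals 2 ^ (2 : ℝ) => rw [rpow_two]; norm_num1
    rw [← rpow_mul, ← rpow_natCast]
    on_goal 1 => apply rpow_le_rpow_of_exponent_le
    all_goals norm_num1

open Nat in
theorem two_primes_nat_inequality {n : ℕ} (n_large : 512 ≤ n) :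
    2 * n * n * (2 * n) ^ sqrt (2 * n) * 4 ^ (2 * n / 3) ≤ 4 ^ n := by
  rw [← @cast_le ℝ]
  simp only [cast_mul, cast_pow, ← Real.rpow_natCast, cast_ofNat]
  refine _root_.trans ?_ (two_primes_real_inequality (by exact_mod_cast n_large))
  gcongr
  · have n2_pos : 0 < 2 * n := by positivity
    exact mod_cast n2_pos
  · exact_mod_cast Real.nat_sqrt_le_real_sqrt
  · norm_num1
  · exact cast_div_le.trans (by norm_cast)

open Nat in
theorem centralBinom_le_of_one_prime (n r : ℕ) (n_large : 2 < n)
    (hone : ∀ p : ℕ, p.Prime → n < p → p ≤ 2 * n → p = r) :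
    centralBinom n ≤ (2 * n) ^ sqrt (2 * n) * 4 ^ (2 * n / 3) * (2 * n) := by
  have n_pos : 0 < n := by omega
  have n2_pos : 1 ≤ 2 * n := by omega
  let f x := x ^ n.centralBinom.factorization x
  have hle : ∀ p, f p ≤ 2 * n := fun p => pow_factorization_choose_le (mul_pos two_pos n_pos)
  let S := {p ∈ Finset.range (2 * n / 3 + 1) | Nat.Prime p}
  have hsub : centralBinom n ≤ (∏ x ∈ S, f x) * (2 * n) := by
    conv_lhs => rw [← n.prod_pow_factorization_centralBinom]
    have h1 : ∏ x ∈ Finset.range (2 * n + 1), f x =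
        ∏ x ∈ (Finset.range (2 * n + 1)).filter (fun x => x ∈ S ∨ x = r), f x := by
      refine (Finset.prod_filter_of_ne fun x hx hne => ?_).symm
      by_contra hnot
      rw [not_or] at hnot
      apply hne
      show x ^ _ = 1
      by_cases hp : x.Prime
      · have hxS : ¬ x < 2 * n / 3 + 1 := fun h =>
          hnot.1 (Finset.mem_filter.2 ⟨Finset.mem_range.2 h, hp⟩)
        rw [Finset.mem_range, Nat.lt_succ_iff] at hx
        have hxn : x ≤ n := not_lt.1 fun h => hnot.2 (hone x hp h hx)
        have h2x : 2 * n < 3 * x := by omega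
        rw [factorization_centralBinom_of_two_mul_self_lt_three_mul n_large hxn h2x, Nat.pow_zero]
      · rw [factorization_eq_zero_of_not_prime n.centralBinom hp, Nat.pow_zero]
    refine h1.trans_le ?_
    have hfpos : ∀ x ∈ S, 1 ≤ f x := fun x hx =>
      Nat.one_le_pow _ _ (Finset.mem_filter.1 hx).2.pos
    by_cases hrS : r ∈ S
    · refine le_trans (Finset.prod_le_prod_of_subset_of_one_le' ?_ fun x hx _ => hfpos x hx)
        (Nat.le_mul_of_pos_right _ n2_pos)
      intro x hx
      rcases (Finset.mem_filter.1 hx).2 with h | h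
      · exact h
      · exact h ▸ hrS
    · by_cases hr0 : f r = 0
      · by_cases hrr : r ∈ (Finset.range (2 * n + 1)).filter (fun x => x ∈ S ∨ x = r)
        · rw [Finset.prod_eq_zero hrr hr0]; exact Nat.zero_le _
        · refine le_trans (Finset.prod_le_prod_of_subset_of_one_le' ?_ fun x hx _ => hfpos x hx)
            (Nat.le_mul_of_pos_right _ n2_pos)
          intro x hx
          rcases (Finset.mem_filter.1 hx).2 with h | h
          · exact h
          · exact absurd (h ▸ hx) hrr
      · refine le_trans (Finset.prod_le_prod_of_subset_of_one_le' (t := insert r S) ?_ ?_) ?_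
        · intro x hx
          rcases (Finset.mem_filter.1 hx).2 with h | h
          · exact Finset.mem_insert_of_mem h
          · exact h ▸ Finset.mem_insert_self _ _
        · intro x hx _
          rcases Finset.mem_insert.1 hx with h | h
          · exact h ▸ Nat.one_le_iff_ne_zero.2 hr0
          · exact hfpos x h
        · rw [Finset.prod_insert hrS, mul_comm]
          exact Nat.mul_le_mul_left _ (hle r)
  refine hsub.trans (Nat.mul_le_mul_right _ ?_)
  rw [← Finset.prod_filter_mul_prod_filter_not S (· ≤ sqrt (2 * n))]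
  apply mul_le_mul'
  · refine (Finset.prod_le_prod' fun p _ => hle p).trans ?_
    have : (Finset.Icc 1 (sqrt (2 * n))).card = sqrt (2 * n) := by rw [card_Icc, Nat.add_sub_cancel]
    rw [Finset.prod_const]
    refine pow_right_mono₀ n2_pos ((Finset.card_le_card fun x hx => ?_).trans this.le)
    obtain ⟨h1, h2⟩ := Finset.mem_filter.1 hx
    exact Finset.mem_Icc.mpr ⟨(Finset.mem_filter.1 h1).2.one_lt.le, h2⟩
  · refine le_trans ?_ (primorial_le_four_pow (2 * n / 3))
    refine (Finset.prod_le_prod' fun p hp => (?_ : f p ≤ p)).trans ?_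
    · obtain ⟨h1, h2⟩ := Finset.mem_filter.1 hp
      refine (pow_right_mono₀ (Finset.mem_filter.1 h1).2.one_lt.le ?_).trans (pow_one p).le
      exact Nat.factorization_choose_le_one (sqrt_lt'.mp <| not_le.1 h2)
    refine Finset.prod_le_prod_of_subset_of_one_le' (Finset.filter_subset _ _) ?_
    exact fun p hp _ => (Finset.mem_filter.1 hp).2.one_lt.le

/-- Two primes between `n` and `2n`. -/
theorem exists_two_primes_lt_and_le_two_mul {n : ℕ} (hn : 6 ≤ n) :
    ∃ p q : ℕ, p.Prime ∧ q.Prime ∧ p ≠ q ∧ n < p ∧ p ≤ 2 * n ∧ n < q ∧ q ≤ 2 * n := by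
  rcases lt_or_ge n 512 with h | h
  · have key : ∀ p q : ℕ, p.Prime → q.Prime → p < q → n < p → q ≤ 2 * n →
        ∃ p q : ℕ, p.Prime ∧ q.Prime ∧ p ≠ q ∧ n < p ∧ p ≤ 2 * n ∧ n < q ∧ q ≤ 2 * n :=
      fun p q hp hq hpq h1 h2 => ⟨p, q, hp, hq, hpq.ne, h1, by omega, by omega, h2⟩
    by_cases n < 7; · exact key 7 11 (by norm_num) (by norm_num) (by norm_num) (by omega) (by omega)
    by_cases n < 11; · exact key 11 13 (by norm_num) (by norm_num) (by norm_num) (by omega) (by omega)
    by_cases n < 17; · exact key 17 19 (by norm_num) (by norm_num) (by norm_num) (by omega) (by omega)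
    by_cases n < 29; · exact key 29 31 (by norm_num) (by norm_num) (by norm_num) (by omega) (by omega)
    by_cases n < 47; · exact key 47 53 (by norm_num) (by norm_num) (by norm_num) (by omega) (by omega)
    by_cases n < 83; · exact key 83 89 (by norm_num) (by norm_num) (by norm_num) (by omega) (by omega)
    by_cases n < 157; · exact key 157 163 (by norm_num) (by norm_num) (by norm_num) (by omega) (by omega)
    by_cases n < 307; · exact key 307 311 (by norm_num) (by norm_num) (by norm_num) (by omega) (by omega)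
    exact key 599 601 (by norm_num) (by norm_num) (by norm_num) (by omega) (by omega)
  obtain ⟨p, hp, hp1, hp2⟩ := Nat.exists_prime_lt_and_le_two_mul n (by omega)
  by_contra hno
  have hone : ∀ q : ℕ, q.Prime → n < q → q ≤ 2 * n → q = p := fun q hq h1 h2 => by
    by_contra hne
    exact hno ⟨q, p, hq, hp, hne, h1, h2, hp1, hp2⟩
  have h4 := Nat.four_pow_lt_mul_centralBinom n (by omega)
  have h5 : n * n.centralBinom ≤ 4 ^ n := by
    refine le_trans (Nat.mul_le_mul_left n (centralBinom_le_of_one_prime n p (by omega) hone)) ?_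
    refine le_trans (le_of_eq ?_) (two_primes_nat_inequality h)
    ring
  omega

/-- Two primes in `(n/2, n]`. -/
theorem exists_two_primes_half {n : ℕ} (hn : 11 ≤ n) :
    ∃ p q : ℕ, p.Prime ∧ q.Prime ∧ p ≠ q ∧ n < 2 * p ∧ p ≤ n ∧ n < 2 * q ∧ q ≤ n := by
  by_cases h : n = 11
  · subst h
    exact ⟨7, 11, by norm_num, by norm_num, by norm_num, by norm_num, by norm_num, by norm_num,
      by norm_num⟩
  obtain ⟨p, q, hp, hq, hpq, a, b, c, d⟩ := exists_two_primes_lt_and_le_two_mul (n := n / 2) (by omega)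
  exact ⟨p, q, hp, hq, hpq, by omega, by omega, by omega, by omega⟩

end CfsgLib.Spectrum
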