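import Mathlib
import Cfsg.Agent.Lib.Spectrum.Semidirect
import Cfsg.Agent.Lib.Spectrum.Suzuki
import Cfsg.Agent.Lib.Spectrum.O48
import Cfsg.Agent.Lib.Solvable.BurnsideHall

/-!
The solvable Frobenius group `7^4 : (3 : 8)` with element orders 1, 2, 3, 4, 6, 7, 8, 12.
-/

set_option autoImplicit false

namespace CfsgLib.Spectrum.U33Frob

open Matrix

local instance fact7 : Fact (Nat.Prime 7) := ⟨by norm_num⟩

/-- An element of order three. -/
def rM : Matrix (Fin 4) (Fin 4) (ZMod 7) := !![2,0,0,0;0,2,0,0;0,0,4,0;0,0,0,4]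

/-- An element of order eight inverting it. -/
def sM : Matrix (Fin 4) (Fin 4) (ZMod 7) := !![0,0,0,6;0,0,1,0;1,0,0,0;0,1,0,0]

/-- Product of row-major `4 × 4` matrices modulo 7. -/
def mulC (A B : List ℕ) : List ℕ :=
  (List.range 16).map fun t =>
    (A.getD (4 * (t / 4)) 0 * B.getD (t % 4) 0 + A.getD (4 * (t / 4) + 1) 0 * B.getD (4 + t % 4) 0 +
     A.getD (4 * (t / 4) + 2) 0 * B.getD (8 + t % 4) 0 + A.getD (4 * (t / 4) + 3) 0 * B.getD (12 + t % 4) 0) % 7

/-- Interpretation of a code. -/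
def toMat (A : List ℕ) : Matrix (Fin 4) (Fin 4) (ZMod 7) :=
  Matrix.of fun i j => (A.getD (4 * i.val + j.val) 0 : ZMod 7)

theorem toMat_mul (A B : List ℕ) : toMat (mulC A B) = toMat A * toMat B := by
  ext i j
  fin_cases i <;> fin_cases j <;> simp [toMat, mulC, Matrix.mul_apply, Fin.sum_univ_four]

def oneC : List ℕ := [1,0,0,0,0,1,0,0,0,0,1,0,0,0,0,1]

theorem toMat_one : toMat oneC = 1 := by
  ext i j; fin_cases i <;> fin_cases j <;> simp [toMat, oneC]

def rC : List ℕ := [2,0,0,0,0,2,0,0,0,0,4,0,0,0,0,4]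

def sC : List ℕ := [0,0,0,6,0,0,1,0,1,0,0,0,0,1,0,0]

theorem toMat_gens : toMat rC = rM ∧ toMat sC = sM := by decide +kernel

def powC (A : List ℕ) : ℕ → List ℕ
  | 0 => oneC
  | n + 1 => mulC (powC A n) A

theorem toMat_powC (A : List ℕ) : ∀ n, toMat (powC A n) = toMat A ^ n
  | 0 => by simp [powC, toMat_one]
  | n + 1 => by rw [powC, toMat_mul, toMat_powC A n, pow_succ]

/-- All the elements. -/
def els : List (List ℕ) :=
  [[1,0,0,0,0,1,0,0,0,0,1,0,0,0,0,1],
   [0,0,0,6,0,0,1,0,1,0,0,0,0,1,0,0],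
   [0,6,0,0,1,0,0,0,0,0,0,6,0,0,1,0],
   [0,0,6,0,0,0,0,6,0,6,0,0,1,0,0,0],
   [6,0,0,0,0,6,0,0,0,0,6,0,0,0,0,6],
   [0,0,0,1,0,0,6,0,6,0,0,0,0,6,0,0],
   [0,1,0,0,6,0,0,0,0,0,0,1,0,0,6,0],
   [0,0,1,0,0,0,0,1,0,1,0,0,6,0,0,0],
   [2,0,0,0,0,2,0,0,0,0,4,0,0,0,0,4],
   [0,0,0,5,0,0,2,0,4,0,0,0,0,4,0,0],
   [0,5,0,0,2,0,0,0,0,0,0,3,0,0,4,0],
   [0,0,5,0,0,0,0,5,0,3,0,0,4,0,0,0],
   [5,0,0,0,0,5,0,0,0,0,3,0,0,0,0,3],
   [0,0,0,2,0,0,5,0,3,0,0,0,0,3,0,0],
   [0,2,0,0,5,0,0,0,0,0,0,4,0,0,3,0],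
   [0,0,2,0,0,0,0,2,0,4,0,0,3,0,0,0],
   [4,0,0,0,0,4,0,0,0,0,2,0,0,0,0,2],
   [0,0,0,3,0,0,4,0,2,0,0,0,0,2,0,0],
   [0,3,0,0,4,0,0,0,0,0,0,5,0,0,2,0],
   [0,0,3,0,0,0,0,3,0,5,0,0,2,0,0,0],
   [3,0,0,0,0,3,0,0,0,0,5,0,0,0,0,5],
   [0,0,0,4,0,0,3,0,5,0,0,0,0,5,0,0],
   [0,4,0,0,3,0,0,0,0,0,0,2,0,0,5,0],
   [0,0,4,0,0,0,0,4,0,2,0,0,5,0,0,0]]

/-- The conditions on one element. -/
def ok (A : List ℕ) : Bool :=
  (decide (powC A 8 = oneC) || decide (powC A 12 = oneC)) &&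
    (decide (A = oneC) || decide ((toMat A - 1).det ≠ 0))

theorem cert : oneC ∈ els ∧ (∀ A ∈ els, mulC A rC ∈ els) ∧
    (∀ A ∈ els, mulC A sC ∈ els) ∧ ∀ A ∈ els, ok A = true := by
  decide +kernel

def rU : GL (Fin 4) (ZMod 7) := ⟨rM, rM ^ 2, by decide +kernel, by decide +kernel⟩

def sU : GL (Fin 4) (ZMod 7) := ⟨sM, sM ^ 7, by decide +kernel, by decide +kernel⟩

/-- The complement. -/
def K : Subgroup (GL (Fin 4) (ZMod 7)) := Subgroup.closure {rU, sU}

/-- The matrix of an element of `K`. -/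
def mat (g : K) : Matrix (Fin 4) (Fin 4) (ZMod 7) := ((g : GL (Fin 4) (ZMod 7)) : Matrix _ _ _)

theorem mem_els {g : GL (Fin 4) (ZMod 7)} (hg : g ∈ K) :
    ∃ A ∈ els, (g : Matrix (Fin 4) (Fin 4) (ZMod 7)) = toMat A := by
  rw [K, ← Subgroup.mem_toSubmonoid, Subgroup.closure_toSubmonoid_of_finite] at hg
  induction hg using Submonoid.closure_induction_right with
  | one => exact ⟨oneC, cert.1, by simp [toMat_one]⟩
  | mul_right u _ v hv ih =>
    obtain ⟨A, hA, hA'⟩ := ih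
    rcases hv with rfl | rfl
    · exact ⟨_, cert.2.1 A hA, by rw [toMat_mul, Units.val_mul, hA', toMat_gens.1]; rfl⟩
    · exact ⟨_, cert.2.2.1 A hA, by rw [toMat_mul, Units.val_mul, hA', toMat_gens.2]; rfl⟩

theorem pow_cases (g : K) : g ^ 8 = 1 ∨ g ^ 12 = 1 := by
  obtain ⟨A, hA, hA'⟩ := mem_els g.2
  have h := cert.2.2.2 _ hA
  simp only [ok, Bool.and_eq_true, Bool.or_eq_true, decide_eq_true_eq] at h
  refine h.1.imp (fun e => ?_) (fun e => ?_) <;>
  · refine Subtype.ext (Units.ext ?_)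
    have e' := congrArg toMat e
    rw [toMat_powC, toMat_one, ← hA'] at e'
    simpa using e'

theorem fixed_eq_zero {g : K} (hg : g ≠ 1) {v : Fin 4 → ZMod 7} (hv : mat g *ᵥ v = v) : v = 0 := by
  obtain ⟨A, hA, hA'⟩ := mem_els g.2
  have h := cert.2.2.2 _ hA
  simp only [ok, Bool.and_eq_true, Bool.or_eq_true, decide_eq_true_eq] at h
  rcases h.2 with e | e
  · exact absurd (Subtype.ext (Units.ext (by rw [hA', e, toMat_one]; rfl))) hg
  · rw [← hA'] at e
    refine Matrix.eq_zero_of_mulVec_eq_zero e ?_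
    show (mat g - 1) *ᵥ v = 0
    rw [Matrix.sub_mulVec, hv, Matrix.one_mulVec, sub_self]

theorem orderOf_mem (g : K) : orderOf g ∈ ({1, 2, 3, 4, 6, 8, 12} : Finset ℕ) := by
  have key : ∀ n ∈ [8, 12], ∀ d < 13, d ∣ n → d ∈ ({1, 2, 3, 4, 6, 8, 12} : Finset ℕ) := by decide
  rcases pow_cases g with h | h
  · have hd := orderOf_dvd_of_pow_eq_one h
    exact key 8 (by simp) _ (lt_of_le_of_lt (Nat.le_of_dvd (by norm_num) hd) (by norm_num)) hd
  · have hd := orderOf_dvd_of_pow_eq_one h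
    exact key 12 (by simp) _ (Nat.lt_succ_of_le (Nat.le_of_dvd (by norm_num) hd)) hd

theorem exists_orders : ∀ d ∈ ({1, 2, 3, 4, 6, 8, 12} : Finset ℕ), ∃ g : K, orderOf g = d := by
  have ord : ∀ (u : K) (n : ℕ), 0 < n → (mat u ^ n = 1 ∧ ∀ k < n, 0 < k → mat u ^ k ≠ 1) →
      ∀ e, e ∣ n → ∃ g : K, orderOf g = e := by
    intro u n hn hC e he
    have ho : orderOf u = n := by
      refine (orderOf_eq_iff hn).2 ⟨Subtype.ext (Units.ext ?_), fun k hk hk0 hk1 => hC.2 k hk hk0 ?_⟩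
      · simpa [mat] using hC.1
      · have := congrArg mat hk1
        simpa [mat] using this
    refine ⟨u ^ (n / e), ?_⟩
    conv_lhs => rw [← ho]
    rw [orderOf_pow_orderOf_div (by omega) (by rw [ho]; exact he)]
  have hr : rU ∈ K := Subgroup.subset_closure (by simp)
  have hs : sU ∈ K := Subgroup.subset_closure (by simp)
  have o8 := ord ⟨sU, hs⟩ 8 (by norm_num)
    (show sM ^ 8 = 1 ∧ ∀ k < 8, 0 < k → sM ^ k ≠ 1 by decide +kernel)
  have o12 := ord ⟨rU * (sU * sU), K.mul_mem hr (K.mul_mem hs hs)⟩ 12 (by norm_num)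
    (show (rM * (sM * sM)) ^ 12 = 1 ∧ ∀ k < 12, 0 < k → (rM * (sM * sM)) ^ k ≠ 1 by decide +kernel)
  intro d hd
  simp only [Finset.mem_insert, Finset.mem_singleton] at hd
  rcases hd with rfl | rfl | rfl | rfl | rfl | rfl | rfl
  · exact o8 1 (by norm_num)
  · exact o8 2 (by norm_num)
  · exact o12 3 (by norm_num)
  · exact o8 4 (by norm_num)
  · exact o12 6 (by norm_num)
  · exact o8 8 (by norm_num)
  · exact o12 12 (by norm_num)

theorem isSolvable_K : Group.IsSolvable K := by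
  refine CfsgLib.Solvable.isSolvable_of_primeFactors_card_le_two ?_
  refine le_trans (Finset.card_le_card (t := {2, 3}) fun p hp => ?_) (by decide)
  rw [Nat.mem_primeFactors] at hp
  haveI := Fact.mk hp.1
  obtain ⟨g, hg⟩ := exists_prime_orderOf_dvd_card' p hp.2.1
  have hm := orderOf_mem g
  rw [hg] at hm
  simp only [Finset.mem_insert, Finset.mem_singleton] at hm ⊢
  rcases hm with e | e | e | e | e | e | e <;> subst e <;> first | (norm_num at hp; done) | decide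

/-- The natural module. -/
abbrev M := Multiplicative (Fin 4 → ZMod 7)

/-- The witness. -/
abbrev W := M ⋊[glVecAct K] K

theorem range_orderOf_W : Set.range (orderOf : W → ℕ) = {1, 2, 3, 4, 6, 7, 8, 12} := by
  have hfpf : ∀ g : K, g ≠ 1 → ∀ v : M, glVecAct K g v = v → v = 1 := by
    intro g hg v hv
    apply Multiplicative.toAdd.injective
    refine fixed_eq_zero hg ?_
    exact (glVecAct_apply g v).symm.trans (congrArg Multiplicative.toAdd hv)
  have hexp : ∀ v : M, v ^ 7 = 1 := fun v => by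
    apply Multiplicative.toAdd.injective
    rw [toAdd_pow, toAdd_one]
    funext i
    simp only [Pi.smul_apply, nsmul_eq_mul, Pi.zero_apply]
    rw [show ((7 : ℕ) : ZMod 7) = 0 from rfl, zero_mul]
  ext d
  constructor
  · rintro ⟨x, rfl⟩
    by_cases hx : x.right = 1
    · have hx' : x = SemidirectProduct.inl x.left := by ext <;> simp [hx]
      rw [hx', orderOf_injective _ SemidirectProduct.inl_injective]
      rcases (Nat.dvd_prime (by norm_num : Nat.Prime 7)).1 (orderOf_dvd_of_pow_eq_one (hexp x.left)) with h | h <;>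
        simp [h]
    · rw [orderOf_eq_of_fixedPointFree x (hfpf _ hx)]
      have := orderOf_mem x.right
      simp only [Finset.mem_insert, Finset.mem_singleton] at this
      simp only [Set.mem_insert_iff, Set.mem_singleton_iff]
      omega
  · intro hd
    by_cases h7 : d = 7
    · subst h7
      refine ⟨SemidirectProduct.inl (Multiplicative.ofAdd ![1, 0, 0, 0]), ?_⟩
      rw [orderOf_injective _ SemidirectProduct.inl_injective]
      exact orderOf_eq_prime (hexp _) (by decide)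
    · obtain ⟨g, hg⟩ := exists_orders d (by
        simp only [Set.mem_insert_iff, Set.mem_singleton_iff] at hd
        simp only [Finset.mem_insert, Finset.mem_singleton]
        omega)
      exact ⟨SemidirectProduct.inr g, by rw [orderOf_injective _ SemidirectProduct.inr_injective, hg]⟩

theorem isSolvable_W : Group.IsSolvable W := by
  haveI := isSolvable_K
  exact Group.isSolvable_of_ker_le_range (SemidirectProduct.inl : M →* W) SemidirectProduct.rightHom
    (le_of_eq SemidirectProduct.range_inl_eq_ker_rightHom.symm)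

end CfsgLib.Spectrum.U33Frob
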